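import Groth.Agent.EtSmAcycLib.Main
import Groth.Prelude.Def_PBC
import Groth.Agent.LocAcycPointLib.Main

/-!
# Consequences of smooth local acyclicity
-/

set_option autoImplicit false
set_option linter.all false
set_option backward.isDefEq.respectTransparency false
set_option backward.isDefEq.respectTransparency.types false

universe u

open CategoryTheory CategoryTheory.Limits AlgebraicGeometry Opposite
open Groth.Agent

noncomputable section

namespace EtSmAcycLib

theorem primesInvertibleOn_subset {X₁ X : Scheme.{u}} (b : X₁ ⟶ X) :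
    EtAcyc.primesInvertibleOn X ⊆ EtAcyc.primesInvertibleOn X₁ := fun p hp =>
  ⟨hp.1, fun x h => hp.2 (b.base x) ((b.residueFieldMap x).hom.injective (by rw [map_natCast, map_zero]; exact h))⟩

/-- Smooth morphisms are universally locally acyclic. -/
theorem isULocAcyclicN_of_smooth {X Y : Scheme.{u}} (g : X ⟶ Y) [Smooth g] (n : ℕ) :
    EtAcyc.IsULocAcyclicN g (EtAcyc.primesInvertibleOn X) n := by
  intro X₁ Y₁ g₁ b' b sq
  haveI : Smooth g₁ := MorphismProperty.of_isPullback sq inferInstance
  exact isLocAcyclicN_mono g₁ (primesInvertibleOn_subset b') n (isLocAcyclic_of_smooth g₁ n)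

theorem natCast_residueField_ne_zero' {S : Scheme.{u}} {n : ℕ} (hn : IsUnit (n : Γ(S, ⊤))) (s : S) :
    (n : S.residueField s) ≠ 0 :=
  LocAcycPointLib.natCast_residueField_ne_zero (𝟙 S) hn s

theorem primesIn_invertible {X S : Scheme.{u}} (f : X ⟶ S) {n : ℕ} (hn : IsUnit (n : Γ(S, ⊤))) (hn0 : 0 < n) :
    EtAcyc.PrimesIn (EtAcyc.primesInvertibleOn X) n := by
  refine ⟨hn0, fun p hp hd => ⟨hp, fun x => ?_⟩⟩
  obtain ⟨m, rfl⟩ := hd
  rw [Nat.cast_mul] at hn
  exact LocAcycPointLib.natCast_residueField_ne_zero f (isUnit_of_mul_isUnit_left hn) x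

/-- Sheaves killed by an integer invertible on the base are torsion for the invertible primes. -/
theorem isLTorsion_of_killedBy {X S : Scheme.{u}} (f : X ⟶ S) {n : ℕ} (hn : IsUnit (n : Γ(S, ⊤)))
    {F : EtCoh.Ab X} (hF : EtCoh.KilledBy n F) : EtAcyc.IsLTorsion (EtAcyc.primesInvertibleOn X) F := by
  intro U s x
  refine ⟨U, 𝟙 U, n, ⟨x, rfl⟩, primesIn_invertible f hn (Nat.pos_of_ne_zero fun h0 => ?_), hF U _⟩
  subst h0
  exact LocAcycPointLib.natCast_residueField_ne_zero f hn (U.hom.base x) Nat.cast_zero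

/-- Torsion invertible on the base is torsion for the invertible primes. -/
theorem isLTorsion_of_isTorsionInvertibleOn {X S T : Scheme.{u}} (f : X ⟶ S) (g : T ⟶ S) {F : EtCoh.Ab T}
    (hF : EtPBC.IsTorsionInvertibleOn S F) : EtAcyc.IsLTorsion (EtAcyc.primesInvertibleOn X) F := by
  intro U s x
  obtain ⟨V, a, n, hv, hu, hs⟩ := hF U s x
  refine ⟨V, a, n, hv, primesIn_invertible f hu (Nat.pos_of_ne_zero fun h0 => ?_), hs⟩
  subst h0
  exact natCast_residueField_ne_zero' hu (g.base (U.hom.base x)) Nat.cast_zero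

end EtSmAcycLib
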