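import Groth.Agent.EtSmAcycLib.Fibre
import Groth.Agent.CdFieldLib.BaseChange
import Groth.Agent.CdFieldLib.Curve
import Groth.Agent.S4715

/-!
# Geometric fibres of strict localisations of the affine line are acyclic in positive degrees
-/

set_option autoImplicit false
set_option linter.all false
set_option backward.isDefEq.respectTransparency false
set_option backward.isDefEq.respectTransparency.types false
set_option synthInstance.maxHeartbeats 400000
set_option maxHeartbeats 4000000

universe u

open CategoryTheory CategoryTheory.Limits AlgebraicGeometry Opposite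
open Groth.Agent Groth.Agent.EtShLib EtRpushStalkLib
open scoped TensorProduct Polynomial

attribute [local instance] EtSliceLib.pullExact

noncomputable section

namespace EtSmAcycLib

variable (A : Type u) [CommRing A] (Ω : Type u) [Field Ω] [IsSepClosed Ω] [Algebra A Ω] (RX : Type u) [CommRing RX]
  [HenselianLocalRing RX] [IsSepClosed (IsLocalRing.ResidueField RX)] [Algebra A RX] [Algebra A[X] RX]
  [IsScalarTower A A[X] RX] [Algebra.WeaklyEtale A[X] RX]

/-- The geometric fibre is a limit of affine curves. -/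
theorem subsingleton_gFib_high (ℓ : ℕ) (hℓ : 0 < ℓ) (q : ℕ) (hq : 1 < q) :
    Subsingleton (EtCoh.H (gFib A RX Ω) (EtCoh.const (gFib A RX Ω) (ZMod ℓ)) q) := by
  haveI := (algebraMap A Ω).domain_nontrivial
  haveI := EtProperH0Lib.weaklyEtale_spec A[X] RX
  let r := Spec.map (CommRingCat.ofHom (algebraMap A[X] RX))
  obtain ⟨C⟩ := exists_chart_wet r
  let cA := Spec.map (CommRingCat.ofHom (algebraMap A A[X]))
  let g := Spec.map (CommRingCat.ofHom (algebraMap A Ω))
  let t : ∀ i, (C.DS.obj i).left ⟶ Spec (CommRingCat.of A) := fun i => (C.DS.obj i).hom ≫ cA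
  have ht : ∀ {i j : C.I} (a : i ⟶ j), (undl C.DS).map a ≫ t j = t i := fun {i j} a => by
    show (C.DS.map a).left ≫ (C.DS.obj j).hom ≫ cA = _
    rw [← Category.assoc]
    exact congrArg (· ≫ cA) (MorphismProperty.Over.w (C.DS.map a))
  let s : C.cone.pt ⟶ Spec (CommRingCat.of A) := rBase A RX
  have hs : ∀ i, C.cone.π.app i ≫ t i = s := fun i => by
    show C.π i ≫ (C.DS.obj i).hom ≫ cA = _
    rw [← Category.assoc, C.w, ← Spec.map_comp, ← CommRingCat.ofHom_comp, ← IsScalarTower.algebraMap_eq]
  haveI : LocallyOfFiniteType cA := by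
    rw [HasRingHomProperty.Spec_iff (P := @LocallyOfFiniteType)]
    show (algebraMap A A[X]).FiniteType
    exact RingHom.finiteType_algebraMap.2 inferInstance
  let D := CdFieldLib.bcDiag (D := undl C.DS) t @ht g
  haveI : ∀ i, IsAffine (D.obj i) := fun i => by
    haveI : IsAffine ((undl C.DS).obj i) := C.aff i
    exact inferInstanceAs (IsAffine (pullback (t i) g))
  have hstage : ∀ i, CdFieldLib.CdK (D.obj i) ℓ 1 := fun i => by
    haveI : AlgebraicGeometry.Etale (C.DS.obj i).hom := (C.DS.obj i).prop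
    let f : D.obj i ⟶ Spec (CommRingCat.of Ω) := pullback.snd (t i) g
    haveI : LocallyOfFiniteType (t i) := inferInstance
    haveI : LocallyOfFiniteType f := MorphismProperty.pullback_snd _ _ inferInstance
    have sqΩ : IsPullback (Spec.map (CommRingCat.ofHom (Polynomial.mapRingHom (algebraMap A Ω))))
        (Spec.map (CommRingCat.ofHom (Polynomial.C : Ω →+* (Polynomial Ω)))) cA g :=
      isPullback_SpecMap_of_isPushout _ _ _ _ (isPushout_mapPoly (algebraMap A Ω))
    let w : D.obj i ⟶ Spec (CommRingCat.of (Polynomial Ω)) :=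
      sqΩ.lift (pullback.fst (t i) g ≫ (C.DS.obj i).hom) f (by rw [Category.assoc]; exact pullback.condition)
    have sqw : IsPullback (pullback.fst (t i) g) w (C.DS.obj i).hom
        (Spec.map (CommRingCat.ofHom (Polynomial.mapRingHom (algebraMap A Ω)))) := by
      refine IsPullback.of_bot ?_ (sqΩ.lift_fst _ _ _).symm sqΩ
      rw [sqΩ.lift_snd]
      exact IsPullback.of_hasPullback (t i) g
    haveI : AlgebraicGeometry.Etale w := MorphismProperty.of_isPullback sqw inferInstance
    haveI : IsLocallyNoetherian (D.obj i) := LocallyOfFiniteType.isLocallyNoetherian f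
    haveI := EtShLib.locallyQuasiFinite_of_etale w
    obtain ⟨h1, h2⟩ := Groth.Agent.S4715.result w
    have hd : topologicalKrullDim (D.obj i) ≤ 1 := by
      refine (h1.trans h2).trans ?_
      show topologicalKrullDim (PrimeSpectrum (Polynomial Ω)) ≤ 1
      rw [PrimeSpectrum.topologicalKrullDim_eq_ringKrullDim, Polynomial.ringKrullDim_of_isNoetherianRing,
        ringKrullDim_eq_zero_of_field, zero_add]
    exact CdFieldLib.cdK_of_le hℓ (CdFieldLib.cohDimLE_one_sepClosed Ω f hd)
  haveI : ∀ {i j : C.I} (a : i ⟶ j), IsAffineHom (D.map a) := fun {i j} a => inferInstance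
  haveI := IsCofiltered.isConnected C.I
  have hlim := CdFieldLib.cdK_limit D (CdFieldLib.bcCone t @ht g C.cone s hs)
    (CdFieldLib.isLimitBcCone t @ht g C.cone s hs C.hc) hstage
  have hn : Subsingleton (EtCoh.H (pullback s g) (EtCoh.const (pullback s g) (ZMod ℓ)) q) :=
    hlim _ (EtStrictAcycLib.nsmul_id_const ℓ) q hq
  let e := (isPullback_gFib A RX Ω).flip.isoPullback
  haveI := hn
  haveI : Subsingleton (EtCoh.H (gFib A RX Ω) ((EtCoh.pull e.hom).obj (EtCoh.const (pullback s g) (ZMod ℓ))) q) :=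
    (EtPBCProperLib.bijective_of_iso e.hom (EtCoh.const (pullback s g) (ZMod ℓ)) q).2.subsingleton
  exact (EtAcycLib.bijective_mk₀_iso_postcomp (Z := EtCoh.const (gFib A RX Ω) ℤ)
    (EtCore.pullConst e.hom (ZMod ℓ)) q).2.subsingleton

variable [Nontrivial A] [HenselianLocalRing A] [IsSepClosed (IsLocalRing.ResidueField A)]
  [IsLocalHom (algebraMap A RX)]

/-- All positive degrees over separably closed fields. -/
theorem subsingleton_gFib (ℓ : ℕ) (hℓp : ℓ.Prime) (hℓ : IsUnit (ℓ : A)) (q : ℕ) (hq : 1 ≤ q) :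
    Subsingleton (EtCoh.H (gFib A RX Ω) (EtCoh.const (gFib A RX Ω) (ZMod ℓ)) q) := by
  rcases Nat.lt_or_eq_of_le hq with hq' | rfl
  · exact subsingleton_gFib_high A Ω RX ℓ hℓp.pos q hq'
  let K := AlgebraicClosure Ω
  obtain ⟨i₁, i₂, i₃⟩ := EtExtLib.universalHomeo_spR Ω K
  haveI := i₁
  haveI := i₂
  haveI := i₃
  have hK := subsingleton_H1_gFib A K RX ℓ hℓp hℓ
  let a : gFib A RX K ⟶ gFib A RX Ω :=
    (isPullback_gFib A RX Ω).lift (qΩ A RX K ≫ FEtProper.spR Ω K) (qR A RX K) (by
      rw [Category.assoc, ← Spec.map_comp, ← CommRingCat.ofHom_comp, ← IsScalarTower.algebraMap_eq]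
      exact (isPullback_gFib A RX K).w)
  have sq : IsPullback (qΩ A RX K) a (FEtProper.spR Ω K) (qΩ A RX Ω) := by
    refine (IsPullback.of_right ?_ ((isPullback_gFib A RX Ω).lift_fst _ _ _) (isPullback_gFib A RX Ω).flip).flip
    have e1 : FEtProper.spR Ω K ≫ Spec.map (CommRingCat.ofHom (algebraMap A Ω)) =
        Spec.map (CommRingCat.ofHom (algebraMap A K)) := by
      rw [← Spec.map_comp, ← CommRingCat.ofHom_comp, ← IsScalarTower.algebraMap_eq]
    have e2 : a ≫ qR A RX Ω = qR A RX K := (isPullback_gFib A RX Ω).lift_snd _ _ _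
    rw [e2, e1]
    exact (isPullback_gFib A RX K).flip
  haveI : IsIntegralHom a := MorphismProperty.of_isPullback sq i₁
  haveI : UniversallyInjective a := MorphismProperty.of_isPullback sq i₂
  haveI : Surjective a := MorphismProperty.of_isPullback sq i₃
  haveI := hK
  haveI : Subsingleton (EtCoh.H (gFib A RX K) ((EtCoh.pull a).obj (EtCoh.const (gFib A RX Ω) (ZMod ℓ))) 1) :=
    (EtAcycLib.bijective_mk₀_iso_postcomp (Z := EtCoh.const (gFib A RX K) ℤ) (EtCore.pullConst a (ZMod ℓ)) 1).1.subsingleton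
  exact (Groth.Agent.S0642.result a (EtCoh.const (gFib A RX Ω) (ZMod ℓ)) 1).1.subsingleton

end EtSmAcycLib
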