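import Groth.Agent.EtSmAcycLib.AffLine
import Groth.Agent.EtSmAcycLib.Apps
import Groth.Agent.EtSmAcycLib.GeomFibre
import Groth.Agent.LocAcycPointLib.Unit
import Groth.Agent.LocAcycPointLib.Main
import Groth.Agent.S3470
import Groth.Agent.S3513
import Groth.Agent.Unram17Lib.EtaleChartPullback

/-!
# Acyclicity of affine space
-/

set_option autoImplicit false
set_option linter.all false
set_option backward.isDefEq.respectTransparency false
set_option backward.isDefEq.respectTransparency.types false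
set_option synthInstance.maxHeartbeats 400000
set_option maxHeartbeats 4000000

universe u

open CategoryTheory CategoryTheory.Limits CategoryTheory.Abelian AlgebraicGeometry Opposite
open Groth.Agent Groth.Agent.EtShLib

attribute [local instance] EtSliceLib.pullExact

noncomputable section

namespace EtSmAcycLib

theorem subsingleton_H_of_iso {A B : Scheme.{u}} (e : A ≅ B) (n : ℕ) (q : ℕ)
    (h : Subsingleton (EtCoh.H B (EtCoh.const B (ZMod n)) q)) :
    Subsingleton (EtCoh.H A (EtCoh.const A (ZMod n)) q) := by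
  haveI := h
  haveI : Subsingleton (EtCoh.H A ((EtCoh.pull e.hom).obj (EtCoh.const B (ZMod n))) q) :=
    (EtPBCProperLib.bijective_of_iso e.hom (EtCoh.const B (ZMod n)) q).2.subsingleton
  exact (EtAcycLib.bijective_mk₀_iso_postcomp (EtCore.pullConst e.hom (ZMod n)) q).2.subsingleton

variable (Ω : Type u) [Field Ω] [IsSepClosed Ω]

/-- The line over a separably closed field. -/
theorem subsingleton_H_aLine (ℓ : ℕ) (hℓ : (ℓ : Ω) ≠ 0) (q : ℕ) (hq : 1 ≤ q) :
    Subsingleton (EtCoh.H (aLine Ω) (EtCoh.const (aLine Ω) (ZMod ℓ)) q) := by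
  have hℓ0 : 0 < ℓ := Nat.pos_of_ne_zero fun e => hℓ (by rw [e, Nat.cast_zero])
  let f : aLine Ω ⟶ Spec (CommRingCat.of Ω) := Spec.map (CommRingCat.ofHom (Polynomial.C : Ω →+* Polynomial Ω))
  rcases Nat.lt_or_eq_of_le hq with hq' | rfl
  · haveI : LocallyOfFiniteType f := by
      rw [HasRingHomProperty.Spec_iff (P := @LocallyOfFiniteType)]
      show (algebraMap Ω (Polynomial Ω)).FiniteType
      exact RingHom.finiteType_algebraMap.2 inferInstance
    have hd : topologicalKrullDim (aLine Ω) ≤ 1 := by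
      show topologicalKrullDim (PrimeSpectrum (Polynomial Ω)) ≤ 1
      rw [PrimeSpectrum.topologicalKrullDim_eq_ringKrullDim, Polynomial.ringKrullDim_of_isNoetherianRing,
        ringKrullDim_eq_zero_of_field, zero_add]
    exact CdFieldLib.cdK_of_le hℓ0 (CdFieldLib.cohDimLE_one_sepClosed Ω f hd) _
      (EtStrictAcycLib.nsmul_id_const ℓ) q hq'
  let K := AlgebraicClosure Ω
  have hℓK : (ℓ : K) ≠ 0 := fun h0 => hℓ ((algebraMap Ω K).injective (by rw [map_natCast, map_zero, h0]))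
  haveI := subsingleton_H1_aLine K ℓ hℓK
  obtain ⟨i₁, i₂, i₃⟩ := EtExtLib.universalHomeo_spR Ω K
  let a : aLine K ⟶ aLine Ω := Spec.map (CommRingCat.ofHom (Polynomial.mapRingHom (algebraMap Ω K)))
  have sq : IsPullback a (Spec.map (CommRingCat.ofHom (Polynomial.C : K →+* Polynomial K))) f (FEtProper.spR Ω K) :=
    isPullback_SpecMap_of_isPushout _ _ _ _ (isPushout_mapPoly (algebraMap Ω K))
  haveI : IsIntegralHom a := MorphismProperty.of_isPullback sq.flip i₁
  haveI : UniversallyInjective a := MorphismProperty.of_isPullback sq.flip i₂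
  haveI : Surjective a := MorphismProperty.of_isPullback sq.flip i₃
  haveI : Subsingleton (EtCoh.H (aLine K) ((EtCoh.pull a).obj (EtCoh.const (aLine Ω) (ZMod ℓ))) 1) :=
    (EtAcycLib.bijective_mk₀_iso_postcomp (Z := EtCoh.const (aLine K) ℤ) (EtCore.pullConst a (ZMod ℓ)) 1).1.subsingleton
  exact (Groth.Agent.S0642.result a (EtCoh.const (aLine Ω) (ZMod ℓ)) 1).1.subsingleton

variable (R : Type u) [CommRing R]

/-- The line over an affine base is acyclic. -/
theorem isAcyclicN_line (ℓ : ℕ) (hℓp : ℓ.Prime) (hℓ : IsUnit (ℓ : R)) (n : ℕ) :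
    EtAcyc.IsAcyclicN (lineMap R) {ℓ} n := by
  refine EtAcycFibLib.isAcyclicN_of_le (Nat.le_succ n) ?_
  refine (Groth.Agent.S3470.result (lineMap R) {ℓ} ⟨ℓ, rfl, hℓp⟩ (n + 1) (by omega)
    (isLocAcyclicN_line R ℓ hℓp hℓ _)).2 ?_
  intro y K _ _ _ _
  obtain ⟨φ, hφ⟩ : ∃ φ : CommRingCat.of R ⟶ CommRingCat.of K, Spec.map φ = EtAcyc.geomPt _ y K :=
    ⟨Spec.preimage _, Spec.map_preimage _⟩
  have sq := isPullback_SpecMap_of_isPushout _ _ _ _ (isPushout_mapPoly φ.hom)
  rw [show CommRingCat.ofHom φ.hom = φ from rfl, hφ] at sq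
  let e : pullback (lineMap R) (EtAcyc.geomPt _ y K) ≅ aLine K := sq.isoPullback.symm
  haveI : ConnectedSpace ↥(aLine K) := inferInstanceAs (ConnectedSpace (PrimeSpectrum (Polynomial K)))
  haveI : ConnectedSpace ↥(pullback (lineMap R) (EtAcyc.geomPt _ y K)) :=
    e.hom.homeomorph.connectedSpace_iff.mpr inferInstance
  refine ⟨inferInstance, inferInstance, fun p _ hp q hq _ => ?_⟩
  obtain rfl : p = ℓ := hp
  have hℓK : (p : K) ≠ 0 := by
    have h := hℓ.map φ.hom
    rw [map_natCast] at h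
    exact h.ne_zero
  exact subsingleton_H_of_iso e p q (subsingleton_H_aLine K p hℓK q hq)

/-- Affine space over an affine base is acyclic. -/
theorem isAcyclicN_mvPolynomial (ℓ : ℕ) (hℓp : ℓ.Prime) (hℓ : IsUnit (ℓ : R)) (m n : ℕ) :
    EtAcyc.IsAcyclicN (Spec.map (CommRingCat.ofHom (MvPolynomial.C : R →+* MvPolynomial (Fin m) R))) {ℓ} n := by
  induction m with
  | zero =>
    haveI : IsIso (CommRingCat.ofHom (MvPolynomial.C : R →+* MvPolynomial (Fin 0) R)) :=
      (ConcreteCategory.isIso_iff_bijective _).2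
        ⟨MvPolynomial.C_injective _ _, MvPolynomial.C_surjective _⟩
    exact isAcyclicN_of_isIso _ _ _
  | succ m ih =>
    let e := (MvPolynomial.finSuccEquiv R m).toRingEquiv.symm.toCommRingCatIso
    have he : Spec.map (CommRingCat.ofHom (MvPolynomial.C : R →+* MvPolynomial (Fin (m + 1)) R)) =
        Spec.map e.hom ≫ lineMap (MvPolynomial (Fin m) R) ≫
          Spec.map (CommRingCat.ofHom (MvPolynomial.C : R →+* MvPolynomial (Fin m) R)) := by
      rw [← Spec.map_comp, ← Spec.map_comp]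
      congr 1
      ext r : 2
      show MvPolynomial.C r = (MvPolynomial.finSuccEquiv R m).symm (Polynomial.C (MvPolynomial.C r))
      rw [eq_comm, AlgEquiv.symm_apply_eq]
      exact ((MvPolynomial.finSuccEquiv R m).commutes r).symm
    rw [he]
    have hu : IsUnit (ℓ : MvPolynomial (Fin m) R) := by
      simpa using hℓ.map (MvPolynomial.C : R →+* MvPolynomial (Fin m) R)
    exact ((Groth.Agent.S3513.result _ _ _ n).1 (isAcyclicN_of_isIso _ _ _)).1
      (((Groth.Agent.S3513.result _ _ _ n).1 (isAcyclicN_line _ ℓ hℓp hu n)).1 ih)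

/-- The fibres of affine space. -/
theorem subsingleton_H_mvPolynomial (σ : Type u) [Finite σ] (ℓ : ℕ) (hℓp : ℓ.Prime) (hℓ : (ℓ : Ω) ≠ 0) (q : ℕ)
    (hq : 1 ≤ q) :
    Subsingleton (EtCoh.H (Spec (CommRingCat.of (MvPolynomial σ Ω)))
      (EtCoh.const (Spec (CommRingCat.of (MvPolynomial σ Ω))) (ZMod ℓ)) q) := by
  obtain ⟨m, ⟨σe⟩⟩ := Finite.exists_equiv_fin σ
  refine subsingleton_H_of_iso (Scheme.Spec.mapIso (MvPolynomial.renameEquiv Ω σe).symm.toRingEquiv.toCommRingCatIso.op) ℓ q ?_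
  let g := Spec.map (CommRingCat.ofHom (MvPolynomial.C : Ω →+* MvPolynomial (Fin m) Ω))
  let T := EtCoh.top (Spec (CommRingCat.of Ω))
  let F := EtCoh.const T.left (ZMod ℓ)
  have hF : EtAcyc.IsLTorsion {ℓ} F :=
    LocAcycPointLib.isLTorsion_const ⟨hℓp.pos, fun p hp hd => (Nat.prime_dvd_prime_iff_eq hp hℓp).1 hd⟩
  have hb := (isAcyclicN_mvPolynomial Ω ℓ hℓp (IsUnit.mk0 _ hℓ) m q T F hF).1 q le_rfl
  obtain ⟨k, rfl⟩ : ∃ k, q = k + 1 := ⟨q - 1, by omega⟩
  haveI : Subsingleton (EtCoh.H T.left F (k + 1)) :=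
    LocAcycPointLib.subsingleton_H_finite (𝟙 (Spec (CommRingCat.of Ω))) _ k
  haveI : Subsingleton (EtCoh.H (pullback T.hom g) ((EtCoh.pull (EtAcyc.prj g T)).obj F) (k + 1)) :=
    hb.2.subsingleton
  haveI : IsIso T.hom := inferInstanceAs (IsIso (𝟙 _))
  exact subsingleton_H_of_iso (asIso (pullback.snd T.hom g)).symm ℓ (k + 1)
    ((EtAcycLib.bijective_mk₀_iso_postcomp (EtCore.pullConst (EtAcyc.prj g T) (ZMod ℓ)) (k + 1)).2.subsingleton)

/-- Affine space is acyclic for the invertible primes. -/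
theorem isAcyclicN_affineSpace (Y : Scheme.{u}) (σ : Type u) [Finite σ] (L : Set ℕ)
    (hL : L ⊆ EtAcyc.primesInvertibleOn Y) (hne : ∃ ℓ ∈ L, ℓ.Prime) (n : ℕ) :
    EtAcyc.IsAcyclicN (𝔸(σ; Y) ↘ Y) L n := by
  haveI := Unram17Lib.smooth_affineSpace_over σ Y
  refine EtAcycFibLib.isAcyclicN_of_le (Nat.le_succ n) ?_
  refine (Groth.Agent.S3470.result (𝔸(σ; Y) ↘ Y) L hne (n + 1) (by omega)
    (isLocAcyclicN_mono _ (hL.trans (primesInvertibleOn_subset (𝔸(σ; Y) ↘ Y))) _ (isLocAcyclic_of_smooth _ _))).2 ?_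
  intro y K _ _ _ _
  let c := EtAcyc.geomPt Y y K
  let e : pullback (𝔸(σ; Y) ↘ Y) c ≅ Spec (CommRingCat.of (MvPolynomial σ K)) :=
    (AffineSpace.isPullback_map (n := σ) c).flip.flip.isoPullback.symm ≪≫ AffineSpace.SpecIso σ (CommRingCat.of K)
  haveI : IsDomain (MvPolynomial σ K) := inferInstance
  haveI : ConnectedSpace ↥(Spec (CommRingCat.of (MvPolynomial σ K))) :=
    @IrreducibleSpace.connectedSpace (PrimeSpectrum (MvPolynomial σ K)) _ PrimeSpectrum.irreducibleSpace
  haveI : ConnectedSpace ↥(pullback (𝔸(σ; Y) ↘ Y) c) := e.hom.homeomorph.connectedSpace_iff.mpr inferInstance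
  refine ⟨inferInstance, inferInstance, fun p hp hpL q hq _ => ?_⟩
  have hpK : (p : K) ≠ 0 := fun h0 => (hL hpL).2 y
    ((algebraMap (Y.residueField y) K).injective (by rw [map_natCast, map_zero, h0]))
  exact subsingleton_H_of_iso e p q (subsingleton_H_mvPolynomial K σ p hp hpK q hq)

end EtSmAcycLib
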