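import Groth.Agent.EtSmAcycLib.Apps
import Groth.Agent.EtULABCLib.Main
import Groth.Agent.EtRpushStalkLib.Iso
import Groth.Agent.AicVanishLib.Sect
import Groth.Agent.EtProperH0Lib.ShFibres

/-!
# Vanishing cycles of smooth morphisms with constant coefficients
-/

set_option autoImplicit false
set_option linter.all false
set_option backward.isDefEq.respectTransparency false
set_option backward.isDefEq.respectTransparency.types false
set_option synthInstance.maxHeartbeats 400000
set_option maxHeartbeats 4000000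

universe u

open CategoryTheory CategoryTheory.Limits CategoryTheory.Abelian AlgebraicGeometry Opposite
open Groth.Agent Groth.Agent.EtShLib EtRpushStalkLib
open scoped TensorProduct

attribute [local instance] EtSliceLib.pullExact

noncomputable section

namespace EtSmAcycLib

/-- Global sections of a constant sheaf on a connected scheme. -/
theorem nonempty_H_zero_const_connected {Y : Scheme.{u}} [ConnectedSpace Y] (M : Type) [AddCommGroup M] :
    Nonempty (EtCoh.H Y (EtCoh.const Y M) 0 ≃+ M) := by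
  obtain ⟨hT⟩ := isTerminal_top Y
  obtain ⟨y₀⟩ := (inferInstance : Nonempty Y)
  let F := EtCoh.const Y M
  let j : AicVanishLib.zobj (⊤ : Y.Opens) ⟶ EtCoh.top Y := AicVanishLib.toTop _
  obtain ⟨k⟩ := AicVanishLib.exists_zobj_hom (T := EtCoh.top Y) (U := (⊤ : Y.Opens)) (fun x _ => trivial)
  let e : EtCoh.top Y ≅ AicVanishLib.zobj (⊤ : Y.Opens) :=
    ⟨k, j, AicVanishLib.toTop_ext _ _, AicVanishLib.zobj_hom_ext _ _⟩
  let c : M ≃+ EtCoh.sect F (AicVanishLib.zobj (⊤ : Y.Opens)) := AddEquiv.ofBijective (AicVanishLib.cst M ⊤)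
    ⟨fun m m' h => AicVanishLib.cst_injective M (U := ⊤) (x := y₀) trivial h, fun s => by
      obtain ⟨φ, hφ⟩ := AicVanishLib.exists_fun M s
      have hlc : IsLocallyConstant φ := (IsLocallyConstant.iff_exists_open φ).2 fun x => by
        obtain ⟨W, -, hxW, -, hconst⟩ := hφ x trivial
        exact ⟨W, W.2, hxW, hconst⟩
      refine ⟨φ y₀, AicVanishLib.sect_ext F _ _ fun x hx => ?_⟩
      obtain ⟨W, hW, hxW, hres, -⟩ := hφ x hx
      refine ⟨W, hW, hxW, ?_⟩
      rw [hres, AicVanishLib.res_cst, hlc.apply_eq_of_preconnectedSpace y₀ x]⟩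
  exact ⟨(Sheaf.H.equiv₀ F hT).trans ((F.obj.mapIso e.symm.op).addCommGroupIsoToAddEquiv.trans c.symm)⟩

/-- Vanishing cycles over an arbitrary geometric point of the strict localisation. -/
theorem nearby_vanishing {X S : Scheme.{u}} (f : X ⟶ S) [Smooth f] (x : X)
    (RS RX : Type u) [CommRing RS] [CommRing RX] [IsLocalRing RS] [IsLocalRing RX]
    [Algebra (S.presheaf.stalk (f.base x)) RS] [IsLocalHom (algebraMap (S.presheaf.stalk (f.base x)) RS)]
    [hS : Hensel.IsStrictHenselization (S.presheaf.stalk (f.base x)) RS]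
    [Algebra (X.presheaf.stalk x) RX] [IsLocalHom (algebraMap (X.presheaf.stalk x) RX)]
    [hX : Hensel.IsStrictHenselization (X.presheaf.stalk x) RX]
    [Algebra RS RX] [IsLocalHom (algebraMap RS RX)]
    (hc : (algebraMap RS RX).comp (algebraMap (S.presheaf.stalk (f.base x)) RS) =
      (algebraMap (X.presheaf.stalk x) RX).comp (f.stalkMap x).hom)
    (Ω : Type u) [Field Ω] [IsSepClosed Ω] [Algebra RS Ω] (n : ℕ) (hn : (n : X.residueField x) ≠ 0) (q : ℕ) :
    Subsingleton (EtCoh.H (gFib RS RX Ω) (EtCoh.const (gFib RS RX Ω) (ZMod n)) (q + 1)) := by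
  haveI := hX.henselian
  haveI := hX.isSepClosure.sep_closed
  have hn0 : 0 < n := Nat.pos_of_ne_zero fun h => hn (by rw [h, Nat.cast_zero])
  have hu : IsUnit (n : Γ(Spec (CommRingCat.of RS), ⊤)) := by
    have h1 : IsUnit (n : S.presheaf.stalk (f.base x)) := by
      refine (isUnit_map_iff (f.stalkMap x).hom _).1 ?_
      rw [map_natCast]
      exact isUnit_natCast_stalk x n hn
    have h2 := (h1.map (algebraMap (S.presheaf.stalk (f.base x)) RS)).map
      (Scheme.ΓSpecIso (CommRingCat.of RS)).inv.hom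
    rwa [map_natCast, map_natCast] at h2
  let b := Hens2.specOf S (f.base x) RS
  let gX := Hens2.specOf X x RX
  let X' := pullback f b
  let f' : X' ⟶ Spec (CommRingCat.of RS) := pullback.snd f b
  haveI : Smooth f' := MorphismProperty.pullback_snd _ _ inferInstance
  have hh : gX ≫ f = rBase RS RX ≫ b := by
    show (Spec.map _ ≫ _) ≫ f = Spec.map _ ≫ Spec.map _ ≫ _
    rw [Category.assoc, ← Scheme.SpecMap_stalkMap_fromSpecStalk, ← Spec.map_comp_assoc, ← Spec.map_comp_assoc,
      ← CommRingCat.ofHom_comp, hc]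
    rfl
  let r : Spec (CommRingCat.of RX) ⟶ X' := pullback.lift gX (rBase RS RX) hh
  haveI : WeaklyEtale b := Groth.Agent.S0754.result S (f.base x) RS
  haveI : WeaklyEtale gX := Groth.Agent.S0754.result X x RX
  haveI : WeaklyEtale (pullback.fst f b) := MorphismProperty.pullback_fst _ _ inferInstance
  haveI : WeaklyEtale (r ≫ pullback.fst f b) := by
    rw [pullback.lift_fst]
    infer_instance
  haveI : WeaklyEtale r := WeaklyEtale.of_comp r (pullback.fst f b)
  obtain ⟨C⟩ := exists_chart_wet r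
  let φ := Spec.map (CommRingCat.ofHom (algebraMap RS Ω))
  let Y := pullback φ f'
  let e : Y ⟶ Spec (CommRingCat.of Ω) := pullback.fst φ f'
  let h : Y ⟶ X' := pullback.snd φ f'
  have cY : IsPullback e h φ f' := IsPullback.of_hasPullback φ f'
  have hr : r ≫ f' = rBase RS RX := pullback.lift_snd _ _ _
  let aY : gFib RS RX Ω ⟶ Y := cY.lift (qΩ RS RX Ω) (qR RS RX Ω ≫ r) (by
    rw [Category.assoc, hr]
    exact (isPullback_gFib RS RX Ω).w)
  have sqY : IsPullback aY (qR RS RX Ω) h r := IsPullback.of_right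
    (by rw [cY.lift_fst, hr]; exact isPullback_gFib RS RX Ω) (cY.lift_snd _ _ _) cY
  let T₀ := EtCoh.const (Spec (CommRingCat.of Ω)) (ZMod n)
  haveI := EtULABCLib.isIso_bcQ_of_uloc φ f' h e cY (isULocAcyclicN_of_smooth f' (q + 1)) T₀
    (LocAcycPointLib.isLTorsion_const (primesIn_invertible f' hu hn0)) (q + 1) le_rfl
  haveI : (EtCoh.pull f').Additive := (EtCoh.pullPushAdj f').left_adjoint_additive
  have h0 : IsZero ((EtCoh.Rpush h (q + 1)).obj ((EtCoh.pull e).obj T₀)) :=
    ((EtCoh.pull f').map_isZero (LocAcycPointLib.isZero_Rpush_point φ T₀ q)).of_iso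
      (asIso (EtBC.bcQ φ f' h e cY.w (q + 1) T₀)).symm
  obtain ⟨s⟩ := nonempty_iso h sqY C (q + 1)
  haveI : (stk (A := AddCommGrpCat.{u + 1}) (closedPt RX ≫ r)).Additive := Functor.additive_of_preserves_binary_products _
  have h1 := AddCommGrpCat.subsingleton_of_isZero
    (((stk (A := AddCommGrpCat.{u + 1}) (closedPt RX ≫ r)).map_isZero h0).of_iso (s.app ((EtCoh.pull e).obj T₀)).symm)
  let i : (EtCoh.pull aY).obj ((EtCoh.pull e).obj T₀) ≅ EtCoh.const (gFib RS RX Ω) (ZMod n) :=
    (EtCoh.pull aY).mapIso ((EtCore.pullConstIso e).app _) ≪≫ (EtCore.pullConstIso aY).app _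
  haveI : Subsingleton (EtCoh.H (gFib RS RX Ω) ((EtCoh.pull aY).obj ((EtCoh.pull e).obj T₀)) (q + 1)) := h1
  exact @Equiv.subsingleton _ _ (((EtCoh.HF _ (q + 1)).mapIso i).addCommGroupIsoToAddEquiv).symm.toEquiv h1

end EtSmAcycLib
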