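import Groth.Agent.EtAcycFibLib.Trans
import Groth.Agent.EtProperH0Lib.FlatRedFibres

/-!
# Base change of strict localisations of the affine line
-/

set_option autoImplicit false
set_option linter.all false
set_option backward.isDefEq.respectTransparency false
set_option backward.isDefEq.respectTransparency.types false
set_option synthInstance.maxHeartbeats 400000
set_option maxHeartbeats 1000000

universe u

open CategoryTheory CategoryTheory.Limits AlgebraicGeometry
open Groth.Agent
open scoped TensorProduct Polynomial

noncomputable section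

namespace EtSmAcycLib

theorem isPushout_mapPoly {C K : Type u} [CommRing C] [CommRing K] (ψ : C →+* K) :
    IsPushout (CommRingCat.ofHom (Polynomial.C : C →+* Polynomial C)) (CommRingCat.ofHom ψ)
      (CommRingCat.ofHom (Polynomial.mapRingHom ψ)) (CommRingCat.ofHom (Polynomial.C : K →+* Polynomial K)) := by
  refine IsPushout.of_isColimit' ⟨?_⟩ (PushoutCocone.IsColimit.mk _
    (fun s => CommRingCat.ofHom (Polynomial.eval₂RingHom s.inr.hom (s.inl.hom Polynomial.X)))
    (fun s => ?_) (fun s => ?_) (fun s m h1 h2 => ?_))
  · exact CommRingCat.hom_ext (RingHom.ext fun c => Polynomial.map_C ψ)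
  · refine CommRingCat.hom_ext (Polynomial.ringHom_ext (fun a => ?_) ?_)
    · simpa using (RingHom.congr_fun (congrArg CommRingCat.Hom.hom s.condition) a).symm
    · simp
  · exact CommRingCat.hom_ext (RingHom.ext fun a => by simp)
  · refine CommRingCat.hom_ext (Polynomial.ringHom_ext (fun a => ?_) ?_)
    · simpa using RingHom.congr_fun (congrArg CommRingCat.Hom.hom h2) a
    · simpa using RingHom.congr_fun (congrArg CommRingCat.Hom.hom h1) Polynomial.X

variable (A : Type u) [CommRing A] (V : Type u) [CommRing V] [Algebra A V] (RX : Type u) [CommRing RX] [Algebra A RX]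
  [Algebra A[X] RX] [IsScalarTower A A[X] RX]

/-- The line over `V` to the base change. -/
def κline : V[X] →+* V ⊗[A] RX :=
  Polynomial.eval₂RingHom Algebra.TensorProduct.includeLeftRingHom ((1 : V) ⊗ₜ algebraMap A[X] RX Polynomial.X)

theorem κline_C (v : V) : κline A V RX (Polynomial.C v) = v ⊗ₜ 1 := Polynomial.eval₂_C _ _

theorem weaklyEtale_κline [Algebra.WeaklyEtale A[X] RX] : WeaklyEtale (Spec.map (CommRingCat.ofHom (κline A V RX))) := by
  have left : IsPushout (CommRingCat.ofHom (algebraMap A V)) (CommRingCat.ofHom (algebraMap A A[X]))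
      (CommRingCat.ofHom (algebraMap V V[X])) (CommRingCat.ofHom (Polynomial.mapRingHom (algebraMap A V))) :=
    (isPushout_mapPoly (algebraMap A V)).flip
  have outer : IsPushout (CommRingCat.ofHom (algebraMap A V)) (CommRingCat.ofHom (algebraMap A RX))
      (CommRingCat.ofHom Algebra.TensorProduct.includeLeftRingHom)
      (CommRingCat.ofHom (Algebra.TensorProduct.includeRight : RX →ₐ[A] V ⊗[A] RX).toRingHom) :=
    CommRingCat.isPushout_tensorProduct A V RX
  have hC : Polynomial.C = algebraMap A A[X] := rfl
  have w : CommRingCat.ofHom (Polynomial.mapRingHom (algebraMap A V)) ≫ CommRingCat.ofHom (κline A V RX) =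
      CommRingCat.ofHom (algebraMap A[X] RX) ≫
        CommRingCat.ofHom (Algebra.TensorProduct.includeRight : RX →ₐ[A] V ⊗[A] RX).toRingHom := by
    refine CommRingCat.hom_ext (Polynomial.ringHom_ext (fun a => ?_) ?_)
    · show κline A V RX (Polynomial.mapRingHom (algebraMap A V) (Polynomial.C a)) = (1 : V) ⊗ₜ algebraMap A[X] RX (Polynomial.C a)
      rw [show Polynomial.mapRingHom (algebraMap A V) (Polynomial.C a) = Polynomial.C (algebraMap A V a) from Polynomial.map_C _,
        κline_C, show Polynomial.C a = algebraMap A A[X] a from rfl, ← IsScalarTower.algebraMap_apply A A[X] RX]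
      exact Algebra.TensorProduct.tmul_one_eq_one_tmul a
    · show κline A V RX (Polynomial.mapRingHom (algebraMap A V) Polynomial.X) = (1 : V) ⊗ₜ algebraMap A[X] RX Polynomial.X
      rw [show Polynomial.mapRingHom (algebraMap A V) Polynomial.X = Polynomial.X from Polynomial.map_X _]
      exact Polynomial.eval₂_X _ _
  have sq : IsPushout (CommRingCat.ofHom (Polynomial.mapRingHom (algebraMap A V))) (CommRingCat.ofHom (algebraMap A[X] RX))
      (CommRingCat.ofHom (κline A V RX))
      (CommRingCat.ofHom (Algebra.TensorProduct.includeRight : RX →ₐ[A] V ⊗[A] RX).toRingHom) := by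
    refine IsPushout.of_top ?_ w left
    have e1 : CommRingCat.ofHom (algebraMap A A[X]) ≫ CommRingCat.ofHom (algebraMap A[X] RX) =
        CommRingCat.ofHom (algebraMap A RX) := by
      rw [← CommRingCat.ofHom_comp, ← IsScalarTower.algebraMap_eq]
    have e2 : CommRingCat.ofHom (algebraMap V V[X]) ≫ CommRingCat.ofHom (κline A V RX) =
        CommRingCat.ofHom Algebra.TensorProduct.includeLeftRingHom :=
      CommRingCat.hom_ext (RingHom.ext fun v => κline_C A V RX v)
    rw [e1, e2]
    exact outer
  have h := isPullback_SpecMap_of_isPushout _ _ _ _ sq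
  haveI := EtProperH0Lib.weaklyEtale_spec A[X] RX
  exact MorphismProperty.of_isPullback h.flip ‹WeaklyEtale (Spec.map (CommRingCat.ofHom (algebraMap A[X] RX)))›

end EtSmAcycLib
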