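import Groth.Agent.EtSmAcycLib.Nearby
import Groth.Agent.CurveH2Lib.Main
import Groth.Agent.GmExtLib.FieldLift

/-!
# The affine line over a separably closed field has trivial cohomology
-/

set_option autoImplicit false
set_option linter.all false
set_option backward.isDefEq.respectTransparency false
set_option backward.isDefEq.respectTransparency.types false
set_option synthInstance.maxHeartbeats 400000
set_option maxHeartbeats 4000000

universe u

open CategoryTheory CategoryTheory.Limits CategoryTheory.Abelian AlgebraicGeometry Opposite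
open Groth.Agent Groth.Agent.EtShLib

attribute [local instance] EtSliceLib.pullExact

noncomputable section

namespace EtSmAcycLib

/-- The affine line over a field. -/
abbrev aLine (K : Type u) [Field K] : Scheme.{u} := Spec (CommRingCat.of (Polynomial K))

variable (K : Type u) [Field K] [IsAlgClosed K]

theorem exists_units_root (n : ℕ) (hn : 0 < n) (a : Γ(aLine K, ⊤)ˣ) : ∃ b : Γ(aLine K, ⊤)ˣ, b ^ n = a := by
  let e := (Scheme.ΓSpecIso (CommRingCat.of (Polynomial K))).commRingCatIsoToRingEquiv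
  obtain ⟨c, hc, hce⟩ := Polynomial.isUnit_iff.1 (a.isUnit.map e)
  obtain ⟨r, hr⟩ := IsAlgClosed.exists_pow_nat_eq c hn
  have hr0 : IsUnit r := (isUnit_pow_iff hn.ne').1 (hr ▸ hc)
  refine ⟨((hr0.map (Polynomial.C : K →+* Polynomial K)).map e.symm).unit, Units.ext ?_⟩
  show (e.symm (Polynomial.C r)) ^ n = (a : Γ(aLine K, ⊤))
  rw [← map_pow, ← map_pow, hr, hce, RingEquiv.symm_apply_apply]

theorem exists_nsmul_H_zero_Gm (n : ℕ) (hn : 0 < n) (ξ : EtCoh.H (aLine K) (EtCoh.Gm (aLine K)) 0) :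
    ∃ η : EtCoh.H (aLine K) (EtCoh.Gm (aLine K)) 0, n • η = ξ := by
  obtain ⟨hT⟩ := isTerminal_top (aLine K)
  let e := Sheaf.H.equiv₀ (EtCoh.Gm (aLine K)) hT
  suffices h : ∀ s : ULift.{u + 1} (Additive Γ((EtCoh.top (aLine K)).left, ⊤)ˣ), ∃ t, n • t = s by
    obtain ⟨t, ht⟩ := h (e ξ)
    refine ⟨e.symm t, ?_⟩
    apply e.injective
    refine (map_nsmul e n (e.symm t)).trans ?_
    rw [AddEquiv.apply_symm_apply]
    exact ht
  intro s
  obtain ⟨b, hb⟩ := exists_units_root K n hn (Additive.toMul s.down)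
  exact ⟨⟨Additive.ofMul b⟩, ULift.ext _ _ hb⟩

theorem subsingleton_H1_Gm : Subsingleton (EtCoh.H (aLine K) (EtCoh.Gm (aLine K)) 1) := by
  letI := LMLib.law (aLine K)
  obtain ⟨e⟩ := Groth.Agent.S15401.result (aLine K)
  haveI : Subsingleton (PicLoc.PicSet (aLine K)) := by
    have h : ∀ c : PicLoc.PicSet (aLine K), c.1 = PicF.cl (Coh.structureModule (aLine K)) := by
      rintro ⟨c, M, rfl, hM⟩
      obtain ⟨i⟩ := GmExtLib.pic_of_ufd (CommRingCat.of (Polynomial K)) M hM
      exact Quot.sound ⟨i⟩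
    exact ⟨fun a b => Subtype.ext ((h a).trans (h b).symm)⟩
  haveI : Subsingleton (Additive (PicLoc.PicSet (aLine K))) := ‹Subsingleton (PicLoc.PicSet (aLine K))›
  exact e.symm.toEquiv.subsingleton

theorem subsingleton_H1_aLine (n : ℕ) (hn : (n : K) ≠ 0) :
    Subsingleton (EtCoh.H (aLine K) (EtCoh.const (aLine K) (ZMod n)) 1) := by
  have hn0 : 0 < n := Nat.pos_of_ne_zero fun e => hn (by rw [e, Nat.cast_zero])
  let f : aLine K ⟶ Spec (CommRingCat.of K) := Spec.map (CommRingCat.ofHom (Polynomial.C : K →+* Polynomial K))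
  have h := EtKummerLib.kummer_shortExact (JacTorsLib.invertibleOn_of_field f hn)
  haveI hmu : Subsingleton (EtCoh.H (aLine K) (EtCoh.mu (aLine K) n) 1) := by
    haveI := subsingleton_H1_Gm K
    refine subsingleton_of_forall_eq 0 fun x => ?_
    obtain ⟨z, rfl⟩ := Ext.covariant_sequence_exact₁ _ h x
      (Subsingleton.elim (α := EtCoh.H (aLine K) (EtCoh.Gm (aLine K)) 1) _ _) (n₀ := 0) rfl
    obtain ⟨η, rfl⟩ := exists_nsmul_H_zero_Gm K n hn0 z
    have e : (Ext.comp η (Ext.mk₀ (EtCoh.powMap (aLine K) n)) (add_zero 0)) = n • η :=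
      EtTransferLib.comp_mk₀_nsmul η n
    rw [← e, Ext.comp_assoc_of_second_deg_zero]
    exact (congrArg (fun r => Ext.comp η r _) h.comp_extClass).trans (Ext.comp_zero _ _ _ _ _)
  obtain ⟨i⟩ := CurveH2Lib.mu_iso_const K f n hn
  exact @Equiv.subsingleton _ _ (((EtCoh.HF _ 1).mapIso i).addCommGroupIsoToAddEquiv).symm.toEquiv hmu

end EtSmAcycLib
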