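import Groth.Agent.EtAcycFibLib.Bc
import Groth.Agent.EtAcycFibLib.Trans
import Groth.Agent.EtProperH0Lib.SepFibres
import Groth.Agent.EtProperH0Lib.UnitIsoAb
import Groth.Agent.EtCurveConsLib.Acyc
import Groth.Agent.LocAcycStalkLib.Main

/-!
# Base change in degree zero along morphisms with submersive connected strict localisations
-/

set_option autoImplicit false
set_option linter.all false
set_option backward.isDefEq.respectTransparency false
set_option backward.isDefEq.respectTransparency.types false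
set_option synthInstance.maxHeartbeats 400000
set_option maxHeartbeats 1000000

universe u

open CategoryTheory CategoryTheory.Limits AlgebraicGeometry Opposite
open Groth.Agent Groth.Agent.EtShLib EtProperH0Lib

attribute [local instance] EtSliceLib.pullExact

noncomputable section

namespace EtSmAcycLib

/-- The predicate on strict localisations. -/
abbrev SC : ∀ ⦃X' Y' : Scheme.{u}⦄, (X' ⟶ Y') → Prop := fun _ _ h => SubmConn h

theorem submConn_of_isPullback {Z V Z' V' : Scheme.{u}} {p : Z ⟶ V} (h : SubmConn p) {a : Z' ⟶ Z} {p' : Z' ⟶ V'}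
    {b : V' ⟶ V} (sq : IsPullback a p' p b) : SubmConn p' := by
  refine ⟨fun S' g => ?_, fun Ω _ _ η => ?_⟩
  · let κ := ((IsPullback.of_hasPullback p' g).paste_horiz sq).isoPullback
    have hκ : κ.hom ≫ pullback.snd p (g ≫ b) = pullback.snd p' g := IsPullback.isoPullback_hom_snd _
    rw [← hκ]
    exact (h.1 S' (g ≫ b)).comp κ.hom.homeomorph.isQuotientMap
  · let κ := ((IsPullback.of_hasPullback p' η).paste_horiz sq).isoPullback
    haveI := h.2 Ω (η ≫ b)
    exact κ.hom.homeomorph.connectedSpace_iff.mpr inferInstance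

theorem sc_of_smooth {X S : Scheme.{u}} (f : X ⟶ S) [Smooth f] : EtAcyc.OnStrictLocalizations f SC := by
  haveI : GeometricallyReduced f := AbSchLib.geometricallyReduced_of_smooth f
  intro x RY RX _ _ _ _ _ _ _ _ _ _ _ _ hψ
  exact EtCurveConsLib.submConn_sh f x RY RX (algebraMap RY RX) hψ fun Ω _ _ η =>
    connected_sh_fibre f (Or.inr inferInstance) x RY RX (algebraMap RY RX) hψ Ω η

/-- A property of strict localisations passes to a composite with a weakly étale morphism. -/
theorem onStrictLocalizations_wet_comp {X Y S : Scheme.{u}} (g : X ⟶ Y) [WeaklyEtale g] (f : Y ⟶ S)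
    {P : ∀ ⦃X' Y' : Scheme.{u}⦄, (X' ⟶ Y') → Prop} (hf : EtAcyc.OnStrictLocalizations f P) :
    EtAcyc.OnStrictLocalizations (g ≫ f) P := by
  intro z RY RX _ _ _ _ aY hlY hY aX hlX hX _ _ hc
  letI := (g.stalkMap z).hom.toAlgebra
  haveI := LocAcycStalkLib.weaklyEtale_stalkMap g z
  letI bX : Algebra (Y.presheaf.stalk (g.base z)) RX :=
    ((algebraMap (X.presheaf.stalk z) RX).comp (g.stalkMap z).hom).toAlgebra
  haveI : IsScalarTower (Y.presheaf.stalk (g.base z)) (X.presheaf.stalk z) RX := IsScalarTower.of_algebraMap_eq' rfl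
  haveI : IsLocalHom (algebraMap (Y.presheaf.stalk (g.base z)) RX) :=
    RingHom.isLocalHom_comp (algebraMap (X.presheaf.stalk z) RX) (g.stalkMap z).hom
  haveI : Hensel.IsStrictHenselization (Y.presheaf.stalk (g.base z)) RX :=
    WEtSHLib.isStrictHenselization_of_weaklyEtale _ (X.presheaf.stalk z) RX
  refine EtAcycFibLib.onStrictLocalizations_apply f P hf (g.base z) ((g ≫ f).base z) rfl RY RX ?_
  show Spec.map _ ≫ Spec.map _ ≫ _ =
    (Spec.map (CommRingCat.ofHom ((algebraMap _ RX).comp (g.stalkMap z).hom)) ≫ _) ≫ f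
  rw [CommRingCat.ofHom_comp, Spec.map_comp, Category.assoc, Category.assoc, CommRingCat.ofHom_hom,
    Scheme.SpecMap_stalkMap_fromSpecStalk_assoc, ← Category.assoc, ← Spec.map_comp, ← CommRingCat.ofHom_comp, hc,
    CommRingCat.ofHom_comp, Spec.map_comp, Category.assoc, CommRingCat.ofHom_hom,
    Scheme.SpecMap_stalkMap_fromSpecStalk]

/-- Base change in degree zero, and injectivity in degree one. -/
theorem bcQ_zero {X S T Y : Scheme.{u}} (f : X ⟶ S) (g : T ⟶ S) [QuasiCompact g] [QuasiSeparated g]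
    (h : Y ⟶ X) (e : Y ⟶ T) (c : IsPullback e h g f) [PreservesFiniteLimits (EtCoh.pull e)]
    (hf : EtAcyc.OnStrictLocalizations f SC) {L : Set ℕ}
    {F : EtCoh.Ab T} (hF : EtAcyc.IsLTorsion L F) :
    IsIso (EtBC.bcQ g f h e c.w 0 F) ∧ Mono (EtBC.bcQ g f h e c.w 1 F) := by
  have key : ∀ (x : X) (RS : Type u) [CommRing RS] [IsLocalRing RS] [Algebra (S.presheaf.stalk (f.base x)) RS]
      [IsLocalHom (algebraMap (S.presheaf.stalk (f.base x)) RS)]
      [Hensel.IsStrictHenselization (S.presheaf.stalk (f.base x)) RS]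
      (RX : Type u) [CommRing RX] [IsLocalRing RX] [Algebra (X.presheaf.stalk x) RX]
      [IsLocalHom (algebraMap (X.presheaf.stalk x) RX)] [Hensel.IsStrictHenselization (X.presheaf.stalk x) RX]
      (ψ : RS →+* RX) [IsLocalHom ψ],
      ψ.comp (algebraMap (S.presheaf.stalk (f.base x)) RS) =
        (algebraMap (X.presheaf.stalk x) RX).comp (f.stalkMap x).hom →
      ∀ (PS PX : Scheme.{u}) (aS : PS ⟶ T) (bS : PS ⟶ Spec (CommRingCat.of RS))
        (_ : IsPullback aS bS g (Hens2.specOf S (f.base x) RS))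
        (aX : PX ⟶ T) (bX : PX ⟶ Spec (CommRingCat.of RX))
        (_ : IsPullback aX bX g (Hens2.specOf X x RX ≫ f))
        (m : PX ⟶ PS) (w : m ≫ aS = aX), m ≫ bS = bX ≫ Spec.map (CommRingCat.ofHom ψ) →
        ∀ [PreservesFiniteLimits (EtCoh.pull m)],
          Function.Bijective (EtCore.HpullVia m aS aX w F 0) ∧
            Function.Injective (EtCore.HpullVia m aS aX w F 1) := by
    intro x RS _ _ _ _ _ RX _ _ _ _ _ ψ _ hψ PS PX aS bS sqS aX bX sqX m w hm _
    letI : Algebra RS RX := ψ.toAlgebra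
    haveI : IsLocalHom (algebraMap RS RX) := ‹IsLocalHom ψ›
    have h1 : SubmConn (Spec.map (CommRingCat.ofHom ψ)) := hf x RS RX hψ
    have sq : IsPullback bX m (Spec.map (CommRingCat.ofHom ψ)) bS := by
      refine (IsPullback.of_right ?_ hm sqS).flip
      rw [w, EtBcQLib.specOf_comp f x RS RX ψ hψ]
      exact sqX
    have hm' := submConn_of_isPullback h1 sq
    have hac : EtAcyc.IsAcyclicN m L 0 := (Groth.Agent.S3510.result _ L 0).2 fun V G _ =>
      ⟨isIso_unit_of_submConn_ab _ (hm'.pullback_fst V.hom) G, fun q h1 h2 => absurd h2 (by omega)⟩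
    have hc := EtAcycFibLib.compN_of_acyclicN hac _ (EtAcycLib.isLTorsion_pull_any aS hF)
    have hb : ∀ q, Function.Bijective
        ((EtCoh.HF PX q).map (((EtCore.pullComp m aS).symm ≪≫ EtCore.pullCongr w).app F).hom).hom :=
      fun q => ConcreteCategory.bijective_of_isIso
        ((EtCoh.HF PX q).map (((EtCore.pullComp m aS).symm ≪≫ EtCore.pullCongr w).app F).hom)
    exact ⟨(hb 0).comp (hc.1 0 le_rfl), (hb 1).1.comp hc.2⟩
  refine ⟨(EtBcQLib.isIso_bcQ_iff f g h e c F 0).1 ?_, EtAcycFibLib.mono_bcQ_of_injective_via f g h e c F _ ?_⟩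
  · intro x RS _ _ _ _ _ RX _ _ _ _ _ ψ _ hψ PS PX aS bS sqS aX bX sqX m w hm _
    exact (key x RS RX ψ hψ PS PX aS bS sqS aX bX sqX m w hm).1
  · intro x RS _ _ _ _ _ RX _ _ _ _ _ ψ _ hψ PS PX aS bS sqS aX bX sqX m w hm _
    exact (key x RS RX ψ hψ PS PX aS bS sqS aX bX sqX m w hm).2

end EtSmAcycLib
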