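import Groth.Agent.EtAcycFibLib.Trans
import Groth.Agent.EtRpushStalkLib.Exists
import Groth.Agent.QfHensFiniteLib.Basic

/-!
# Strict localisations as weakly étale local schemes
-/

set_option autoImplicit false
set_option linter.all false
set_option backward.isDefEq.respectTransparency false
set_option backward.isDefEq.respectTransparency.types false
set_option synthInstance.maxHeartbeats 400000
set_option maxHeartbeats 1000000

universe u

open CategoryTheory CategoryTheory.Limits AlgebraicGeometry Opposite
open Groth.Agent EtRpushStalkLib

noncomputable section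

namespace EtSmAcycLib

/-- A weakly étale morphism from a strictly henselian local scheme is a strict localisation. -/
theorem exists_chart_wet {X : Scheme.{u}} {R : Type u} [CommRing R] [HenselianLocalRing R]
    [IsSepClosed (IsLocalRing.ResidueField R)] (g : Spec (CommRingCat.of R) ⟶ X) [WeaklyEtale g] :
    Nonempty (Chart g) := by
  let x := g.base (IsLocalRing.closedPoint R)
  let σ : X.presheaf.stalk x ⟶ CommRingCat.of R := Scheme.stalkClosedPointTo g
  letI : Algebra (X.presheaf.stalk x) R := σ.hom.toAlgebra
  haveI : IsLocalHom (algebraMap (X.presheaf.stalk x) R) :=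
    inferInstanceAs (IsLocalHom (Scheme.stalkClosedPointTo g).hom)
  have hg : Hens2.specOf X x R = g := Scheme.Spec_stalkClosedPointTo_fromSpecStalk g
  haveI := EtAcycFibLib.weaklyEtale_fromSpecStalk x
  haveI : WeaklyEtale (Spec.map (CommRingCat.ofHom (algebraMap (X.presheaf.stalk x) R)) ≫ X.fromSpecStalk x) := by
    show WeaklyEtale (Hens2.specOf X x R)
    rw [hg]
    infer_instance
  haveI : Algebra.WeaklyEtale (X.presheaf.stalk x) R :=
    EtAcycFibLib.weaklyEtale_ring (WeaklyEtale.of_comp _ (X.fromSpecStalk x))
  haveI := QfHensFiniteLib.isStrictHenselization_self R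
  haveI : Hensel.IsStrictHenselization (X.presheaf.stalk x) R :=
    WEtSHLib.isStrictHenselization_of_weaklyEtale (X.presheaf.stalk x) R R
  rw [← hg]
  exact EtRpushStalkLib.exists_chart x R

end EtSmAcycLib
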