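import Groth.Agent.EtSmAcycLib.Bc0
import Groth.Agent.ConstUnitLib.Unit
import Groth.Agent.ParaFLib.Normal
import Groth.Agent.EtAcycFibLib.Acyclic

/-!
# Direct images of constant sheaves from the generic point of a normal base
-/

set_option autoImplicit false
set_option linter.all false
set_option backward.isDefEq.respectTransparency false
set_option backward.isDefEq.respectTransparency.types false
set_option synthInstance.maxHeartbeats 400000
set_option maxHeartbeats 1000000

universe u

open CategoryTheory CategoryTheory.Limits AlgebraicGeometry Opposite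
open Groth.Agent Groth.Agent.EtShLib

attribute [local instance] EtSliceLib.pullExact

noncomputable section

namespace EtSmAcycLib

variable (V : Type u) [CommRing V] [IsDomain V] [IsIntegrallyClosed V] (K : Type u) [Field K] [Algebra V K]
  [IsFractionRing V K]

/-- The generic point. -/
abbrev genPt : Spec (CommRingCat.of K) ⟶ Spec (CommRingCat.of V) :=
  Spec.map (CommRingCat.ofHom (algebraMap V K))

theorem nonempty_push_genPt_const (M : Type) [AddCommGroup M] :
    Nonempty ((EtCoh.push (genPt V K)).obj (EtCoh.const _ M) ≅ EtCoh.const (Spec (CommRingCat.of V)) M) := by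
  let η := genPt V K
  let X := Spec (CommRingCat.of V)
  have hr : Set.range η.base = {genericPoint X} := by
    rw [genericPoint_eq_bot_of_affine]
    refine Set.eq_singleton_iff_unique_mem.2 ⟨⟨⟨⊥, Ideal.isPrime_bot⟩, ?_⟩, ?_⟩
    · exact PrimeSpectrum.ext (Ideal.comap_bot_of_injective _ (IsFractionRing.injective V K))
    · rintro _ ⟨p, rfl⟩
      refine PrimeSpectrum.ext ?_
      show Ideal.comap (algebraMap V K) p.asIdeal = ⊥
      rw [(Ideal.eq_bot_or_top p.asIdeal).resolve_right p.isPrime.ne_top]
      exact Ideal.comap_bot_of_injective _ (IsFractionRing.injective V K)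
  haveI : IsPreimmersion η := IsPreimmersion.of_isLocalization (nonZeroDivisors V)
  haveI := ConstUnitLib.isIso_unit_const η
    (ConstUnitLib.denseRange_fst (by
      show Dense (Set.range η.base)
      rw [hr]
      exact dense_iff_closure_eq.2 (genericPoint_spec X)))
    (ConstUnitLib.locExt_generic (ParaFLib.isNormal_spec V) _ hr) (AddCommGrpCat.of (ULift.{u + 1} M))
  exact ⟨(EtCoh.push η).mapIso (EtCore.pullConst η M).symm ≪≫
    (asIso ((EtCoh.pullPushAdj η).unit.app (EtCoh.const X M))).symm⟩

/-- On a smooth scheme over a normal domain, direct image of constants from the generic fibre are constant. -/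
theorem nonempty_push_fibre_const {P Z : Scheme.{u}} (π : P ⟶ Spec (CommRingCat.of V)) [Smooth π] (j : Z ⟶ P)
    (e : Z ⟶ Spec (CommRingCat.of K)) (sq : IsPullback e j (genPt V K) π) (ℓ : ℕ) (hℓ : ℓ.Prime) :
    Nonempty ((EtCoh.push j).obj (EtCoh.const Z (ZMod ℓ)) ≅ EtCoh.const P (ZMod ℓ)) := by
  let η := genPt V K
  haveI : QuasiCompact j := MorphismProperty.of_isPullback sq (inferInstanceAs (QuasiCompact η))
  haveI : QuasiSeparated j := MorphismProperty.of_isPullback sq (inferInstanceAs (QuasiSeparated η))
  have hF : EtAcyc.IsLTorsion {ℓ} (EtCoh.const (Spec (CommRingCat.of K)) (ZMod ℓ)) := by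
    have h := EtAcycFibLib.isLTorsion_const (Y := Spec (CommRingCat.of K)) (L := {ℓ}) hℓ rfl 1
    rwa [pow_one] at h
  haveI := (bcQ_zero π η j e sq (sc_of_smooth π) hF).1
  obtain ⟨i₀⟩ := nonempty_push_genPt_const V K (ZMod ℓ)
  exact ⟨((EtCoh.push j).mapIso (EtCore.pullConst e (ZMod ℓ)).symm ≪≫
      ((EtCoh.push j).rightDerivedZeroIsoSelf.app _).symm) ≪≫
    (asIso (EtBC.bcQ η π j e sq.w 0 (EtCoh.const (Spec (CommRingCat.of K)) (ZMod ℓ)))).symm ≪≫
    (EtCoh.pull π).mapIso (((EtCoh.push η).rightDerivedZeroIsoSelf.app _) ≪≫ i₀) ≪≫ EtCore.pullConst π (ZMod ℓ)⟩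

end EtSmAcycLib
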