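import Mathlib

/-!
# A valuation ring centred at a compatible family of specialisations
-/

set_option autoImplicit false
set_option linter.all false
set_option backward.isDefEq.respectTransparency false
set_option maxHeartbeats 1000000

universe u v

open CategoryTheory AlgebraicGeometry IsLocalRing

noncomputable section

namespace EtSmAcycLib

theorem exists_stalk_hom {X Y : Scheme.{u}} (f : X ⟶ Y) {b : X} {a : Y} (h : f.base b = a) :
    ∃ m : Y.presheaf.stalk a ⟶ X.presheaf.stalk b, IsLocalHom m.hom ∧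
      Spec.map m ≫ Y.fromSpecStalk a = X.fromSpecStalk b ≫ f := by
  subst h
  exact ⟨f.stalkMap b, inferInstance, Scheme.SpecMap_stalkMap_fromSpecStalk f⟩

/-- A valuation subring whose centres are the given points. -/
theorem exists_valuationSubring_system {I : Type v} [SemilatticeSup I] [Nonempty I] {Ω : Type u} [Field Ω]
    (P : I → Scheme.{u}) (tr : ∀ {i j : I}, i ≤ j → (P j ⟶ P i)) (σ : ∀ i, Spec (CommRingCat.of Ω) ⟶ P i)
    (hσ : ∀ {i j : I} (h : i ≤ j), σ j ≫ tr h = σ i) (y : ∀ i, P i)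
    (hy : ∀ i, (σ i).base default ⤳ y i) (hty : ∀ {i j : I} (h : i ≤ j), (tr h).base (y j) = y i) :
    ∃ (V : ValuationSubring Ω) (v : ∀ i, Spec (CommRingCat.of V) ⟶ P i),
      ∀ i, Spec.map (CommRingCat.ofHom V.subtype) ≫ v i = σ i ∧ (v i).base (closedPoint V) = y i := by
  classical
  have hy' : ∀ i, (σ i).base (closedPoint Ω) ⤳ y i := fun i => by
    rw [show closedPoint Ω = (default : Spec (CommRingCat.of Ω)) from Subsingleton.elim (α := PrimeSpectrum Ω) _ _]
    exact hy i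
  let ψc : ∀ i, (P i).presheaf.stalk (y i) ⟶ CommRingCat.of Ω := fun i =>
    (P i).presheaf.stalkSpecializes (hy' i) ≫ Scheme.stalkClosedPointTo (σ i)
  let ψ : ∀ i, (P i).presheaf.stalk (y i) →+* Ω := fun i => (ψc i).hom
  have hψ : ∀ i, Spec.map (ψc i) ≫ (P i).fromSpecStalk (y i) = σ i := fun i => by
    rw [Spec.map_comp, Category.assoc, Scheme.SpecMap_stalkSpecializes_fromSpecStalk,
      Scheme.Spec_stalkClosedPointTo_fromSpecStalk]
  have hcomp : ∀ {i j : I} (h : i ≤ j), ∃ m : (P i).presheaf.stalk (y i) →+* (P j).presheaf.stalk (y j),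
      IsLocalHom m ∧ ∀ a, ψ j (m a) = ψ i a := fun {i j} h => by
    obtain ⟨m, hm, hmf⟩ := exists_stalk_hom (tr h) (hty h)
    refine ⟨m.hom, hm, fun a => ?_⟩
    have e : m ≫ ψc j = ψc i := Spec.map_injective ((cancel_mono ((P i).fromSpecStalk (y i))).1 (by
      rw [Spec.map_comp, Category.assoc, hmf, ← Category.assoc, hψ j, hσ h, hψ i]))
    exact RingHom.congr_fun (congrArg CommRingCat.Hom.hom e) a
  let R : Subring Ω := ⨆ i, (ψ i).range
  have hdir : Directed (· ≤ ·) fun i => (ψ i).range := fun i j => ⟨i ⊔ j, fun x hx => by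
      obtain ⟨a, rfl⟩ := hx
      obtain ⟨m, -, hm⟩ := hcomp (le_sup_left : i ≤ i ⊔ j)
      exact ⟨m a, hm a⟩, fun x hx => by
      obtain ⟨a, rfl⟩ := hx
      obtain ⟨m, -, hm⟩ := hcomp (le_sup_right : j ≤ i ⊔ j)
      exact ⟨m a, hm a⟩⟩
  have hmem : ∀ x : Ω, x ∈ R ↔ ∃ i a, ψ i a = x := fun x => Subring.mem_iSup_of_directed hdir
  let toR : ∀ i, (P i).presheaf.stalk (y i) →+* R := fun i => (ψ i).codRestrict R fun a => (hmem _).2 ⟨i, a, rfl⟩
  have hnu : ∀ i a, ¬ IsUnit a → ¬ IsUnit (toR i a) := by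
    intro i a ha hu
    obtain ⟨b, hb⟩ := hu.exists_right_inv
    obtain ⟨j, c, hc⟩ := (hmem _).1 b.2
    obtain ⟨m, hml, hm⟩ := hcomp (le_sup_left : i ≤ i ⊔ j)
    obtain ⟨m', -, hm'⟩ := hcomp (le_sup_right : j ≤ i ⊔ j)
    have h1 : ψ (i ⊔ j) (m a * m' c - 1) = 0 := by
      rw [map_sub, map_mul, hm, hm', hc, map_one, sub_eq_zero]
      exact congrArg Subtype.val hb
    have h2 : m a ∈ nonunits _ := fun hu' => ha (hml.map_nonunit a hu')
    have h3 : IsUnit (m a * m' c - 1) := by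
      have := isUnit_one_sub_self_of_mem_nonunits _ (show m a * m' c ∈ nonunits _ from fun hu' =>
        h2 (isUnit_of_mul_isUnit_left hu'))
      rw [← neg_sub]
      exact this.neg
    exact (h3.map (ψ (i ⊔ j))).ne_zero h1
  haveI : IsLocalRing R := IsLocalRing.of_nonunits_add fun x x' hx hx' => by
    obtain ⟨i, a, ha⟩ := (hmem _).1 x.2
    obtain ⟨j, a', ha'⟩ := (hmem _).1 x'.2
    obtain ⟨m, -, hm⟩ := hcomp (le_sup_left : i ≤ i ⊔ j)
    obtain ⟨m', -, hm'⟩ := hcomp (le_sup_right : j ≤ i ⊔ j)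
    have e : toR (i ⊔ j) (m a) = x := Subtype.ext ((hm a).trans ha)
    have e' : toR (i ⊔ j) (m' a') = x' := Subtype.ext ((hm' a').trans ha')
    rw [← e] at hx ⊢
    rw [← e'] at hx' ⊢
    rw [← map_add]
    exact hnu _ _ (IsLocalRing.nonunits_add (fun h => hx (h.map _)) fun h => hx' (h.map _))
  obtain ⟨V, hV⟩ := LocalSubring.exists_le_valuationSubring (LocalSubring.mk R : LocalSubring Ω)
  obtain ⟨hRV, hloc⟩ := hV
  haveI := hloc
  let θ : ∀ i, (P i).presheaf.stalk (y i) →+* V := fun i => (Subring.inclusion hRV).comp (toR i)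
  refine ⟨V, fun i => Spec.map (CommRingCat.ofHom (θ i)) ≫ (P i).fromSpecStalk (y i), fun i => ⟨?_, ?_⟩⟩
  · rw [← Category.assoc, ← Spec.map_comp, ← hψ i]
    rfl
  · have h : PrimeSpectrum.comap (θ i) (closedPoint V) = closedPoint ((P i).presheaf.stalk (y i)) := by
      haveI : IsLocalHom (θ i) := ⟨fun a ha => by_contra fun hna => hnu i a hna (hloc.map_nonunit _ ha)⟩
      exact IsLocalRing.comap_closedPoint (θ i)
    show ((P i).fromSpecStalk (y i)).base (PrimeSpectrum.comap (θ i) (closedPoint V)) = _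
    rw [h]
    exact Scheme.fromSpecStalk_closedPoint

end EtSmAcycLib
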