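import Groth.Agent.EtRpushStalkLib.Iso
import Groth.Agent.EtShLib.TorsionColim
import Groth.Agent.EtAcycLib.Chase
import Groth.Agent.EtContLib.Cohom
import Groth.Agent.EtShLib.FlasquePush

/-!
# The first higher direct image of a sheaf as a cokernel, and the edge map in degree one
-/

set_option autoImplicit false
set_option linter.all false
set_option backward.isDefEq.respectTransparency false
set_option backward.isDefEq.respectTransparency.types false
set_option synthInstance.maxHeartbeats 400000
set_option maxHeartbeats 1000000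

universe u

open CategoryTheory CategoryTheory.Limits CategoryTheory.Abelian AlgebraicGeometry Opposite
open Groth.Agent Groth.Agent.EtShLib EtRpushStalkLib EtContLib

attribute [local instance] EtSliceLib.pullExact

noncomputable section

namespace EtSmAcycLib

variable {Z X : Scheme.{u}} (j : Z ⟶ X) (F : EtCoh.Ab Z)

theorem sub_comp {C : Type*} [Category C] [Abelian C] [HasExt.{u + 1} C] {A B D : C} {a b c : ℕ} (x y : Ext A B a)
    (z : Ext B D b) (h : a + b = c) : (x - y).comp z h = x.comp z h - y.comp z h := by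
  rw [sub_eq_add_neg, Ext.add_comp, Ext.neg_comp, ← sub_eq_add_neg]

theorem finite_of_exact {A B C : Type*} [AddGroup A] [Finite C] (δ : A → C) (ψ : B → A) (hr : Finite (Set.range ψ))
    (h : ∀ x y, δ x = δ y → x - y ∈ Set.range ψ) : Finite A := by
  classical
  have hr' : ∀ c, ∃ a : A, (∃ x, δ x = c) → δ a = c := fun c => by
    by_cases hc : ∃ x, δ x = c
    · exact ⟨hc.choose, fun _ => hc.choose_spec⟩
    · exact ⟨0, fun hc' => absurd hc' hc⟩
  choose r hr2 using hr'
  refine Finite.of_injective (fun x => (δ x, (⟨x - r (δ x), h x (r (δ x)) (hr2 _ ⟨x, rfl⟩).symm⟩ : Set.range ψ)))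
    fun a b hab => ?_
  simp only [Prod.mk.injEq, Subtype.mk.injEq] at hab
  obtain ⟨h1, h2⟩ := hab
  rw [h1] at h2
  exact sub_left_inj.1 h2

/-- An injective hull sequence. -/
abbrev hull : ShortComplex (EtCoh.Ab Z) :=
  ShortComplex.mk (Injective.ι F) (cokernel.π (Injective.ι F)) (cokernel.condition _)

theorem hull_shortExact : (hull F).ShortExact :=
  { exact := ShortComplex.exact_cokernel _ }

/-- A model of the first higher direct image: the cokernel of the direct image of the hull sequence. -/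
def Qs : EtCoh.Ab X := cokernel ((EtCoh.push j).map (cokernel.π (Injective.ι F)))

/-- The projection. -/
def qs : (EtCoh.push j).obj (cokernel (Injective.ι F)) ⟶ Qs j F := cokernel.π _

/-- A section of the cokernel lifts to the hull. -/
def Lifts (t : ToType ((cokernel (Injective.ι F)).obj.obj (op (EtCoh.top Z)))) (W : Z.Etale) : Prop :=
  ∃ τ : ToType ((Injective.under F).obj.obj (op W)), (cokernel.π (Injective.ι F)).hom.app (op W) τ =
    (cokernel (Injective.ι F)).obj.map ((EtCore.topIsTerminal Z).from W).op t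

theorem Lifts.mono {t : ToType ((cokernel (Injective.ι F)).obj.obj (op (EtCoh.top Z)))} {W W' : Z.Etale}
    (h : Lifts F t W) (g : W' ⟶ W) : Lifts F t W' := by
  obtain ⟨τ, hτ⟩ := h
  refine ⟨(Injective.under F).obj.map g.op τ, (NatTrans.naturality_apply _ g.op τ).trans ?_⟩
  rw [hτ, ← ConcreteCategory.comp_apply, ← Functor.map_comp, ← op_comp,
    (EtCore.topIsTerminal Z).hom_ext (g ≫ (EtCore.topIsTerminal Z).from W) ((EtCore.topIsTerminal Z).from W')]

/-- The section of `Qs` over `X` attached to a section of the cokernel over `Z`. -/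
def qsec (t : ToType ((cokernel (Injective.ι F)).obj.obj (op (EtCoh.top Z)))) :
    ToType ((Qs j F).obj.obj (op (EtCoh.top X))) :=
  (qs j F).hom.app (op (EtCoh.top X)) (show ToType (((EtCoh.push j).obj (cokernel (Injective.ι F))).obj.obj
    (op (EtCoh.top X))) from
      (cokernel (Injective.ι F)).obj.map ((EtCore.topIsTerminal Z).from ((EtCoh.bc j).obj (EtCoh.top X))).op t)

theorem qs_res (t : ToType ((cokernel (Injective.ι F)).obj.obj (op (EtCoh.top Z)))) (U : X.Etale) :
    (Qs j F).obj.map ((EtCore.topIsTerminal X).from U).op (qsec j F t) =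
      (qs j F).hom.app (op U) (show ToType (((EtCoh.push j).obj (cokernel (Injective.ι F))).obj.obj (op U)) from
        (cokernel (Injective.ι F)).obj.map ((EtCore.topIsTerminal Z).from ((EtCoh.bc j).obj U)).op t) := by
  refine (NatTrans.naturality_apply (qs j F).hom _ _).symm.trans (congrArg _ ?_)
  show (cokernel (Injective.ι F)).obj.map ((EtCoh.bc j).map ((EtCore.topIsTerminal X).from U)).op
    ((cokernel (Injective.ι F)).obj.map _ t) = _
  rw [← ConcreteCategory.comp_apply, ← Functor.map_comp, ← op_comp]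
  exact congrArg (fun q => (cokernel (Injective.ι F)).obj.map (Quiver.Hom.op q) t)
    ((EtCore.topIsTerminal Z).hom_ext _ _)

/-- A local lift kills the germ. -/
theorem germ_qsec_eq_zero (t : ToType ((cokernel (Injective.ι F)).obj.obj (op (EtCoh.top Z)))) {Ω : Type u} [Field Ω]
    [IsSepClosed Ω] (ξ : Spec (CommRingCat.of Ω) ⟶ X) (U : X.Etale) (u : Fib ξ U) (v : Fib ξ (EtCoh.top X))
    (h : Lifts F t ((EtCoh.bc j).obj U)) :
    germ (A := AddCommGrpCat.{u + 1}) ξ (Qs j F) (EtCoh.top X) v (qsec j F t) = 0 := by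
  have hv : u.map ((EtCore.topIsTerminal X).from U) = v := Fib.ext (by
    have h1 := (u.map ((EtCore.topIsTerminal X).from U)).w
    have h2 := v.w
    simp only [show (EtCoh.top X).hom = 𝟙 X from rfl] at h1 h2
    exact ((Category.comp_id _).symm.trans h1).trans (h2.symm.trans (Category.comp_id _)))
  rw [← hv, ← germ_res_apply, qs_res]
  obtain ⟨τ, hτ⟩ := h
  rw [← hτ]
  have h0 : (qs j F).hom.app (op U) (((EtCoh.push j).map (cokernel.π (Injective.ι F))).hom.app (op U) τ) = 0 := by
    rw [← ConcreteCategory.comp_apply]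
    show (((EtCoh.push j).map (cokernel.π (Injective.ι F)) ≫ qs j F).hom.app (op U)) τ = 0
    rw [qs, cokernel.condition]
    rfl
  exact (congrArg _ h0).trans (map_zero _)

section Stalk

variable [QuasiCompact j] [QuasiSeparated j] {R : Type u} [CommRing R] [HenselianLocalRing R]
  [IsSepClosed (IsLocalRing.ResidueField R)] {gS : Spec (CommRingCat.of R) ⟶ X} {Zb : Scheme.{u}} {g' : Zb ⟶ Z}
  {f' : Zb ⟶ Spec (CommRingCat.of R)} (sq : IsPullback g' f' j gS) (C : Chart gS)

omit [QuasiCompact j] [QuasiSeparated j] in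
theorem epi_stalk_iff : Epi ((stk (A := AddCommGrpCat.{u + 1}) (closedPt R ≫ gS)).map
      ((EtCoh.push j).map (cokernel.π (Injective.ι F)))) ↔
    IsZero ((stk (A := AddCommGrpCat.{u + 1}) (closedPt R ≫ gS)).obj (Qs j F)) := by
  haveI : PreservesFiniteColimits (stk (A := AddCommGrpCat.{u + 1}) (closedPt R ≫ gS)) := inferInstance
  let a := (EtCoh.push j).map (cokernel.π (Injective.ι F))
  constructor
  · intro h
    exact (isZero_zero AddCommGrpCat.{u + 1}).of_iso (PreservesCokernel.iso _ a ≪≫
      cokernel.ofEpi ((stk (A := AddCommGrpCat.{u + 1}) (closedPt R ≫ gS)).map a))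
  · intro h
    exact Preadditive.epi_of_isZero_cokernel _ (h.of_iso (PreservesCokernel.iso _ a).symm)

include sq C in
/-- The stalks of `Qs` are the first cohomology of the strictly local fibres. -/
theorem isZero_stalk_Qs_iff :
    IsZero ((stk (A := AddCommGrpCat.{u + 1}) (closedPt R ≫ gS)).obj (Qs j F)) ↔
      Subsingleton (EtCoh.H Zb ((EtCoh.pull g').obj F) 1) := by
  obtain ⟨e₀⟩ := EtRpushStalkLib.nonempty_iso j sq C 0
  let e : EtCoh.push j ⋙ stk (A := AddCommGrpCat.{u + 1}) (closedPt R ≫ gS) ≅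
      EtCoh.pull g' ⋙ extFunctorObj (EtCoh.const Zb ℤ) 0 :=
    Functor.isoWhiskerRight (EtCoh.push j).rightDerivedZeroIsoSelf.symm _ ≪≫ e₀
  rw [← epi_stalk_iff]
  let π := cokernel.π (Injective.ι F)
  have hsq : (stk (A := AddCommGrpCat.{u + 1}) (closedPt R ≫ gS)).map ((EtCoh.push j).map π) ≫ e.hom.app _ =
      e.hom.app _ ≫ (extFunctorObj (EtCoh.const Zb ℤ) 0).map ((EtCoh.pull g').map π) := e.hom.naturality π
  have hI : Subsingleton (EtCoh.H Zb ((EtCoh.pull g').obj (Injective.under F)) 1) :=
    EtRpushStalkLib.subsingleton_H j sq C (Injective.under F) 0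
  have hS := shortExact_pull g' (hull_shortExact F)
  constructor
  · intro h
    haveI : Epi (e.hom.app (Injective.under F) ≫ (extFunctorObj (EtCoh.const Zb ℤ) 0).map ((EtCoh.pull g').map π)) := by
      rw [← hsq]
      exact epi_comp _ _
    haveI := epi_of_epi (e.hom.app (Injective.under F)) ((extFunctorObj (EtCoh.const Zb ℤ) 0).map ((EtCoh.pull g').map π))
    have hs := (AddCommGrpCat.epi_iff_surjective _).1 this
    refine subsingleton_of_forall_eq 0 fun c => ?_
    obtain ⟨σ, hσ⟩ := Ext.covariant_sequence_exact₁ _ hS c (@Subsingleton.elim _ hI _ _) rfl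
    obtain ⟨τ, hτ⟩ := hs σ
    rw [← hσ, ← hτ]
    exact (Ext.comp_assoc_of_second_deg_zero _ _ _ _).trans
      ((congrArg (fun z => Ext.comp τ z (zero_add 1)) hS.comp_extClass).trans (by simp))
  · intro h
    haveI : Epi ((extFunctorObj (EtCoh.const Zb ℤ) 0).map ((EtCoh.pull g').map π)) := by
      refine (AddCommGrpCat.epi_iff_surjective _).2 fun σ => ?_
      obtain ⟨τ, hτ⟩ := Ext.covariant_sequence_exact₃ _ hS σ rfl (@Subsingleton.elim _ h _ _)
      exact ⟨τ, hτ⟩
    haveI : Epi ((stk (A := AddCommGrpCat.{u + 1}) (closedPt R ≫ gS)).map ((EtCoh.push j).map π) ≫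
        e.hom.app (cokernel (Injective.ι F))) := by
      rw [hsq]
      exact epi_comp _ _
    exact ((MorphismProperty.epimorphisms AddCommGrpCat.{u + 1}).cancel_right_of_respectsIso _
      (e.hom.app (cokernel (Injective.ι F)))).1 this

omit [QuasiCompact j] [QuasiSeparated j] in
/-- A vanishing stalk gives a local lift. -/
theorem exists_lift_of_isZero (t : ToType ((cokernel (Injective.ι F)).obj.obj (op (EtCoh.top Z))))
    (h : IsZero ((stk (A := AddCommGrpCat.{u + 1}) (closedPt R ≫ gS)).obj (Qs j F))) :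
    ∃ (U : X.Etale) (_ : Fib (closedPt R ≫ gS) U), Lifts F t ((EtCoh.bc j).obj U) := by
  let ξ := closedPt R ≫ gS
  obtain ⟨v⟩ := exists_fib_of_range ξ (U := EtCoh.top X) ⟨ξ.base default, rfl⟩
  let s : ToType (((EtCoh.push j).obj (cokernel (Injective.ι F))).obj.obj (op (EtCoh.top X))) :=
    (cokernel (Injective.ι F)).obj.map ((EtCore.topIsTerminal Z).from ((EtCoh.bc j).obj (EtCoh.top X))).op t
  haveI := (epi_stalk_iff j F).2 h
  obtain ⟨x, hx⟩ := (AddCommGrpCat.epi_iff_surjective _).1 this (germ (A := AddCommGrpCat.{u + 1}) ξ ((EtCoh.push j).obj (cokernel (Injective.ι F))) (EtCoh.top X) v s)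
  obtain ⟨W, g, w, τ, hw, rfl⟩ := exists_germ_below (A := AddCommGrpCat.{u + 1}) ξ x (EtCoh.top X) v
  subst hw
  have hx' : germ (A := AddCommGrpCat.{u + 1}) ξ ((EtCoh.push j).obj (cokernel (Injective.ι F))) W w (((EtCoh.push j).map (cokernel.π (Injective.ι F))).hom.app (op W) τ) =
      germ (A := AddCommGrpCat.{u + 1}) ξ ((EtCoh.push j).obj (cokernel (Injective.ι F))) W w (((EtCoh.push j).obj (cokernel (Injective.ι F))).obj.map g.op s) :=
    (germ_natural_apply ξ _ W w τ).symm.trans (hx.trans (germ_res_apply ξ _ g w s).symm)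
  obtain ⟨U, k, u, -, he⟩ := (germ_eq_iff ξ W w _ _).1 hx'
  refine ⟨U, u, (Injective.under F).obj.map ((EtCoh.bc j).map k).op τ,
    (NatTrans.naturality_apply _ _ τ).trans (he.trans ?_)⟩
  show (cokernel (Injective.ι F)).obj.map ((EtCoh.bc j).map k).op ((cokernel (Injective.ι F)).obj.map
    ((EtCoh.bc j).map g).op ((cokernel (Injective.ι F)).obj.map _ t)) = _
  rw [← ConcreteCategory.comp_apply, ← ConcreteCategory.comp_apply, ← Functor.map_comp, ← Functor.map_comp,
    ← op_comp, ← op_comp]
  exact congrArg (fun q => (cokernel (Injective.ι F)).obj.map (Quiver.Hom.op q) t)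
    ((EtCore.topIsTerminal Z).hom_ext _ _)

end Stalk

section Global

/-- The image of the direct image of the hull. -/
abbrev imB : EtCoh.Ab X := kernel (qs j F)

/-- The restriction to `Z` of global sections of a direct image. -/
abbrev toZ (M : EtCoh.Ab Z) (n : ℕ) : EtCoh.H X ((EtCoh.push j).obj M) n →+ EtCoh.H Z M n :=
  EtLim.HpullThen j ((EtCoh.push j).obj M) (adjL j (𝟙 _)) n

theorem toZ_surjective (M : EtCoh.Ab Z) : Function.Surjective (toZ j M 0) := fun y => by
  obtain ⟨e, he⟩ := sec_surjective (G := (EtCoh.push j).obj M)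
    (show ToType (((EtCoh.push j).obj M).obj.obj (op (EtCoh.top X))) from
      M.obj.map (EtCore.bcTopIso j).hom.op (sec y))
  refine ⟨e, sec_injective ?_⟩
  rw [show sec (toZ j M 0 e) = _ from sec_HpullThen j (𝟙 _) e]
  show M.obj.map (EtCore.bcTopIso j).inv.op (sec e) = _
  rw [he]
  erw [← ConcreteCategory.comp_apply, ← Functor.map_comp, ← op_comp, Iso.inv_hom_id]
  simp

theorem toZ_injective (M : EtCoh.Ab Z) : Function.Injective (toZ j M 0) := fun a b h => by
  refine sec_injective ?_
  have h' := congrArg sec h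
  rw [show sec (toZ j M 0 a) = _ from sec_HpullThen j (𝟙 _) a,
    show sec (toZ j M 0 b) = _ from sec_HpullThen j (𝟙 _) b] at h'
  exact (ConcreteCategory.bijective_of_isIso (M.obj.map (EtCore.bcTopIso j).inv.op)).1 h'

/-- The left half of the sequence. -/
abbrev seqA : ShortComplex (EtCoh.Ab X) :=
  ShortComplex.mk ((EtCoh.push j).map (Injective.ι F))
    (kernel.lift (qs j F) ((EtCoh.push j).map (cokernel.π (Injective.ι F))) (cokernel.condition _))
    (by
      rw [← cancel_mono (kernel.ι (qs j F)), Category.assoc, kernel.lift_ι, ← Functor.map_comp, cokernel.condition,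
        Functor.map_zero, zero_comp])

theorem seqA_shortExact : (seqA j F).ShortExact := by
  haveI : PreservesLimitsOfSize.{0, 0} (EtCoh.push j) := (EtCoh.pullPushAdj j).rightAdjoint_preservesLimits
  haveI : PreservesFiniteLimits (EtCoh.push j) := PreservesLimitsOfSize.preservesFiniteLimits _
  haveI : (EtCoh.push j).Additive := { }
  let S := ShortComplex.mk ((EtCoh.push j).map (cokernel.π (Injective.ι F))) (qs j F) (cokernel.condition _)
  have hS : S.Exact := ShortComplex.exact_cokernel _
  have h1 := (hull_shortExact F).exact.map_of_mono_of_preservesKernel (EtCoh.push j) (hull_shortExact F).mono_f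
    (inferInstance)
  exact
    { exact := by
        let φ : seqA j F ⟶ (hull F).map (EtCoh.push j) :=
          { τ₁ := 𝟙 _
            τ₂ := 𝟙 _
            τ₃ := kernel.ι (qs j F)
            comm₁₂ := by simp
            comm₂₃ := by simp }
        haveI : Epi φ.τ₁ := inferInstanceAs (Epi (𝟙 _))
        haveI : IsIso φ.τ₂ := inferInstanceAs (IsIso (𝟙 _))
        haveI : Mono φ.τ₃ := inferInstanceAs (Mono (kernel.ι _))
        exact (ShortComplex.exact_iff_of_epi_of_isIso_of_mono φ).2 h1
      mono_f := inferInstanceAs (Mono ((EtCoh.push j).map (Injective.ι F)))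
      epi_g := hS.epi_kernelLift }

/-- The right half of the sequence. -/
abbrev seqQ : ShortComplex (EtCoh.Ab X) := ShortComplex.mk (kernel.ι (qs j F)) (qs j F) (kernel.condition _)

theorem seqQ_shortExact : (seqQ j F).ShortExact :=
  { exact := ShortComplex.exact_kernel _
    epi_g := inferInstanceAs (Epi (cokernel.π _)) }

theorem toZ_delta (y : EtCoh.H X (kernel (qs j F)) 0) :
    toZ j F 1 (y.comp (seqA_shortExact j F).extClass rfl) =
      Ext.comp (toZ j (cokernel (Injective.ι F)) 0 (y.comp (Ext.mk₀ (kernel.ι (qs j F))) (add_zero 0)))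
        (hull_shortExact F).extClass rfl := by
  refine (HpullThen_delta j (seqA_shortExact j F) (hull_shortExact F) (𝟙 _) (𝟙 _) (kernel.ι (qs j F))
    (by simp) (by simp) y).trans ?_
  refine congrArg (fun z => Ext.comp z (hull_shortExact F).extClass rfl) ?_
  refine Eq.trans ?_ (HpullThen_postcomp j (kernel.ι (qs j F)) (𝟙 _) (kernel.ι (qs j F)) (𝟙 _) (by simp) 0 y).symm
  rw [Ext.comp_mk₀_id]

/-- A class of degree one which vanishes locally on `X` comes from `X`. -/
theorem exists_edge (c : EtCoh.H Z F 1)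
    (h : ∀ t : ToType ((cokernel (Injective.ι F)).obj.obj (op (EtCoh.top Z))),
      (∀ σ : EtCoh.H Z (cokernel (Injective.ι F)) 0, sec σ = t →
        Ext.comp σ (hull_shortExact F).extClass rfl = c) → qsec j F t = 0) :
    ∃ e : EtCoh.H X ((EtCoh.push j).obj F) 1, toZ j F 1 e = c := by
  haveI : Subsingleton (EtCoh.H Z (Injective.under F) 1) := CohLib.subsingleton_ext_injective _ _ 0
  obtain ⟨σ, hσ⟩ := Ext.covariant_sequence_exact₁ _ (hull_shortExact F) c (Subsingleton.elim _ _) rfl
  obtain ⟨σ', hσ'⟩ := toZ_surjective j (cokernel (Injective.ι F)) σ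
  have hq := h (sec σ) fun σ₁ h₁ => by rw [sec_injective h₁]; exact hσ
  have h0 : σ'.comp (Ext.mk₀ (qs j F)) (add_zero 0) = 0 := by
    refine sec_eq_zero ((EtRpushStalkLib.sec_comp_mk₀ (qs j F) σ').trans ?_)
    refine Eq.trans ?_ hq
    show (qs j F).hom.app (op (EtCoh.top X)) (sec σ') = (qs j F).hom.app (op (EtCoh.top X)) _
    refine congrArg _ ?_
    have h2 : sec σ = (cokernel (Injective.ι F)).obj.map (EtCore.bcTopIso j).inv.op (sec σ') :=
      (congrArg sec hσ').symm.trans (sec_HpullThen j (𝟙 _) σ')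
    rw [h2, ← ConcreteCategory.comp_apply, ← Functor.map_comp, ← op_comp,
      (EtCore.topIsTerminal Z).hom_ext ((EtCore.topIsTerminal Z).from _) (EtCore.bcTopIso j).hom, Iso.hom_inv_id]
    simp
  obtain ⟨y, hy⟩ := Ext.covariant_sequence_exact₂ _ (seqQ_shortExact j F) σ' h0
  refine ⟨y.comp (seqA_shortExact j F).extClass rfl, (toZ_delta j F y).trans ?_⟩
  rw [hy, hσ', hσ]

/-- Finiteness of the global sections of `Qs`. -/
theorem finite_H_Qs (h₁ : Finite (EtCoh.H Z F 1)) (h₂ : Finite (EtCoh.H X ((EtCoh.push j).obj F) 2)) :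
    Finite (EtCoh.H X (Qs j F) 0) := by
  classical
  let δQ : EtCoh.H X (Qs j F) 0 → EtCoh.H X (kernel (qs j F)) 1 := fun x =>
    Ext.comp x (seqQ_shortExact j F).extClass rfl
  haveI : Finite (EtCoh.H X (kernel (qs j F)) 1) := by
    haveI : Subsingleton (EtCoh.H X ((EtCoh.push j).obj (Injective.under F)) 1) :=
      haveI := EtShLib.injective_push j (Injective.under F)
      CohLib.subsingleton_ext_injective _ _ 0
    refine Finite.of_injective (fun z => (Ext.comp z (seqA_shortExact j F).extClass rfl :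
      EtCoh.H X ((EtCoh.push j).obj F) 2)) fun a b hab => ?_
    have hab' : Ext.comp (a - b) (seqA_shortExact j F).extClass rfl = 0 := by
      rw [sub_comp]
      exact sub_eq_zero.2 hab
    obtain ⟨w, hw⟩ := Ext.covariant_sequence_exact₃ _ (seqA_shortExact j F) (a - b) rfl hab'
    rw [← sub_eq_zero, ← hw, Subsingleton.elim w 0, Ext.zero_comp]
  let θ : EtCoh.H X ((EtCoh.push j).obj (cokernel (Injective.ι F))) 0 → EtCoh.H Z F 1 := fun σ' =>
    Ext.comp (toZ j _ 0 σ') (hull_shortExact F).extClass rfl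
  let ψ : EtCoh.H X ((EtCoh.push j).obj (cokernel (Injective.ι F))) 0 → EtCoh.H X (Qs j F) 0 := fun σ' =>
    σ'.comp (Ext.mk₀ (qs j F)) (add_zero 0)
  have hθ : ∀ a b, θ a = θ b → ψ a = ψ b := fun a b hab => by
    have h0 : Ext.comp (toZ j _ 0 (a - b)) (hull_shortExact F).extClass rfl = 0 := by
      rw [map_sub, sub_comp]
      exact sub_eq_zero.2 hab
    obtain ⟨w, hw⟩ := Ext.covariant_sequence_exact₃ _ (hull_shortExact F) _ rfl h0
    obtain ⟨w', rfl⟩ := toZ_surjective j _ w
    have h3 : a - b = w'.comp (Ext.mk₀ ((EtCoh.push j).map (cokernel.π (Injective.ι F)))) (add_zero 0) := by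
      refine toZ_injective j _ (Eq.trans hw.symm ?_)
      exact (HpullThen_postcomp j (𝟙 _) (𝟙 _) _ (cokernel.π (Injective.ι F)) (by simp) 0 w').symm
    have h4 : ψ (a - b) = 0 := by
      show Ext.comp (a - b) (Ext.mk₀ (qs j F)) (add_zero 0) = 0
      rw [h3, Ext.comp_assoc_of_second_deg_zero, Ext.mk₀_comp_mk₀, qs, cokernel.condition, Ext.mk₀_zero,
        Ext.comp_zero]
    have h5 : ψ (a - b) = ψ a - ψ b := sub_comp _ _ _ _
    exact sub_eq_zero.1 (h5.symm.trans h4)
  haveI hr : Finite (Set.range ψ) := by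
    refine Finite.of_surjective (fun z : Set.range θ => (⟨ψ z.2.choose, ⟨_, rfl⟩⟩ : Set.range ψ)) ?_
    rintro ⟨_, σ', rfl⟩
    exact ⟨⟨θ σ', σ', rfl⟩, Subtype.ext (hθ _ _ (show θ _ = θ σ' from Exists.choose_spec (p := fun y => θ y = θ σ') ⟨σ', rfl⟩))⟩
  refine finite_of_exact δQ ψ hr fun x y hxy => ?_
  have h0 : Ext.comp (x - y) (seqQ_shortExact j F).extClass rfl = 0 := by
    rw [sub_comp]
    exact sub_eq_zero.2 hxy
  obtain ⟨w, hw⟩ := Ext.covariant_sequence_exact₃ _ (seqQ_shortExact j F) _ rfl h0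
  exact ⟨w, hw⟩

end Global

end EtSmAcycLib
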