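import Groth.Agent.EtSmAcycLib.Sys
import Groth.Agent.EtHensGmLib.Fields
import Groth.Agent.EtPBCProperLib.Main
import Groth.Agent.S0073

/-!
# First cohomology of the geometric fibres of strict localisations of the affine line
-/

set_option autoImplicit false
set_option linter.all false
set_option backward.isDefEq.respectTransparency false
set_option backward.isDefEq.respectTransparency.types false
set_option synthInstance.maxHeartbeats 400000
set_option maxHeartbeats 4000000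

universe u

open CategoryTheory CategoryTheory.Limits CategoryTheory.Abelian AlgebraicGeometry Opposite
open Groth.Agent Groth.Agent.EtShLib EtRpushStalkLib EtContLib
open scoped TensorProduct Polynomial

attribute [local instance] EtSliceLib.pullExact

noncomputable section

namespace EtSmAcycLib

theorem sc_model (A : Type u) [CommRing A] [Nontrivial A] {Ω : Type u} [Field Ω] [Algebra A Ω] (RX : Type u)
    [CommRing RX] [Algebra A RX] [Algebra A[X] RX] [IsScalarTower A A[X] RX] [Algebra.WeaklyEtale A[X] RX]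
    (F : Finset Ω) : EtAcyc.OnStrictLocalizations (pullback.fst (mbase A F) (rBase A RX)) SC := by
  let cA := Spec.map (CommRingCat.ofHom (algebraMap A A[X]))
  haveI : Smooth cA := by
    rw [HasRingHomProperty.Spec_iff (P := @Smooth)]
    haveI h : Algebra.Smooth A A[X] := ⟨inferInstance, inferInstance⟩
    show (algebraMap A A[X]).Smooth
    exact RingHom.smooth_algebraMap.2 h
  haveI : Smooth (pullback.fst (mbase A F) cA) := MorphismProperty.pullback_fst _ _ inferInstance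
  let r := Spec.map (CommRingCat.ofHom (algebraMap A[X] RX))
  have hr : r ≫ cA = rBase A RX := by
    rw [← Spec.map_comp, ← CommRingCat.ofHom_comp, ← IsScalarTower.algebraMap_eq]
  let g : lmdl A RX F ⟶ pullback (mbase A F) cA :=
    pullback.lift (pullback.fst _ _) (pullback.snd _ _ ≫ r) (by rw [Category.assoc, hr, pullback.condition])
  have sq : IsPullback g (pullback.snd (mbase A F) (rBase A RX)) (pullback.snd (mbase A F) cA) r := by
    refine (IsPullback.of_bot ?_ (pullback.lift_snd _ _ _).symm (IsPullback.of_hasPullback (mbase A F) cA).flip).flip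
    rw [pullback.lift_fst, hr]
    exact (IsPullback.of_hasPullback (mbase A F) (rBase A RX)).flip
  haveI := EtProperH0Lib.weaklyEtale_spec A[X] RX
  haveI : WeaklyEtale g := MorphismProperty.of_isPullback sq.flip ‹WeaklyEtale r›
  have h := onStrictLocalizations_wet_comp g (pullback.fst (mbase A F) cA) (sc_of_smooth _)
  rwa [pullback.lift_fst] at h

/-- Two sections with the same coboundary have the same obstruction. -/
theorem qsec_eq_zero_of_lifts {Z X : Scheme.{u}} (j : Z ⟶ X) (F₀ : EtCoh.Ab Z) (c : EtCoh.H Z F₀ 1)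
    (σ : EtCoh.H Z (cokernel (Injective.ι F₀)) 0) (hσ : Ext.comp σ (hull_shortExact F₀).extClass rfl = c)
    (hgood : ∀ x : X, ∃ U : X.Etale, x ∈ Set.range U.hom.base ∧ Lifts F₀ (sec σ) ((EtCoh.bc j).obj U))
    (t : ToType ((cokernel (Injective.ι F₀)).obj.obj (op (EtCoh.top Z))))
    (ht : ∀ σ₁ : EtCoh.H Z (cokernel (Injective.ι F₀)) 0, sec σ₁ = t →
      Ext.comp σ₁ (hull_shortExact F₀).extClass rfl = c) : qsec j F₀ t = 0 := by
  obtain ⟨σ₁, rfl⟩ := sec_surjective (G := cokernel (Injective.ι F₀)) t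
  have h0 : Ext.comp (σ₁ - σ) (hull_shortExact F₀).extClass rfl = 0 := by
    rw [sub_comp]
    exact sub_eq_zero.2 ((ht σ₁ rfl).trans hσ.symm)
  obtain ⟨w, hw⟩ := Ext.covariant_sequence_exact₃ _ (hull_shortExact F₀) _ rfl h0
  refine eq_of_germ (A := AddCommGrpCat.{u + 1}) (Qs j F₀) _ _ fun Ω' _ _ ξ v => ?_
  obtain ⟨U, hU, τ, hτ⟩ := hgood (ξ.base default)
  obtain ⟨u₀⟩ := exists_fib_of_range ξ hU
  refine (germ_qsec_eq_zero j F₀ (sec σ₁) ξ U u₀ v ?_).trans (map_zero _).symm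
  refine ⟨τ + (Injective.under F₀).obj.map ((EtCore.topIsTerminal Z).from ((EtCoh.bc j).obj U)).op (sec w), ?_⟩
  have h1 : sec (σ₁ - σ) = (cokernel.π (Injective.ι F₀)).hom.app (op (EtCoh.top Z)) (sec w) := by
    rw [← hw]
    exact EtRpushStalkLib.sec_comp_mk₀ (cokernel.π (Injective.ι F₀)) w
  refine (map_add _ _ _).trans ?_
  refine (congrArg₂ (· + ·) hτ (NatTrans.naturality_apply (cokernel.π (Injective.ι F₀)).hom _ (sec w))).trans ?_
  rw [← h1]
  refine (map_add _ _ _).symm.trans (congrArg _ ?_)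
  rw [← EtRpushStalkLib.sec_add, add_sub_cancel]

/-- Classes coming from the model die over the marked point. -/
theorem toZ_eq_zero_of_push_iso {Z X P : Scheme.{u}} {Ω : Type u} [Field Ω] [IsSepClosed Ω] (j : Z ⟶ X) (p : X ⟶ P)
    (q : Z ⟶ Spec (CommRingCat.of Ω)) (σ₀ : Spec (CommRingCat.of Ω) ⟶ P) (w : q ≫ σ₀ = j ≫ p) (F₀ : EtCoh.Ab Z)
    (N : EtCoh.Ab P) (φ : (EtCoh.push j).obj F₀ ≅ (EtCoh.pull p).obj N)
    (hsurj : Function.Surjective (EtCore.Hpull p N 1)) (e : EtCoh.H X ((EtCoh.push j).obj F₀) 1) :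
    toZ j F₀ 1 e = 0 := by
  obtain ⟨x, hx⟩ := hsurj (Ext.comp e (Ext.mk₀ φ.hom) (add_zero 1))
  have he' : e = Ext.comp (EtCore.Hpull p N 1 x) (Ext.mk₀ φ.inv) (add_zero 1) := by
    rw [hx, Ext.comp_assoc_of_second_deg_zero, Ext.mk₀_comp_mk₀, Iso.hom_inv_id, Ext.comp_mk₀_id]
  have hσ0 : EtCore.Hpull σ₀ N 1 x = 0 := by
    haveI : IsSepClosed (IsLocalRing.ResidueField Ω) := SkySumLib.isSepClosed_residueField_self Ω
    exact (Groth.Agent.S0073.result Ω ((EtCoh.pull σ₀).obj N) 1 le_rfl).elim _ _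
  have h2 := EtHensGmLib.hpull_hpull_eq_zero j p q σ₀ w N 1 x hσ0
  rw [he']
  show ((EtCoh.HF Z 1).map (adjL j (𝟙 _))).hom (EtCore.Hpull j _ 1 _) = 0
  rw [EtAcycLib.Hpull_postcomp, h2, Ext.zero_comp, map_zero]

/-- The direct image from the marked point is pulled back from the model. -/
theorem nonempty_push_model_iso {Z X P : Scheme.{u}} {Ω : Type u} [Field Ω] (j : Z ⟶ X) (p : X ⟶ P)
    (q : Z ⟶ Spec (CommRingCat.of Ω)) (σ₀ : Spec (CommRingCat.of Ω) ⟶ P) [QuasiCompact σ₀] [QuasiSeparated σ₀]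
    (hcart : IsPullback q j σ₀ p) (hp : EtAcyc.OnStrictLocalizations p SC) (ℓ : ℕ) (hℓp : ℓ.Prime) :
    Nonempty ((EtCoh.push j).obj (EtCoh.const Z (ZMod ℓ)) ≅
      (EtCoh.pull p).obj ((EtCoh.push σ₀).obj (EtCoh.const _ (ZMod ℓ)))) := by
  have hG₀ : EtAcyc.IsLTorsion {ℓ} (EtCoh.const (Spec (CommRingCat.of Ω)) (ZMod ℓ)) := by
    have h := EtAcycFibLib.isLTorsion_const (Y := Spec (CommRingCat.of Ω)) (L := {ℓ}) hℓp rfl 1
    rwa [pow_one] at h
  haveI := (bcQ_zero p σ₀ j q hcart hp hG₀).1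
  exact ⟨(EtCoh.push j).mapIso (EtCore.pullConst q (ZMod ℓ)).symm ≪≫
    ((EtCoh.push j).rightDerivedZeroIsoSelf.app _).symm ≪≫
    (asIso (EtBC.bcQ σ₀ p j q hcart.w 0 (EtCoh.const _ (ZMod ℓ)))).symm ≪≫
    (EtCoh.pull p).mapIso ((EtCoh.push σ₀).rightDerivedZeroIsoSelf.app _)⟩

theorem isTorsion_push_const {P : Scheme.{u}} {Ω : Type u} [Field Ω] (σ₀ : Spec (CommRingCat.of Ω) ⟶ P) (ℓ : ℕ)
    (hℓ : 0 < ℓ) : EtCoh.IsTorsion ((EtCoh.push σ₀).obj (EtCoh.const _ (ZMod ℓ))) := by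
  refine EtPBCProperLib.isTorsion_of_nsmul hℓ ?_
  haveI : PreservesLimitsOfSize.{0, 0} (EtCoh.push σ₀) := (EtCoh.pullPushAdj σ₀).rightAdjoint_preservesLimits
  haveI : PreservesFiniteLimits (EtCoh.push σ₀) := PreservesLimitsOfSize.preservesFiniteLimits _
  haveI : (EtCoh.push σ₀).Additive := { }
  rw [← (EtCoh.push σ₀).map_id, ← Functor.map_nsmul,
    show ℓ • 𝟙 (EtCoh.const (Spec (CommRingCat.of Ω)) (ZMod ℓ)) = 0 from EtStrictAcycLib.nsmul_id_const ℓ,
    Functor.map_zero]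

variable (A : Type u) [CommRing A] [Nontrivial A] [HenselianLocalRing A] [IsSepClosed (IsLocalRing.ResidueField A)]
  (Ω : Type u) [Field Ω] [IsAlgClosed Ω] [Algebra A Ω] (RX : Type u) [CommRing RX] [HenselianLocalRing RX]
  [IsSepClosed (IsLocalRing.ResidueField RX)]
  [Algebra A RX] [Algebra A[X] RX] [IsScalarTower A A[X] RX] [Algebra.WeaklyEtale A[X] RX]
  [IsLocalHom (algebraMap A RX)]

set_option maxHeartbeats 8000000 in
/-- Geometric fibres of strict localisations of the affine line have no first cohomology. -/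
theorem subsingleton_H1_gFib (ℓ : ℕ) (hℓp : ℓ.Prime) (hℓ : IsUnit (ℓ : A)) :
    Subsingleton (EtCoh.H (gFib A RX Ω) (EtCoh.const (gFib A RX Ω) (ZMod ℓ)) 1) := by
  refine subsingleton_of_forall_eq 0 fun c => ?_
  haveI : Subsingleton (EtCoh.H (gFib A RX Ω) (Injective.under (Fz A RX ℓ Ω)) 1) :=
    CohLib.subsingleton_ext_injective _ _ 0
  obtain ⟨σ, hσ⟩ := Ext.covariant_sequence_exact₁ _ (hull_shortExact (Fz A RX ℓ Ω)) c (Subsingleton.elim _ _) rfl
  obtain ⟨F, hF⟩ := exists_goodPts (sec σ) hℓp hℓ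
  haveI := isProper_mbase A F
  haveI : QuasiCompact (msec A F) := by
    haveI : QuasiCompact (msec A F ≫ mbase A F) := inferInstance
    exact QuasiCompact.of_comp (msec A F) (mbase A F)
  haveI : QuasiSeparated (msec A F) := by
    haveI : QuasiSeparated (msec A F ≫ mbase A F) := inferInstance
    exact QuasiSeparated.of_comp (msec A F) (mbase A F)
  obtain ⟨e, he⟩ := exists_edge (lsec A RX F) (Fz A RX ℓ Ω) c
    (qsec_eq_zero_of_lifts (lsec A RX F) (Fz A RX ℓ Ω) c σ hσ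
      (fun x => (hF ▸ Set.mem_univ x : x ∈ GoodPts (sec σ) F)))
  obtain ⟨φ⟩ := nonempty_push_model_iso (lsec A RX F) (pullback.fst (mbase A F) (rBase A RX)) (qΩ A RX Ω) (msec A F)
    (isPullback_lsec A RX F) (sc_model A RX F) ℓ hℓp
  rw [← he]
  exact toZ_eq_zero_of_push_iso (lsec A RX F) _ (qΩ A RX Ω) (msec A F) (isPullback_lsec A RX F).w (Fz A RX ℓ Ω) _ φ
    (EtPBCProperLib.bijective_local (algebraMap A RX) (mbase A F)
      (IsPullback.of_hasPullback (mbase A F) (rBase A RX)) _ (isTorsion_push_const (msec A F) ℓ hℓp.pos) 1).2 e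

end EtSmAcycLib
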