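import Groth.Agent.EtPBCProperLib.Root
import Groth.Agent.EtHensGmLib.Main
import Groth.Agent.EtRpushStalkLib.Iso

/-!
# First cohomology of fields in which every element is a power
-/

set_option autoImplicit false
set_option linter.all false
set_option backward.isDefEq.respectTransparency false
set_option backward.isDefEq.respectTransparency.types false
set_option synthInstance.maxHeartbeats 400000
set_option maxHeartbeats 1000000

universe u

open CategoryTheory CategoryTheory.Limits CategoryTheory.Abelian AlgebraicGeometry Opposite Polynomial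
open Groth.Agent Groth.Agent.EtShLib EtRpushStalkLib EtContLib MuConstLib

noncomputable section

namespace EtSmAcycLib

/-- Kummer theory over a field in which units are `n`-th powers. -/
theorem subsingleton_H1_const_of_roots {R : Type u} [CommRing R] (hR : IsField R) (n : ℕ) [NeZero n]
    (hn : (n : R) ≠ 0) (ζ : R) (hζ : Polynomial.aeval ζ (cyclotomic n ℤ) = 0)
    (hroot : ∀ a : R, ∃ b, b ^ n = a) :
    Subsingleton (EtCoh.H (Spec (CommRingCat.of R)) (EtCoh.const (Spec (CommRingCat.of R)) (ZMod n)) 1) := by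
  letI := hR.toField
  let X := Spec (CommRingCat.of R)
  let e := (Scheme.ΓSpecIso (CommRingCat.of R)).inv.hom
  have hu : IsUnit (n : Γ(X, ⊤)) := map_natCast e n ▸ (Ne.isUnit hn).map e
  obtain ⟨hw, hS⟩ := EtPBCProperLib.rootHom_kummer X n hu (e ζ) (MuConstLib.aeval_map e hζ)
  haveI := EtHensGmLib.subsingleton_H1_Gm_local R
  refine subsingleton_of_forall_eq 0 fun x => ?_
  obtain ⟨y, rfl⟩ := Ext.covariant_sequence_exact₁ _ hS x (Subsingleton.elim _ _) rfl
  obtain ⟨t, ht⟩ : ∃ t : ToType ((EtCoh.Gm X).obj.obj (op (EtCoh.top X))), n • t = sec y := by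
    have ha : IsUnit (gmVal X (W := EtCoh.top X) (sec y)) := Units.isUnit _
    let e' := (Scheme.ΓSpecIso (CommRingCat.of R)).commRingCatIsoToRingEquiv
    obtain ⟨b, hb⟩ := hroot (e' (gmVal X (W := EtCoh.top X) (sec y)))
    have hb' : (e'.symm b) ^ n = gmVal X (W := EtCoh.top X) (sec y) :=
      (map_pow e'.symm b n).symm.trans ((congrArg e'.symm hb).trans (e'.symm_apply_apply _))
    have hbu : IsUnit (e'.symm b) := (isUnit_pow_iff (NeZero.ne n)).1 (hb' ▸ ha)
    refine ⟨(show ToType ((EtCoh.Gm X).obj.obj (op (EtCoh.top X))) from ULift.up (Additive.ofMul hbu.unit)), ?_⟩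
    refine gmVal_injective X ((gmVal_nsmul X n _).trans ?_)
    exact hb'
  obtain ⟨s, hs⟩ := sec_surjective (G := EtCoh.Gm X) t
  have hy : y = Ext.comp s (Ext.mk₀ (EtCoh.powMap X n)) (add_zero 0) := by
    refine sec_injective ?_
    rw [EtRpushStalkLib.sec_comp_mk₀, hs, ← ht]
    rfl
  rw [hy]
  exact (Ext.comp_assoc_of_second_deg_zero _ _ _ _).trans
    ((congrArg (fun z => Ext.comp s z (zero_add 1)) hS.comp_extClass).trans (by simp))

end EtSmAcycLib
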