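import Mathlib

/-!
# Valuation rings with algebraically closed fraction field
-/

set_option autoImplicit false
set_option linter.all false

universe u

open Polynomial

noncomputable section

namespace EtSmAcycLib

variable (V : Type u) [CommRing V] [IsDomain V] [ValuationRing V] (K : Type u) [Field K] [Algebra V K]
  [IsFractionRing V K] [IsAlgClosed K]

include K in
/-- A monic polynomial over an integrally closed domain with algebraically closed fraction field splits. -/
theorem exists_roots_eq (f : V[X]) (hf : f.Monic) :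
    ∃ s : Multiset V, f = (s.map fun r => X - C r).prod := by
  have h := (IsAlgClosed.splits (f.map (algebraMap V K))).eq_prod_roots_of_monic (hf.map _)
  have hint : ∀ r ∈ (f.map (algebraMap V K)).roots, ∃ v, algebraMap V K v = r := fun r hr =>
    IsIntegrallyClosed.isIntegral_iff.1 ⟨f, hf, by
      have := (mem_roots'.1 hr).2
      rwa [IsRoot, eval_map] at this⟩
  choose v hv using hint
  refine ⟨(f.map (algebraMap V K)).roots.attach.map fun r => v r.1 r.2, ?_⟩
  apply map_injective (algebraMap V K) (IsFractionRing.injective V K)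
  rw [Polynomial.map_multiset_prod, Multiset.map_map, Multiset.map_map]
  refine h.trans (congrArg Multiset.prod ?_)
  conv_lhs => rw [← Multiset.attach_map_val (f.map (algebraMap V K)).roots]
  rw [Multiset.map_map]
  refine Multiset.map_congr rfl fun r _ => ?_
  simp [hv]

include K in
theorem isAlgClosed_residueField : IsAlgClosed (IsLocalRing.ResidueField V) := by
  refine IsAlgClosed.of_exists_root _ fun p hp hirr => ?_
  obtain ⟨f, hfp, -, hf⟩ := lifts_and_degree_eq_and_monic
    ((mem_lifts p).2 (map_surjective _ IsLocalRing.residue_surjective p)) hp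
  obtain ⟨s, rfl⟩ := exists_roots_eq V K f hf
  rcases s.empty_or_exists_mem with rfl | ⟨r, hr⟩
  · simp only [Multiset.map_zero, Multiset.prod_zero, Polynomial.map_one] at hfp
    exact absurd (hfp ▸ hirr) not_irreducible_one
  · refine ⟨IsLocalRing.residue V r, ?_⟩
    rw [← hfp, Polynomial.eval_map, Polynomial.eval₂_at_apply, Polynomial.eval_multiset_prod, Multiset.map_map,
      Multiset.prod_eq_zero (Multiset.mem_map.2 ⟨r, hr, by simp⟩), map_zero]

include K in
theorem henselianLocalRing_of_isAlgClosed : HenselianLocalRing V where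
  is_henselian f hf a₀ h₁ _ := by
    obtain ⟨s, rfl⟩ := exists_roots_eq V K f hf
    rw [eval_multiset_prod, Multiset.map_map] at h₁
    obtain ⟨t, ht, hmem⟩ := ((IsLocalRing.maximalIdeal.isMaximal V).isPrime.multiset_prod_mem_iff_exists_mem _).1 h₁
    obtain ⟨r, hr, rfl⟩ := Multiset.mem_map.1 ht
    refine ⟨r, ?_, ?_⟩
    · rw [IsRoot, eval_multiset_prod, Multiset.map_map]
      exact Multiset.prod_eq_zero (Multiset.mem_map.2 ⟨r, hr, by simp⟩)
    · simp only [Function.comp_apply, eval_sub, eval_X, eval_C] at hmem
      rw [← neg_mem_iff, neg_sub]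
      exact hmem

include K in
/-- Primes of the affine line over the closed point. -/
theorem prime_cases (p : Ideal V[X]) [p.IsPrime] (hp : ∀ v : V, ¬ IsUnit v → C v ∈ p) :
    (∀ g ∈ p, ∀ i, ¬ IsUnit (g.coeff i)) ∨ ∃ b : V, X - C b ∈ p := by
  haveI := isAlgClosed_residueField V K
  by_cases h : ∀ g ∈ p, ∀ i, ¬ IsUnit (g.coeff i)
  · exact Or.inl h
  push Not at h
  obtain ⟨g, hg, i, hi⟩ := h
  refine Or.inr ?_
  let q := mapRingHom (IsLocalRing.residue V)
  have hq : Function.Surjective q := map_surjective _ IsLocalRing.residue_surjective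
  have hker : RingHom.ker q ≤ p := fun r hr => by
    rw [r.as_sum_support_C_mul_X_pow]
    refine Ideal.sum_mem _ fun j _ => p.mul_mem_right _ (hp _ ?_)
    intro hu
    have := congrArg (fun t => t.coeff j) (RingHom.mem_ker.1 hr)
    simp only [q, coe_mapRingHom, coeff_map, coeff_zero] at this
    exact (IsLocalRing.residue_ne_zero_iff_isUnit _).2 hu this
  haveI : (p.map q).IsPrime := Ideal.map_isPrime_of_surjective hq hker
  have hne : q g ≠ 0 := fun h0 => by
    have := congrArg (fun t => t.coeff i) h0
    simp only [q, coe_mapRingHom, coeff_map, coeff_zero] at this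
    exact (IsLocalRing.residue_ne_zero_iff_isUnit _).2 hi this
  have hmem : q g ∈ p.map q := Ideal.mem_map_of_mem q hg
  rw [(IsAlgClosed.splits (q g)).eq_prod_roots] at hmem
  have hu : IsUnit (C (q g).leadingCoeff) := isUnit_C.2 (Ne.isUnit (leadingCoeff_ne_zero.2 hne))
  rw [Ideal.unit_mul_mem_iff_mem _ hu] at hmem
  obtain ⟨t, ht, hmem'⟩ := (‹(p.map q).IsPrime›.multiset_prod_mem_iff_exists_mem _).1 hmem
  obtain ⟨r, -, rfl⟩ := Multiset.mem_map.1 ht
  obtain ⟨b, rfl⟩ := IsLocalRing.residue_surjective r
  refine ⟨b, ?_⟩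
  have h1 : X - C b ∈ (p.map q).comap q := by
    simpa [q] using hmem'
  rwa [Ideal.comap_map_of_surjective q hq, sup_eq_left.2 (by rwa [← RingHom.ker_eq_comap_bot])] at h1

end EtSmAcycLib
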