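import Groth.Agent.EtSmAcycLib.Val
import Groth.Agent.EtSmAcycLib.Field
import Groth.Agent.EtSmAcycLib.ValRing

/-!
# The generic fibre of a strict localisation at the Gauss point
-/

set_option autoImplicit false
set_option linter.all false
set_option backward.isDefEq.respectTransparency false
set_option backward.isDefEq.respectTransparency.types false
set_option synthInstance.maxHeartbeats 400000
set_option maxHeartbeats 1000000

universe u

open CategoryTheory AlgebraicGeometry Polynomial TensorProduct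
open Groth.Agent

noncomputable section

namespace EtSmAcycLib

variable (V : Type u) [CommRing V] [IsDomain V] [ValuationRing V] (K : Type u) [Field K] [Algebra V K]
  [IsFractionRing V K] [IsAlgClosed K]

/-- Elements of a tensor product with the fraction field have denominators. -/
theorem exists_tmul (W : Type u) [CommRing W] [Algebra V W] (z : W ⊗[V] K) :
    ∃ (w : W) (k : K), z = w ⊗ₜ k := by
  induction z using TensorProduct.induction_on with
  | zero => exact ⟨0, 0, by simp⟩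
  | tmul w k => exact ⟨w, k, rfl⟩
  | add a b ha hb =>
    obtain ⟨w₁, k₁, rfl⟩ := ha
    obtain ⟨w₂, k₂, rfl⟩ := hb
    obtain ⟨a₁, s₁, hs₁, rfl⟩ := IsFractionRing.div_surjective V k₁
    obtain ⟨a₂, s₂, hs₂, rfl⟩ := IsFractionRing.div_surjective V k₂
    refine ⟨(a₁ * s₂) • w₁ + (a₂ * s₁) • w₂, (algebraMap V K (s₁ * s₂))⁻¹, ?_⟩
    have h1 : algebraMap V K s₁ ≠ 0 := IsFractionRing.to_map_ne_zero_of_mem_nonZeroDivisors hs₁
    have h2 : algebraMap V K s₂ ≠ 0 := IsFractionRing.to_map_ne_zero_of_mem_nonZeroDivisors hs₂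
    rw [add_tmul, smul_tmul, smul_tmul, Algebra.smul_def, Algebra.smul_def, map_mul, map_mul, map_mul]
    congr 2 <;> field_simp

/-- The generic fibre of a strict localisation at the Gauss point has no first cohomology. -/
theorem subsingleton_H1_gauss (ℓ : ℕ) (hℓp : ℓ.Prime) (hℓ : IsUnit (ℓ : V)) (W : Type u) [CommRing W]
    [HenselianLocalRing W] [IsSepClosed (IsLocalRing.ResidueField W)] [Algebra V[X] W] [Algebra V W]
    [IsScalarTower V V[X] W] [Algebra.WeaklyEtale V[X] W]
    (hloc : ∀ v : V, ¬ IsUnit v → ¬ IsUnit (algebraMap V W v))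
    (hprim : ∀ g : V[X], (∃ i, IsUnit (g.coeff i)) → IsUnit (algebraMap V[X] W g)) :
    Subsingleton (EtCoh.H (Spec (CommRingCat.of (W ⊗[V] K)))
      (EtCoh.const (Spec (CommRingCat.of (W ⊗[V] K))) (ZMod ℓ)) 1) := by
  have hC : ∀ v : V, algebraMap V[X] W (C v) = algebraMap V W v := fun v =>
    (IsScalarTower.algebraMap_apply V V[X] W v).symm
  obtain ⟨hdom, hinj, hass⟩ := exists_assoc V K W (fun v hv => by rw [hC]; exact hloc v hv) hprim
  haveI := hdom
  let L := FractionRing W
  have hVW : Function.Injective (algebraMap V W) := fun a b h => C_inj.1 (hinj (by rw [hC, hC]; exact h))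
  haveI : IsScalarTower V W L := inferInstance
  let φK : K →ₐ[V] L := IsFractionRing.liftAlgHom (g := Algebra.ofId V L)
    (show Function.Injective (algebraMap V L) by
      rw [IsScalarTower.algebraMap_eq V W L]
      exact (IsFractionRing.injective W L).comp hVW)
  haveI : Nontrivial (W ⊗[V] K) :=
    (Algebra.TensorProduct.lift (IsScalarTower.toAlgHom V W L) φK (fun _ _ => Commute.all _ _)).toRingHom.domain_nontrivial
  let ι : K →+* W ⊗[V] K := Algebra.TensorProduct.includeRight.toRingHom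
  have key : ∀ z : W ⊗[V] K, z ≠ 0 → ∃ (u : Wˣ) (k : K), k ≠ 0 ∧ z = (u : W) ⊗ₜ k := by
    intro z hz
    obtain ⟨w, k, rfl⟩ := exists_tmul V K W z
    have hw : w ≠ 0 := fun h => hz (by rw [h, zero_tmul])
    have hk : k ≠ 0 := fun h => hz (by rw [h, tmul_zero])
    obtain ⟨v, u, hv, rfl⟩ := hass w hw
    refine ⟨u, algebraMap V K v * k, mul_ne_zero ((map_ne_zero_iff _ (IsFractionRing.injective V K)).2 hv) hk, ?_⟩
    rw [hC, ← Algebra.smul_def, smul_tmul, Algebra.smul_def]
  have hF : IsField (W ⊗[V] K) := ⟨⟨0, 1, zero_ne_one⟩, mul_comm, fun {z} hz => by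
    obtain ⟨u, k, hk, rfl⟩ := key z hz
    exact ⟨(↑u⁻¹ : W) ⊗ₜ k⁻¹, by rw [Algebra.TensorProduct.tmul_mul_tmul, Units.mul_inv, mul_inv_cancel₀ hk]; rfl⟩⟩
  haveI : NeZero ℓ := ⟨hℓp.pos.ne'⟩
  have hℓK : (ℓ : K) ≠ 0 := by
    have := (hℓ.map (algebraMap V K)).ne_zero
    rwa [map_natCast] at this
  obtain ⟨ζ, hζ'⟩ := IsAlgClosed.exists_root (cyclotomic ℓ K)
    (by rw [degree_cyclotomic]; exact_mod_cast (Nat.totient_pos.2 hℓp.pos).ne')
  have hζ : Polynomial.aeval ζ (cyclotomic ℓ ℤ) = 0 := by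
    rw [aeval_def, eval₂_eq_eval_map, map_cyclotomic]
    exact hζ'
  refine subsingleton_H1_const_of_roots hF ℓ ?_ (ι ζ) (MuConstLib.aeval_map ι hζ) fun z => ?_
  · rw [← map_natCast ι]
    exact ((Ne.isUnit hℓK).map ι).ne_zero
  rcases eq_or_ne z 0 with rfl | hz
  · exact ⟨0, zero_pow hℓp.pos.ne'⟩
  obtain ⟨u, k, hk, rfl⟩ := key z hz
  obtain ⟨k₁, hk₁⟩ := IsAlgClosed.exists_pow_nat_eq k hℓp.pos
  obtain ⟨u₁, hu₁⟩ : ∃ u₁ : W, u₁ ^ ℓ = u := by
    let R := IsLocalRing.ResidueField W
    let ū : R := IsLocalRing.residue W u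
    have hū : ū ≠ 0 := (u.isUnit.map (IsLocalRing.residue W)).ne_zero
    have hℓR : (ℓ : R) ≠ 0 := by
      rw [← map_natCast ((IsLocalRing.residue W).comp (algebraMap V W))]
      exact (hℓ.map _).ne_zero
    obtain ⟨a, ha⟩ := IsSepClosed.exists_root (X ^ ℓ - C ū : R[X])
      (by rw [degree_X_pow_sub_C hℓp.pos]; exact_mod_cast hℓp.pos.ne') (separable_X_pow_sub_C ū hℓR hū)
    obtain ⟨a₀, rfl⟩ := IsLocalRing.residue_surjective a
    have ha0 : IsLocalRing.residue W a₀ ^ ℓ = ū := by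
      simpa [sub_eq_zero] using ha
    obtain ⟨r, hr, -⟩ := HenselianLocalRing.is_henselian (X ^ ℓ - C (u : W)) (monic_X_pow_sub_C _ hℓp.pos.ne') a₀
      (by
        rw [← IsLocalRing.residue_eq_zero_iff, eval_sub, eval_pow, eval_X, eval_C, map_sub, map_pow, ha0]
        exact sub_self _)
      (by
        rw [← IsLocalRing.residue_ne_zero_iff_isUnit]
        simp only [derivative_sub, derivative_X_pow, derivative_C, sub_zero, eval_mul, eval_C, eval_pow, eval_X,
          map_mul, map_natCast, map_pow]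
        exact mul_ne_zero (by simpa using hℓR) (pow_ne_zero _ fun h => hū (by rw [← ha0, h, zero_pow hℓp.pos.ne'])))
    exact ⟨r, by simpa [sub_eq_zero] using hr⟩
  exact ⟨u₁ ⊗ₜ k₁, by rw [Algebra.TensorProduct.tmul_pow, hu₁, hk₁]⟩

end EtSmAcycLib
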