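import Groth.Agent.EtShLib.LocConst
import Groth.Agent.EtBcQLib.Etale

/-!
# Locally constant sheaves: locality and annihilators
-/

set_option autoImplicit false
set_option linter.all false
set_option backward.isDefEq.respectTransparency false
set_option backward.isDefEq.respectTransparency.types false
set_option synthInstance.maxHeartbeats 400000
set_option maxHeartbeats 1000000

universe u

open CategoryTheory CategoryTheory.Limits AlgebraicGeometry Opposite
open Groth.Agent Groth.Agent.EtShLib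

noncomputable section

namespace EtSmAcycLib

/-- Local constancy is local for the Zariski topology. -/
theorem lc_of_open_cover {S : Scheme.{u}} (P : AddCommGrpCat.{u + 1} → Prop) (G : EtCoh.Ab S)
    (h : ∀ s : S, ∃ V : S.Opens, s ∈ V ∧ LC P ((EtCoh.pull V.ι).obj G)) : LC P G := by
  intro s
  obtain ⟨V, hs, hV⟩ := h s
  obtain ⟨U, y, M, η, hy, hM, hη⟩ := hV ⟨s, hs⟩
  haveI : AlgebraicGeometry.Etale U.hom := U.prop
  let W : S.Etale := MorphismProperty.Over.mk ⊤ (U.hom ≫ V.ι) (inferInstanceAs (AlgebraicGeometry.Etale _))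
  let d : U ⟶ (EtCoh.bc V.ι).obj W := MorphismProperty.Over.homMk
    (pullback.lift (𝟙 U.left) U.hom (Category.id_comp _)) (pullback.lift_snd _ _ _)
  haveI : IsIso (d.left ≫ pullback.fst W.hom V.ι) := by
    rw [show d.left ≫ pullback.fst W.hom V.ι = 𝟙 U.left from pullback.lift_fst _ _ _]
    infer_instance
  let φ : G.obj.obj (op W) ⟶ ((EtCoh.pull V.ι).obj G).obj.obj (op U) :=
    ((EtCoh.pullPushAdj V.ι).unit.app G).hom.app (op W) ≫ ((EtCoh.pull V.ι).obj G).obj.map d.op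
  haveI : IsIso φ := (ConcreteCategory.isIso_iff_bijective φ).2 (EtBcQLib.bijective_unit_res V.ι G U W d)
  refine ⟨W, y, M, η ≫ inv φ, by show V.ι.base (U.hom.base y) = s; rw [hy]; rfl, hM, ?_⟩
  intro Ω _ _ ξ u
  obtain ⟨ξ', e⟩ : ∃ ξ' : Spec (CommRingCat.of Ω) ⟶ V, ξ = ξ' ≫ V.ι :=
    ⟨u.hom ≫ U.hom, (u.w.symm.trans (Category.assoc _ _ _).symm)⟩
  subst e
  have hv : u.hom ≫ U.hom = ξ' := (cancel_mono V.ι).1 ((Category.assoc _ _ _).trans u.w)
  let v : Fib ξ' U := Fib.mk u.hom hv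
  haveI := hη Ω ξ' v
  have hu : (v.map d).proj V.ι ξ' = u := Fib.ext (by
    show (u.hom ≫ d.left) ≫ pullback.fst W.hom V.ι = u.hom
    rw [Category.assoc, show d.left ≫ pullback.fst W.hom V.ι = 𝟙 U.left from pullback.lift_fst _ _ _]
    exact Category.comp_id _)
  have e1 := germ_stalkPull V.ι ξ' AddCommGrpCat.{u + 1} G W ((v.map d).proj V.ι ξ')
  rw [Fib.lift_proj, hu] at e1
  have e2 : φ ≫ germ ξ' ((EtCoh.pull V.ι).obj G) U v =
      germ (ξ' ≫ V.ι) G W u ≫ (stalkPull V.ι ξ' AddCommGrpCat.{u + 1}).hom.app G := by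
    rw [e1, Category.assoc, germ_res]
  haveI : IsIso (((η ≫ inv φ) ≫ germ (ξ' ≫ V.ι) G W u) ≫ (stalkPull V.ι ξ' AddCommGrpCat.{u + 1}).hom.app G) := by
    rw [Category.assoc, ← e2, Category.assoc, IsIso.inv_hom_id_assoc]
    infer_instance
  exact IsIso.of_isIso_comp_right _ ((stalkPull V.ι ξ' AddCommGrpCat.{u + 1}).hom.app G)

/-- All stalks over points of `A` are killed by `N`. -/
def StalksKilled {X : Scheme.{u}} (F : EtCoh.Ab X) (A : Set X) (N : ℕ) : Prop :=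
  ∀ (Ω : Type u) [Field Ω] [IsSepClosed Ω] (ξ : Spec (CommRingCat.of Ω) ⟶ X), ξ.base default ∈ A →
    ∀ z : (EtCoh.stalk ξ).obj F, N • z = 0

/-- Near each point, a locally constant sheaf is killed by the exponent of a stalk. -/
theorem exists_open_stalksKilled {X : Scheme.{u}} {P : AddCommGrpCat.{u + 1} → Prop} {F : EtCoh.Ab X} (hF : LC P F)
    (htor : ∀ (Ω : Type u) [Field Ω] [IsSepClosed Ω] (ξ : Spec (CommRingCat.of Ω) ⟶ X),
      ∃ n : ℕ, 0 < n ∧ (n : Ω) ≠ 0 ∧ ∀ s : (EtCoh.stalk ξ).obj F, n • s = 0) (x : X) :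
    ∃ (O : X.Opens) (n : ℕ), x ∈ O ∧ 0 < n ∧ (n : X.residueField x) ≠ 0 ∧ StalksKilled F O n := by
  obtain ⟨U, y, M, η, hy, -, hη⟩ := hF x
  obtain ⟨Ω, _, _, ξ, hξ⟩ := exists_geometric_pt x
  obtain ⟨n, hn0, hn, hkill⟩ := htor Ω ξ
  obtain ⟨a, -⟩ := exists_fib ξ U y (hy.trans hξ.symm)
  haveI := hη Ω ξ a
  haveI : AlgebraicGeometry.Etale U.hom := U.prop
  have hnx : (n : X.residueField x) ≠ 0 := by
    subst hξ
    intro h0
    refine hn ?_
    have key : ∀ (p : Σ z : X, X.residueField z ⟶ CommRingCat.of Ω) (z : X), p.1 = z →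
        (n : X.residueField z) = 0 → (n : Ω) = 0 := by
      rintro ⟨_, φ⟩ z rfl h
      rw [← map_natCast φ.hom, h, map_zero]
    exact key ((Scheme.SpecToEquivOfField Ω X) ξ) _ (congrArg ξ.base (Subsingleton.elim _ _)) h0
  have hM : ∀ m : M, n • m = 0 := fun m => by
    have hb := ConcreteCategory.bijective_of_isIso (η ≫ germ ξ F U a)
    refine hb.1 ((map_nsmul (η ≫ germ ξ F U a).hom n m).trans ((hkill _).trans ?_))
    exact (map_zero (η ≫ germ ξ F U a).hom).symm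
  refine ⟨⟨Set.range U.hom.base, U.hom.isOpenMap.isOpen_range⟩, n, ⟨y, hy⟩, hn0, hnx, fun Ω' _ _ ξ' hξ' z => ?_⟩
  obtain ⟨y', hy'⟩ := hξ'
  obtain ⟨b, -⟩ := exists_fib ξ' U y' hy'
  haveI := hη Ω' ξ' b
  obtain ⟨m, rfl⟩ := (ConcreteCategory.bijective_of_isIso (η ≫ germ ξ' F U b)).2 z
  refine ((map_nsmul (η ≫ germ ξ' F U b).hom n m).symm).trans ?_
  rw [hM m]
  exact map_zero (η ≫ germ ξ' F U b).hom

theorem stalksKilled_mono {X : Scheme.{u}} {F : EtCoh.Ab X} {A : Set X} {n N : ℕ} (h : StalksKilled F A n) (hd : n ∣ N) :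
    StalksKilled F A N := fun Ω _ _ ξ hξ z => by
  obtain ⟨c, rfl⟩ := hd
  rw [mul_comm, mul_smul, h Ω ξ hξ z]
  exact smul_zero c

/-- The restriction to an open where all stalks are killed is killed. -/
theorem killedBy_pull {X : Scheme.{u}} {F : EtCoh.Ab X} (V : X.Opens) {N : ℕ} (h : StalksKilled F (V : Set X) N) :
    EtCoh.KilledBy N ((EtCoh.pull V.ι).obj F) := fun U s => by
  refine eq_of_germ ((EtCoh.pull V.ι).obj F) (N • s) 0 fun Ω _ _ ξ w => ?_
  let e := (stalkPull V.ι ξ AddCommGrpCat.{u + 1}).hom.app F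
  haveI : IsIso e := inferInstance
  obtain ⟨z, hz⟩ := (ConcreteCategory.bijective_of_isIso e).2 (germ ξ ((EtCoh.pull V.ι).obj F) U w s)
  have h0 : N • z = 0 := h Ω (ξ ≫ V.ι) (ξ.base default).2 z
  refine ((map_nsmul (germ ξ ((EtCoh.pull V.ι).obj F) U w).hom N s).trans ?_).trans
    (map_zero (germ ξ ((EtCoh.pull V.ι).obj F) U w).hom).symm
  refine ((congrArg (N • ·) hz.symm).trans (map_nsmul e.hom N z).symm).trans ?_
  rw [h0]
  exact map_zero e.hom

end EtSmAcycLib
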