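import Mathlib.AlgebraicGeometry.Sites.Etale
import Mathlib.RingTheory.Unramified.LocalStructure
import Mathlib.RingTheory.Etale.StandardEtale

/-!
# Standard étale neighbourhoods and their lifts along ring maps
-/

set_option autoImplicit false
set_option linter.all false
set_option backward.isDefEq.respectTransparency false
set_option backward.isDefEq.respectTransparency.types false
set_option maxHeartbeats 1000000

universe u

open CategoryTheory CategoryTheory.Limits AlgebraicGeometry Polynomial

noncomputable section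

namespace EtSmAcycLib

/-- A point of an étale scheme over an affine one has a standard étale neighbourhood. -/
theorem exists_standard {C : Type u} [CommRing C] {U : Scheme.{u}} (h : U ⟶ Spec (CommRingCat.of C)) [Etale h] (u₀ : U) :
    ∃ (P : StandardEtalePair C) (q : Spec (CommRingCat.of P.Ring)) (α : Spec (CommRingCat.of P.Ring) ⟶ U),
      α ≫ h = Spec.map (CommRingCat.ofHom (algebraMap C P.Ring)) ∧ α.base q = u₀ := by
  obtain ⟨_, ⟨W, hW, rfl⟩, hu, -⟩ :=
    U.isBasis_affineOpens.exists_subset_of_mem_open (Set.mem_univ u₀) isOpen_univ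
  let S := Γ(U, W)
  let m : C →+* S := (Spec.preimage (hW.fromSpec ≫ h)).hom
  letI : Algebra C S := m.toAlgebra
  have hm : Spec.map (CommRingCat.ofHom (algebraMap C S)) = hW.fromSpec ≫ h := Spec.map_preimage _
  haveI : Algebra.Etale C S := by
    rw [← RingHom.etale_algebraMap]
    have h1 : Etale (Spec.map (CommRingCat.ofHom (algebraMap C S))) := by rw [hm]; infer_instance
    exact (HasRingHomProperty.Spec_iff (P := @Etale)).1 h1
  let Q : PrimeSpectrum S := hW.primeIdealOf ⟨u₀, hu⟩
  obtain ⟨r, hr, hstd⟩ := Algebra.IsEtaleAt.exists_isStandardEtale (R := C) Q.asIdeal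
  obtain ⟨Pp⟩ := hstd.nonempty_standardEtalePresentation
  let a : S →+* Pp.P.Ring := (Pp.equivRing : _ →+* Pp.P.Ring).comp (algebraMap S (Localization.Away r))
  have ha : a.comp (algebraMap C S) = algebraMap C Pp.P.Ring := RingHom.ext fun c => by
    show Pp.equivRing (algebraMap S (Localization.Away r) (algebraMap C S c)) = _
    rw [← IsScalarTower.algebraMap_apply, AlgEquiv.commutes]
  obtain ⟨qr, hqr⟩ : Q ∈ Set.range (PrimeSpectrum.comap (algebraMap S (Localization.Away r))) := by
    rw [PrimeSpectrum.localization_away_comap_range (Localization.Away r) r]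
    exact hr
  refine ⟨Pp.P, PrimeSpectrum.comap (Pp.equivRing.symm : Pp.P.Ring →+* _) qr,
    Spec.map (CommRingCat.ofHom a) ≫ hW.fromSpec, ?_, ?_⟩
  · rw [Category.assoc, ← hm, ← Spec.map_comp, ← CommRingCat.ofHom_comp, ha]
  · show hW.fromSpec.base (PrimeSpectrum.comap a (PrimeSpectrum.comap _ qr)) = u₀
    have : PrimeSpectrum.comap a (PrimeSpectrum.comap (Pp.equivRing.symm : Pp.P.Ring →+* _) qr) = Q := by
      rw [← hqr, ← PrimeSpectrum.comap_comp_apply]
      congr 1
      exact RingHom.ext fun s => Pp.equivRing.symm_apply_apply _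
    rw [this]
    exact hW.fromSpec_primeIdealOf ⟨u₀, hu⟩

/-- Standard étale pairs with coefficients in the image lift. -/
theorem exists_pair_lift {B C : Type u} [CommRing B] [CommRing C] (π : B →+* C) (P : StandardEtalePair C)
    (hf : ∀ i, P.f.coeff i ∈ π.range) (hg : ∀ i, P.g.coeff i ∈ π.range) :
    ∃ (P' : StandardEtalePair B) (a : P'.Ring →+* P.Ring),
      a.comp (algebraMap B P'.Ring) = (algebraMap C P.Ring).comp π ∧
      ∀ (T : Type u) [CommRing T] (c : C →+* T) (b : P'.Ring →+* T), c.comp π = b.comp (algebraMap B P'.Ring) →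
        ∃ r : P.Ring →+* T, r.comp (algebraMap C P.Ring) = c := by
  obtain ⟨f, hfp, hfm⟩ : ∃ f : B[X], f.map π = P.f ∧ f.Monic := by
    rcases subsingleton_or_nontrivial C with h | h
    · exact ⟨1, Subsingleton.elim _ _, monic_one⟩
    · obtain ⟨f, hfp, -, hfm⟩ := lifts_and_degree_eq_and_monic
        ((lifts_iff_coeff_lifts _).2 fun i => hf i) P.monic_f
      exact ⟨f, hfp, hfm⟩
  obtain ⟨g, hgp⟩ := (mem_lifts _).1 ((lifts_iff_coeff_lifts (f := π) P.g).2 fun i => hg i)
  let P' : StandardEtalePair B := ⟨f, hfm, g * derivative f, ⟨g, 0, 1, by ring⟩⟩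
  letI : Algebra B C := π.toAlgebra
  letI : Algebra B P.Ring := ((algebraMap C P.Ring).comp π).toAlgebra
  haveI : IsScalarTower B C P.Ring := IsScalarTower.of_algebraMap_eq' rfl
  have h1 : P'.HasMap P.X := by
    refine ⟨?_, ?_⟩
    · show aeval P.X f = 0
      rw [← aeval_map_algebraMap C P.X f]
      show aeval P.X (f.map π) = 0
      rw [hfp]
      exact P.hasMap_X.1
    · show IsUnit (aeval P.X (g * derivative f))
      rw [map_mul, ← aeval_map_algebraMap C P.X g, ← aeval_map_algebraMap C P.X (derivative f)]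
      show IsUnit (aeval P.X (g.map π) * aeval P.X ((derivative f).map π))
      rw [← derivative_map, hfp, hgp]
      exact P.hasMap_X.2.mul P.hasMap_X.isUnit_derivative_f
  refine ⟨P', (P'.lift P.X h1).toRingHom, (P'.lift P.X h1).comp_algebraMap, fun T _ c b hcb => ?_⟩
  letI : Algebra C T := c.toAlgebra
  have h2 : P.HasMap (b P'.X) := by
    have e : ∀ h : B[X], aeval (b P'.X) (h.map π) = b (aeval P'.X h) := fun h => by
      rw [aeval_def, eval₂_map, aeval_def, hom_eval₂]
      show eval₂ (c.comp π) _ _ = _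
      rw [hcb]
    refine ⟨?_, ?_⟩
    · rw [← hfp, e, show aeval P'.X f = 0 from P'.hasMap_X.1, map_zero]
    · rw [← hgp, e]
      have := P'.hasMap_X.2
      rw [show P'.g = g * derivative f from rfl, map_mul] at this
      exact (isUnit_of_mul_isUnit_left this).map b
  exact ⟨(P.lift (b P'.X) h2).toRingHom, (P.lift (b P'.X) h2).comp_algebraMap⟩

end EtSmAcycLib
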