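import Mathlib

/-!
# Closed points in inverse systems with closed transition maps
-/

set_option autoImplicit false
set_option linter.all false

universe u v

noncomputable section

namespace EtSmAcycLib

/-- A system of nonempty closed subsets contains a compatible family of closed points. -/
theorem exists_compatible_closed_points {I : Type v} [SemilatticeSup I] (X : I → Type u)
    [∀ i, TopologicalSpace (X i)] [∀ i, CompactSpace (X i)] [∀ i, T0Space (X i)]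
    (f : ∀ {i j : I}, i ≤ j → X j → X i) (hcont : ∀ {i j} (h : i ≤ j), Continuous (f h))
    (hclosed : ∀ {i j} (h : i ≤ j), IsClosedMap (f h))
    (hcomp : ∀ {i j k} (h : i ≤ j) (h' : j ≤ k) (x : X k), f h (f h' x) = f (h.trans h') x)
    (hid : ∀ i (x : X i), f (le_refl i) x = x)
    (C : ∀ i, Set (X i)) (hC : ∀ i, IsClosed (C i)) (hne : ∀ i, (C i).Nonempty)
    (hsub : ∀ {i j} (h : i ≤ j), Set.MapsTo (f h) (C j) (C i)) :
    ∃ z : ∀ i, X i, ∀ i, z i ∈ C i ∧ IsClosed ({z i} : Set (X i)) ∧ ∀ j (h : i ≤ j), f h (z j) = z i := by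
  classical
  let Sys : Type _ := {D : ∀ i, Set (X i) // (∀ i, IsClosed (D i) ∧ (D i).Nonempty ∧ D i ⊆ C i) ∧
    ∀ i j (h : i ≤ j), Set.MapsTo (f h) (D j) (D i)}
  let C₀ : Sys := ⟨C, fun i => ⟨hC i, hne i, subset_rfl⟩, fun _ _ h => hsub h⟩
  haveI : Nonempty Sys := ⟨C₀⟩
  let r : Sys → Sys → Prop := fun D E => ∀ i, E.1 i ⊆ D.1 i
  obtain ⟨M, hM⟩ : ∃ M : Sys, ∀ E, r M E → r E M := by
    refine exists_maximal_of_chains_bounded (r := r) (fun c hc => ?_) fun h h' i => (h' i).trans (h i)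
    rcases c.eq_empty_or_nonempty with rfl | ⟨D₀, hD₀⟩
    · exact ⟨C₀, fun D hD => hD.elim⟩
    refine ⟨⟨fun i => ⋂ D : c, D.1.1 i, ⟨fun i => ⟨isClosed_iInter fun D => (D.1.2.1 i).1, ?_, ?_⟩, ?_⟩⟩,
      fun D hD i => Set.iInter_subset (fun D : c => D.1.1 i) ⟨D, hD⟩⟩
    · haveI : Nonempty c := ⟨⟨D₀, hD₀⟩⟩
      refine IsCompact.nonempty_iInter_of_directed_nonempty_isCompact_isClosed _ (fun D E => ?_)
        (fun D => (D.1.2.1 i).2.1) (fun D => (D.1.2.1 i).1.isCompact) fun D => (D.1.2.1 i).1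
      rcases eq_or_ne D.1 E.1 with h | h
      · exact ⟨D, subset_rfl, by rw [h]⟩
      · rcases hc D.2 E.2 h with h | h
        · exact ⟨E, h i, subset_rfl⟩
        · exact ⟨D, subset_rfl, h i⟩
    · exact (Set.iInter_subset (fun D : c => D.1.1 i) ⟨D₀, hD₀⟩).trans (D₀.2.1 i).2.2
    · intro i j h x hx
      exact Set.mem_iInter.2 fun D => D.1.2.2 i j h (Set.mem_iInter.1 hx D)
  have hsurj : ∀ i j (h : i ≤ j), f h '' M.1 j = M.1 i := by
    let D' : ∀ i, Set (X i) := fun i => ⋂ j : {j // i ≤ j}, f j.2 '' M.1 j.1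
    have hle : ∀ i, D' i ⊆ M.1 i := fun i x hx => by
      obtain ⟨y, hy, rfl⟩ := Set.mem_iInter.1 hx ⟨i, le_refl i⟩
      rw [hid]
      exact hy
    let E : Sys := ⟨D', ⟨fun i => ⟨isClosed_iInter fun j => hclosed j.2 _ (M.2.1 j.1).1, ?_,
      (hle i).trans (M.2.1 i).2.2⟩, fun i j h x hx => ?_⟩⟩
    · intro i j h
      refine subset_antisymm ?_ fun x hx => ?_
      · rintro _ ⟨y, hy, rfl⟩
        exact M.2.2 i j h hy
      · exact Set.mem_iInter.1 (hM E hle i hx) ⟨j, h⟩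
    · haveI : Nonempty {j // i ≤ j} := ⟨⟨i, le_refl i⟩⟩
      refine IsCompact.nonempty_iInter_of_directed_nonempty_isCompact_isClosed _ (fun a b => ?_)
        (fun j => (M.2.1 j.1).2.1.image _) (fun j => (hclosed j.2 _ (M.2.1 j.1).1).isCompact)
        fun j => hclosed j.2 _ (M.2.1 j.1).1
      refine ⟨⟨a.1 ⊔ b.1, a.2.trans le_sup_left⟩, ?_, ?_⟩
      · rintro _ ⟨y, hy, rfl⟩
        exact ⟨f le_sup_left y, M.2.2 _ _ le_sup_left hy, hcomp _ _ _⟩
      · rintro _ ⟨y, hy, rfl⟩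
        exact ⟨f le_sup_right y, M.2.2 _ _ le_sup_right hy, hcomp _ _ _⟩
    · refine Set.mem_iInter.2 fun k => ?_
      obtain ⟨y, hy, hy'⟩ := Set.mem_iInter.1 hx ⟨j ⊔ k.1, le_sup_left⟩
      refine ⟨f le_sup_right y, M.2.2 _ _ le_sup_right hy, ?_⟩
      rw [hcomp, ← hy', hcomp]
  have hsing : ∀ i, ∃ x, M.1 i = {x} := by
    intro i₀
    obtain ⟨x, hx, hxc⟩ := (M.2.1 i₀).1.exists_closed_singleton (M.2.1 i₀).2.1
    let D' : ∀ i, Set (X i) := fun i =>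
      f (le_sup_left : i ≤ i ⊔ i₀) '' (M.1 (i ⊔ i₀) ∩ f (le_sup_right : i₀ ≤ i ⊔ i₀) ⁻¹' {x})
    have hle : ∀ i, D' i ⊆ M.1 i := by
      rintro i _ ⟨y, hy, rfl⟩
      exact M.2.2 _ _ _ hy.1
    let E : Sys := ⟨D', ⟨fun i => ⟨hclosed _ _ ((M.2.1 _).1.inter (hxc.preimage (hcont _))), ?_,
      (hle i).trans (M.2.1 i).2.2⟩, fun i j h z hz => ?_⟩⟩
    · refine ⟨x, subset_antisymm (fun w hw => ?_) (Set.singleton_subset_iff.2 hx)⟩
      obtain ⟨y, hy, rfl⟩ := hM E hle i₀ hw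
      exact hy.2
    · obtain ⟨y, hy, hy'⟩ := (hsurj i₀ (i ⊔ i₀) le_sup_right).ge hx
      exact ⟨_, y, ⟨hy, hy'⟩, rfl⟩
    · obtain ⟨y, hy, rfl⟩ := hz
      refine ⟨f (sup_le_sup_right h i₀) y, ⟨M.2.2 _ _ _ hy.1, ?_⟩, ?_⟩
      · show f _ (f _ y) = x
        rw [hcomp]
        exact hy.2
      · rw [hcomp, hcomp]
  choose z hz using hsing
  refine ⟨z, fun i => ⟨(M.2.1 i).2.2 (by rw [hz i]; rfl), by rw [← hz i]; exact (M.2.1 i).1, fun j h => ?_⟩⟩
  have h1 := M.2.2 i j h (show z j ∈ M.1 j by rw [hz j]; rfl)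
  rw [hz i] at h1
  exact h1

end EtSmAcycLib
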