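import Groth.Agent.GenusZeroLib.PSmooth
import Groth.Agent.GradedCechLib.Chart
import Groth.Agent.QCohLib.ProjSpace

/-!
# Charts of the projective line
-/

set_option autoImplicit false
set_option linter.all false
set_option backward.isDefEq.respectTransparency false
set_option backward.isDefEq.respectTransparency.types false
set_option synthInstance.maxHeartbeats 400000
set_option maxHeartbeats 1000000

universe u

open CategoryTheory CategoryTheory.Limits AlgebraicGeometry
open Groth.Agent

noncomputable section

namespace EtSmAcycLib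

/-- Every point of the projective line lies in a copy of the affine line. -/
theorem exists_chart_line (A : Type u) [CommRing A] (x : CohB1.ProjSpace 1 A) :
    ∃ ι : Spec (CommRingCat.of (Polynomial A)) ⟶ CohB1.ProjSpace 1 A, IsOpenImmersion ι ∧
      ι ≫ CohB1.ProjSpace.toSpec 1 A = Spec.map (CommRingCat.ofHom (algebraMap A (Polynomial A))) ∧
      x ∈ Set.range ι.base := by
  obtain ⟨i, hi⟩ := TopologicalSpace.Opens.mem_iSup.1
    (show x ∈ ⨆ i, QCohLib.stdOpen 1 A i by rw [QCohLib.iSup_stdOpen]; trivial)
  let e := (RingEquiv.ofBijective _ (GenusZeroLib.chartPoly_bijective 1 A i)).symm.trans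
    (MvPolynomial.uniqueAlgEquiv A (Fin 1)).toRingEquiv
  let κ := GradedCechLib.chartι 1 A i
  haveI : IsOpenImmersion κ := inferInstanceAs (IsOpenImmersion (Proj.awayι _ _ _ _))
  haveI : IsIso (Spec.map e.toCommRingCatIso.hom) := inferInstance
  refine ⟨Spec.map e.toCommRingCatIso.hom ≫ κ, inferInstance, ?_, ?_⟩
  · have hκ : κ ≫ CohB1.ProjSpace.toSpec 1 A =
        Spec.map (CommRingCat.ofHom (GradedCechLib.cst 1 A (MvPolynomial.X i))) := by
      simp only [κ, CohB1.ProjSpace.toSpec, GradedCechLib.chartι]
      erw [Proj.awayι_toSpecZero_assoc, ← Spec.map_comp]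
      rfl
    rw [Category.assoc, hκ, ← Spec.map_comp]
    congr 1
    refine CommRingCat.hom_ext (RingHom.ext fun r => ?_)
    show e (GradedCechLib.cst 1 A (MvPolynomial.X i) r) = algebraMap A _ r
    have h1 : (RingEquiv.ofBijective _ (GenusZeroLib.chartPoly_bijective 1 A i)).symm
        (GradedCechLib.cst 1 A (MvPolynomial.X i) r) = MvPolynomial.C r := by
      rw [RingEquiv.symm_apply_eq]
      show _ = GenusZeroLib.chartPoly 1 A i (MvPolynomial.C r)
      simp [GenusZeroLib.chartPoly]
    exact (congrArg (MvPolynomial.uniqueAlgEquiv A (Fin 1)) h1).trans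
      ((MvPolynomial.uniqueAlgEquiv A (Fin 1)).commutes r)
  · obtain ⟨z, rfl⟩ : x ∈ Set.range κ.base := by
      have h : κ.opensRange = QCohLib.stdOpen 1 A i := Proj.opensRange_awayι _ _ _ _
      rw [← h] at hi
      exact hi
    refine ⟨(inv (Spec.map e.toCommRingCatIso.hom)).base z, ?_⟩
    show ((inv (Spec.map e.toCommRingCatIso.hom)) ≫ Spec.map e.toCommRingCatIso.hom ≫ κ).base z = _
    rw [IsIso.inv_hom_id_assoc]

end EtSmAcycLib
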