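import Groth.Agent.SkySumLib.Cohom
import Groth.Agent.EtPBCProperLib.Point

/-!
# Sheaves on closed points with finitely many sections
-/

set_option autoImplicit false
set_option linter.all false
set_option backward.isDefEq.respectTransparency false
set_option backward.isDefEq.respectTransparency.types false
set_option synthInstance.maxHeartbeats 400000
set_option maxHeartbeats 1000000

universe u

open CategoryTheory CategoryTheory.Limits AlgebraicGeometry Opposite
open Groth.Agent.EtShLib SkySumLib

noncomputable section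

namespace EtSmAcycLib

/-- A field-valued point factors through the residue field of its image. -/
theorem exists_fac {X : Scheme.{u}} {Ω : Type u} [Field Ω] (ξ : Spec (CommRingCat.of Ω) ⟶ X) (x : X)
    (h : ξ.base default = x) : ∃ φ, φ ≫ X.fromSpecResidueField x = ξ := by
  subst h
  rw [show (default : Spec (CommRingCat.of Ω)) = IsLocalRing.closedPoint Ω from
    Subsingleton.elim (α := PrimeSpectrum Ω) _ _]
  exact ⟨_, Scheme.descResidueField_stalkClosedPointTo_fromSpecResidueField Ω X ξ⟩

/-- A sheaf on closed points with finitely many global sections has finite support. -/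
theorem finite_support {X : Scheme.{u}} [IsNoetherian X] {F : EtCoh.Ab X} (hF : SuppClosed F)
    (hsep : ∀ x : Pt X, IsSepClosed (X.residueField x.1))
    (hfin : Finite (F.obj.obj (op (EtCoh.top X)))) :
    {x : X | ∃ (Ω : Type u) (_ : Field Ω) (_ : IsSepClosed Ω) (ξ : Spec (CommRingCat.of Ω) ⟶ X),
      ξ.base default = x ∧ ¬ IsZero ((stk (A := AddCommGrpCat.{u + 1}) ξ).obj F)}.Finite := by
  haveI := isIso_toSum hF
  have key : ∀ x : {x : X | ∃ (Ω : Type u) (_ : Field Ω) (_ : IsSepClosed Ω) (ξ : Spec (CommRingCat.of Ω) ⟶ X),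
      ξ.base default = x ∧ ¬ IsZero ((stk (A := AddCommGrpCat.{u + 1}) ξ).obj F)},
      ∃ (hx : IsClosed ({x.1} : Set X)) (t : ToType ((K F ⟨x.1, hx⟩).obj.obj (op (EtCoh.top X)))), t ≠ 0 := by
    rintro ⟨_, Ω, _, _, ξ, rfl, hne⟩
    have hx : IsClosed ({ξ.base default} : Set X) := by
      by_contra hc
      exact hne (hF Ω ξ hc)
    refine ⟨hx, ?_⟩
    let x : Pt X := ⟨ξ.base default, hx⟩
    haveI := hsep x
    obtain ⟨φ, hφ⟩ : ∃ φ : Spec (CommRingCat.of Ω) ⟶ Spec (X.residueField x.1), φ ≫ ix x = ξ :=
      exists_fac ξ x.1 rfl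
    by_contra hcon
    push Not at hcon
    apply hne
    rw [← hφ]
    let G := (EtCoh.pull (ix x)).obj F
    refine IsZero.of_iso (Y := (stk (A := AddCommGrpCat.{u + 1}) φ).obj G) ?_
      ((stalkPull (ix x) φ AddCommGrpCat.{u + 1}).app F)
    haveI : Subsingleton (G.obj.obj (op (EtCoh.top (Spec (X.residueField x.1))))) :=
      subsingleton_of_forall_eq 0 fun s => by
        have h0 : G.obj.map (EtCore.bcTopIso (ix x)).hom.op s = 0 := hcon _
        have hb := ConcreteCategory.bijective_of_isIso (G.obj.map (EtCore.bcTopIso (ix x)).hom.op)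
        exact hb.1 (h0.trans (map_zero _).symm)
    haveI : Subsingleton ((stk (A := AddCommGrpCat.{u + 1}) φ).obj G) :=
      (EtPBCProperLib.bijective_germ_point (X.residueField x.1) G φ).2.subsingleton
    exact AddCommGrpCat.isZero_of_subsingleton _
  choose hx t ht using key
  let s := fun x => (inv (toSum hF)).hom.app (op (EtCoh.top X))
    ((Sigma.ι (fun x : Pt X => K F x) ⟨x.1, hx x⟩).hom.app (op (EtCoh.top X)) (t x))
  refine Set.finite_coe_iff.1 (Finite.of_injective s fun a b hab => by_contra fun hne => ht a ?_)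
  have e : ∀ x, (toSum hF).hom.app (op (EtCoh.top X)) (s x) =
      (Sigma.ι (fun x : Pt X => K F x) ⟨x.1, hx x⟩).hom.app (op (EtCoh.top X)) (t x) := fun x => by
    show ((inv (toSum hF)) ≫ toSum hF).hom.app (op (EtCoh.top X)) _ = _
    rw [IsIso.inv_hom_id]
    rfl
  have h2 := (e a).symm.trans ((congrArg _ hab).trans (e b))
  have h3 := congrArg (fun z => (Pi.π (fun x : Pt X => K F x) ⟨a.1, hx a⟩).hom.app (op (EtCoh.top X))
    ((κ F).hom.app (op (EtCoh.top X)) z)) h2
  simp only [π_κ_self] at h3
  rw [h3]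
  refine π_κ_ne (fun h => hne ?_) (t b)
  exact Subtype.ext (congrArg Subtype.val h).symm

end EtSmAcycLib
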