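import Groth.Agent.EtSmAcycLib.Gauss
import Groth.Agent.EtSmAcycLib.Edge
import Groth.Agent.EtSmAcycLib.Const
import Groth.Agent.EtSmAcycLib.Chart
import Groth.Agent.EtSmAcycLib.Supp
import Groth.Agent.EtSmAcycLib.ProjLine
import Groth.Agent.StratLib.Light
import Groth.Agent.EtProperH0Lib.FlatRedFibres
import Groth.Agent.EtPBCProperLib.Proper
import Groth.Agent.S0185

/-!
# The valuation ring case: closed points of the special fibre of the affine line
-/

set_option autoImplicit false
set_option linter.all false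
set_option backward.isDefEq.respectTransparency false
set_option backward.isDefEq.respectTransparency.types false
set_option synthInstance.maxHeartbeats 400000
set_option maxHeartbeats 2000000

universe u

open CategoryTheory CategoryTheory.Limits CategoryTheory.Abelian AlgebraicGeometry Opposite
open Groth.Agent Groth.Agent.EtShLib EtRpushStalkLib EtContLib
open scoped TensorProduct

attribute [local instance] EtSliceLib.pullExact

noncomputable section

namespace EtSmAcycLib

theorem smooth_line (A : Type u) [CommRing A] : Smooth (CohB1.ProjSpace.toSpec 1 A) := by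
  choose ι hι hιπ hx using exists_chart_line A
  haveI : Smooth (Spec.map (CommRingCat.ofHom (algebraMap A (Polynomial A)))) := by
    rw [HasRingHomProperty.Spec_iff (P := @Smooth)]
    haveI h : Algebra.Smooth A (Polynomial A) := ⟨inferInstance, inferInstance⟩
    show (algebraMap A (Polynomial A)).Smooth
    exact RingHom.smooth_algebraMap.2 h
  refine IsZariskiLocalAtSource.of_iSup_eq_top (P := @Smooth) (fun x => (ι x).opensRange)
    (top_le_iff.1 fun x _ => TopologicalSpace.Opens.mem_iSup.2 ⟨x, hx x⟩) fun x => ?_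
  rw [← Scheme.Hom.isoOpensRange_inv_comp (ι x), Category.assoc, hιπ x]
  infer_instance

/-- Translation of the affine line. -/
abbrev shift {A : Type u} [CommRing A] (c : A) : Polynomial A →+* Polynomial A :=
  (Polynomial.algEquivAevalXAddC c).toRingEquiv.toRingHom

theorem shift_sub {A : Type u} [CommRing A] (b c : A) :
    shift c (Polynomial.X - Polynomial.C (b + c)) = Polynomial.X - Polynomial.C b := by
  show Polynomial.aeval (Polynomial.X + Polynomial.C c) (Polynomial.X - Polynomial.C (b + c)) = _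
  simp only [map_sub, Polynomial.aeval_X, Polynomial.aeval_C, Polynomial.algebraMap_eq, map_add]
  ring

variable (V : Type u) [CommRing V] [IsDomain V] [ValuationRing V] (K : Type u) [Field K] [Algebra V K]
  [IsFractionRing V K] [IsAlgClosed K]

/-- The projective line. -/
abbrev pr : CohB1.ProjSpace 1 V ⟶ Spec (CommRingCat.of V) := CohB1.ProjSpace.toSpec 1 V

/-- The generic fibre. -/
abbrev jK : pullback (genPt V K) (pr V) ⟶ CohB1.ProjSpace 1 V := pullback.snd (genPt V K) (pr V)

/-- The sheaf measuring local first cohomology. -/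
abbrev QK (ℓ : ℕ) : EtCoh.Ab (CohB1.ProjSpace 1 V) :=
  Qs (jK V K) (EtCoh.const (pullback (genPt V K) (pr V)) (ZMod ℓ))

/-- The stalk criterion. -/
theorem isZero_stk_QK_iff (ℓ : ℕ) (W : Type u) [CommRing W] [HenselianLocalRing W]
    [IsSepClosed (IsLocalRing.ResidueField W)] [Algebra V W]
    (gS : Spec (CommRingCat.of W) ⟶ CohB1.ProjSpace 1 V) [WeaklyEtale gS]
    (hg : gS ≫ pr V = Spec.map (CommRingCat.ofHom (algebraMap V W))) :
    IsZero ((stk (A := AddCommGrpCat.{u + 1}) (closedPt W ≫ gS)).obj (QK V K ℓ)) ↔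
      Subsingleton (EtCoh.H (Spec (CommRingCat.of (W ⊗[V] K)))
        (EtCoh.const (Spec (CommRingCat.of (W ⊗[V] K))) (ZMod ℓ)) 1) := by
  let η := genPt V K
  haveI : QuasiCompact (jK V K) := MorphismProperty.pullback_snd (P := @QuasiCompact) _ _ inferInstance
  haveI : QuasiSeparated (jK V K) := MorphismProperty.pullback_snd (P := @QuasiSeparated) _ _ inferInstance
  let inR : Spec (CommRingCat.of (W ⊗[V] K)) ⟶ Spec (CommRingCat.of K) :=
    Spec.map (CommRingCat.ofHom Algebra.TensorProduct.includeRight.toRingHom)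
  let inL : Spec (CommRingCat.of (W ⊗[V] K)) ⟶ Spec (CommRingCat.of W) :=
    Spec.map (CommRingCat.ofHom Algebra.TensorProduct.includeLeftRingHom)
  have big : IsPullback inR inL η (gS ≫ pr V) := by
    rw [hg]
    exact (isPullback_SpecMap_of_isPushout _ _ _ _ (CommRingCat.isPushout_tensorProduct V W K)).flip
  let g' : Spec (CommRingCat.of (W ⊗[V] K)) ⟶ pullback η (pr V) :=
    pullback.lift inR (inL ≫ gS) (by rw [big.w, Category.assoc])
  have sq : IsPullback g' inL (jK V K) gS := by
    refine IsPullback.of_right ?_ (pullback.lift_snd _ _ _) (IsPullback.of_hasPullback η (pr V))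
    rw [pullback.lift_fst]
    exact big
  obtain ⟨C⟩ := exists_chart_wet gS
  rw [isZero_stalk_Qs_iff (jK V K) _ sq C]
  have hb := EtAcycLib.bijective_mk₀_iso_postcomp
    (Z := EtCoh.const (Spec (CommRingCat.of (W ⊗[V] K))) ℤ) (EtCore.pullConst g' (ZMod ℓ)) 1
  exact ⟨fun h => @Function.Surjective.subsingleton _ _ _ h hb.2,
    fun h => @Function.Injective.subsingleton _ _ _ hb.1 h⟩

variable (ℓ : ℕ) (hℓp : ℓ.Prime)

include hℓp in
theorem nsmul_id_QK : ℓ • 𝟙 (QK V K ℓ) = 0 := by
  let Z := pullback (genPt V K) (pr V)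
  let F : EtCoh.Ab Z := EtCoh.const Z (ZMod ℓ)
  let ι := Injective.ι F
  let π := cokernel.π ι
  have h0 : ι ≫ (ℓ • 𝟙 (Injective.under F)) = 0 := by
    rw [Preadditive.comp_nsmul, Category.comp_id]
    have h := EtStrictAcycLib.nsmul_id_const (T := Z) ℓ
    calc ℓ • ι = ℓ • (𝟙 F ≫ ι) := by rw [Category.id_comp]
      _ = (ℓ • 𝟙 F) ≫ ι := (Preadditive.nsmul_comp _ _ _).symm
      _ = 0 := by rw [show ℓ • 𝟙 F = 0 from h, zero_comp]
  let φ := cokernel.desc ι _ h0
  have hφ : π ≫ φ = ℓ • 𝟙 (Injective.under F) := cokernel.π_desc _ _ _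
  have hC : φ ≫ π = ℓ • 𝟙 (cokernel ι) := by
    rw [← cancel_epi π, ← Category.assoc, hφ, Preadditive.nsmul_comp, Category.id_comp, Preadditive.comp_nsmul,
      Category.comp_id]
  haveI : PreservesLimitsOfSize.{0, 0} (EtCoh.push (jK V K)) :=
    (EtCoh.pullPushAdj (jK V K)).rightAdjoint_preservesLimits
  haveI : PreservesFiniteLimits (EtCoh.push (jK V K)) := PreservesLimitsOfSize.preservesFiniteLimits _
  haveI : (EtCoh.push (jK V K)).Additive := { }
  have hq : qs (jK V K) F ≫ (ℓ • 𝟙 (QK V K ℓ)) = 0 := by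
    rw [Preadditive.comp_nsmul, Category.comp_id]
    calc ℓ • qs (jK V K) F = (ℓ • 𝟙 ((EtCoh.push (jK V K)).obj (cokernel ι))) ≫ qs (jK V K) F := by
          rw [Preadditive.nsmul_comp, Category.id_comp]
      _ = (EtCoh.push (jK V K)).map (φ ≫ π) ≫ qs (jK V K) F := by
          rw [hC, Functor.map_nsmul, CategoryTheory.Functor.map_id]
      _ = 0 := by
          rw [Functor.map_comp, Category.assoc]
          show _ ≫ (EtCoh.push (jK V K)).map π ≫ cokernel.π _ = 0
          rw [cokernel.condition, comp_zero]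
  haveI : Epi (qs (jK V K) F) := inferInstanceAs (Epi (cokernel.π _))
  rw [← cancel_epi (qs (jK V K) F), hq, comp_zero]

/-- The special fibre. -/
abbrev i₀ : pullback (pr V) (EtPBCProperLib.cp V) ⟶ CohB1.ProjSpace 1 V := pullback.fst _ _

include hℓp in
theorem finite_top_QK : Finite (((EtCoh.pull (i₀ V)).obj (QK V K ℓ)).obj.obj (op (EtCoh.top _))) := by
  haveI : NeZero ℓ := ⟨hℓp.pos.ne'⟩
  haveI := isAlgClosed_residueField V K
  haveI := henselianLocalRing_of_isAlgClosed V K
  haveI : IsProper (pr V) := StratLib.isProper_toSpec 1 V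
  haveI := smooth_line V
  let η := genPt V K
  let Z := pullback η (pr V)
  let F : EtCoh.Ab Z := EtCoh.const Z (ZMod ℓ)
  let j := jK V K
  let k := V ⧸ IsLocalRing.maximalIdeal V
  letI : Field k := Ideal.Quotient.field _
  haveI : IsSepClosed k := inferInstanceAs (IsSepClosed (IsLocalRing.ResidueField V))
  haveI : IsProper (pullback.fst η (pr V)) := MorphismProperty.pullback_fst η (pr V) ‹IsProper (pr V)›
  haveI : IsProper (pullback.snd (pr V) (EtPBCProperLib.cp V)) :=
    MorphismProperty.pullback_snd _ _ ‹IsProper (pr V)›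
  haveI : CompactSpace ↥Z := QuasiCompact.compactSpace_of_compactSpace (pullback.fst η (pr V))
  haveI : QuasiSeparatedSpace ↥Z := quasiSeparatedSpace_of_quasiSeparated (pullback.fst η (pr V))
  let Pk := pullback (pr V) (EtPBCProperLib.cp V)
  haveI : CompactSpace ↥Pk := QuasiCompact.compactSpace_of_compactSpace (pullback.snd (pr V) (EtPBCProperLib.cp V))
  haveI : QuasiSeparatedSpace ↥Pk :=
    quasiSeparatedSpace_of_quasiSeparated (pullback.snd (pr V) (EtPBCProperLib.cp V))
  have hk : ∀ X : Scheme.{u}, EtCoh.KilledBy ℓ (EtCoh.const X (ZMod ℓ)) := fun X =>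
    (ConsFiniteLib.killedBy_iff ℓ _).2 (EtStrictAcycLib.nsmul_id_const ℓ)
  have h₁ : Finite (EtCoh.H Z F 1) := Groth.Agent.S0185.result Z (pullback.fst η (pr V)) ℓ hℓp.pos F
    ((EtProperConsLib.cons_iff _).1 (EtProperConsLib.cons_const (ZMod ℓ))) (hk Z) 1
  have h₂ : Finite (EtCoh.H (CohB1.ProjSpace 1 V) ((EtCoh.push j).obj F) 2) := by
    obtain ⟨i₀'⟩ := nonempty_push_fibre_const V K (pr V) j (pullback.fst η (pr V))
      (IsPullback.of_hasPullback η (pr V)) ℓ hℓp
    haveI : Finite (EtCoh.H Pk (EtCoh.const Pk (ZMod ℓ)) 2) := Groth.Agent.S0185.result Pk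
      (pullback.snd (pr V) (EtPBCProperLib.cp V)) ℓ hℓp.pos _
      ((EtProperConsLib.cons_iff _).1 (EtProperConsLib.cons_const (ZMod ℓ))) (hk Pk) 2
    haveI : Finite (EtCoh.H Pk ((EtCoh.pull (i₀ V)).obj (EtCoh.const _ (ZMod ℓ))) 2) :=
      Finite.of_injective _ (EtAcycLib.bijective_mk₀_iso_postcomp (Z := EtCoh.const Pk ℤ)
        (EtCore.pullConst (i₀ V) (ZMod ℓ)) 2).1
    haveI : Finite (EtCoh.H (CohB1.ProjSpace 1 V) (EtCoh.const _ (ZMod ℓ)) 2) :=
      Finite.of_injective _ (EtPBCProperLib.bijective_strict V (pr V) (EtCoh.const _ (ZMod ℓ))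
        (EtPBCProperLib.isTorsion_of_nsmul hℓp.pos (EtStrictAcycLib.nsmul_id_const ℓ)) 2).1
    exact Finite.of_injective _ (EtAcycLib.bijective_mk₀_iso_postcomp
      (Z := EtCoh.const (CohB1.ProjSpace 1 V) ℤ) i₀' 2).1
  haveI := finite_H_Qs j F h₁ h₂
  haveI : Finite (EtCoh.H Pk ((EtCoh.pull (i₀ V)).obj (QK V K ℓ)) 0) :=
    Finite.of_surjective _ (EtPBCProperLib.bijective_strict V (pr V) (QK V K ℓ)
      (EtPBCProperLib.isTorsion_of_nsmul hℓp.pos (nsmul_id_QK V K ℓ hℓp)) 0).2
  exact Finite.of_surjective _ (sec_surjective (G := (EtCoh.pull (i₀ V)).obj (QK V K ℓ)))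

end EtSmAcycLib
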