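import Groth.Agent.EtSmAcycLib.Main
import Groth.Agent.SHSubLib.HensBasic
import Groth.Agent.StrictHensBCLib.Integral
import Groth.Agent.S0508
import Groth.Agent.S0509
import Groth.Agent.S0538
import Groth.Agent.S12236

/-!
# Geometric fibres of the henselised affine line
-/

set_option autoImplicit false
set_option linter.all false
set_option backward.isDefEq.respectTransparency false
set_option backward.isDefEq.respectTransparency.types false
set_option synthInstance.maxHeartbeats 400000
set_option maxHeartbeats 4000000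

universe u

open CategoryTheory CategoryTheory.Limits AlgebraicGeometry Opposite
open Groth.Agent Groth.Agent.EtShLib EtRpushStalkLib
open scoped TensorProduct

attribute [local instance] EtSliceLib.pullExact

noncomputable section

namespace EtSmAcycLib

/-- A weakly étale morphism from a strictly henselian local scheme gives a strict henselisation of the local ring. -/
theorem isStrictHenselization_stalkClosedPointTo {X : Scheme.{u}} {R : Type u} [CommRing R] [HenselianLocalRing R]
    [IsSepClosed (IsLocalRing.ResidueField R)] (g : Spec (CommRingCat.of R) ⟶ X) [WeaklyEtale g] :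
    letI := (Scheme.stalkClosedPointTo g).hom.toAlgebra
    ∃ _ : IsLocalHom (algebraMap (X.presheaf.stalk (g.base (IsLocalRing.closedPoint R))) R),
      Hensel.IsStrictHenselization (X.presheaf.stalk (g.base (IsLocalRing.closedPoint R))) R := by
  let x := g.base (IsLocalRing.closedPoint R)
  letI : Algebra (X.presheaf.stalk x) R := (Scheme.stalkClosedPointTo g).hom.toAlgebra
  haveI : IsLocalHom (algebraMap (X.presheaf.stalk x) R) :=
    inferInstanceAs (IsLocalHom (Scheme.stalkClosedPointTo g).hom)
  haveI := EtAcycFibLib.weaklyEtale_fromSpecStalk x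
  haveI : WeaklyEtale (Spec.map (CommRingCat.ofHom (algebraMap (X.presheaf.stalk x) R)) ≫ X.fromSpecStalk x) := by
    show WeaklyEtale (Hens2.specOf X x R)
    rw [show Hens2.specOf X x R = g from Scheme.Spec_stalkClosedPointTo_fromSpecStalk g]
    infer_instance
  haveI : Algebra.WeaklyEtale (X.presheaf.stalk x) R :=
    EtAcycFibLib.weaklyEtale_ring (WeaklyEtale.of_comp _ (X.fromSpecStalk x))
  haveI := QfHensFiniteLib.isStrictHenselization_self R
  exact ⟨inferInstance, Groth.Agent.WEtSHLib.isStrictHenselization_of_weaklyEtale (X.presheaf.stalk x) R R⟩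

/-- The geometric fibres of a strict localisation of the line are connected. -/
theorem connectedSpace_gFib (A : Type u) [CommRing A] [HenselianLocalRing A] [IsSepClosed (IsLocalRing.ResidueField A)]
    (Ω : Type u) [Field Ω] [Algebra A Ω] (RX : Type u) [CommRing RX] [HenselianLocalRing RX]
    [IsSepClosed (IsLocalRing.ResidueField RX)] [Algebra A RX] [Algebra (Polynomial A) RX]
    [IsScalarTower A (Polynomial A) RX] [Algebra.WeaklyEtale (Polynomial A) RX] [IsLocalHom (algebraMap A RX)] :
    ConnectedSpace ↥(gFib A RX Ω) := by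
  haveI : Smooth (lineMap A) := by
    rw [HasRingHomProperty.Spec_iff (P := @Smooth)]
    show (algebraMap A (Polynomial A)).Smooth
    exact RingHom.smooth_algebraMap.2 ⟨inferInstance, inferInstance⟩
  haveI : GeometricallyReduced (lineMap A) := AbSchLib.geometricallyReduced_of_smooth (lineMap A)
  have hg : EtAcyc.OnStrictLocalizations (lineMap A) (fun X' Y' h => ∀ (K : Type u) [Field K]
      (η : Spec (CommRingCat.of K) ⟶ Y'), ConnectedSpace ↥(pullback h η)) := by
    intro x RY RX' _ _ _ _ _ _ _ _ _ _ _ _ hc K _ η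
    exact EtProperH0Lib.connected_sh_fibre (lineMap A) (Or.inr inferInstance) x RY RX' (algebraMap RY RX') hc K η
  let r := Spec.map (CommRingCat.ofHom (algebraMap (Polynomial A) RX))
  haveI : WeaklyEtale r := EtProperH0Lib.weaklyEtale_spec (Polynomial A) RX
  let i := 𝟙 (Spec (CommRingCat.of A))
  let x := r.base (IsLocalRing.closedPoint RX)
  let y := i.base (IsLocalRing.closedPoint A)
  letI := (Scheme.stalkClosedPointTo r).hom.toAlgebra
  letI := (Scheme.stalkClosedPointTo i).hom.toAlgebra
  obtain ⟨hl₁, hX⟩ := isStrictHenselization_stalkClosedPointTo r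
  obtain ⟨hl₂, hY⟩ := isStrictHenselization_stalkClosedPointTo i
  haveI := hl₁
  haveI := hl₂
  haveI := hX
  haveI := hY
  have hrf : rBase A RX = r ≫ lineMap A := by
    show Spec.map _ = Spec.map _ ≫ Spec.map _
    rw [← Spec.map_comp, ← CommRingCat.ofHom_comp]
    exact congrArg (fun t => Spec.map (CommRingCat.ofHom t)) (IsScalarTower.algebraMap_eq A (Polynomial A) RX)
  have e : (lineMap A).base x = y := by
    show (r ≫ lineMap A).base (IsLocalRing.closedPoint RX) = IsLocalRing.closedPoint A
    rw [← hrf]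
    exact IsLocalRing.comap_closedPoint (algebraMap A RX)
  have hh := EtAcycFibLib.onStrictLocalizations_apply (lineMap A) _ hg x y e A RX (by
    rw [show Hens2.specOf (Spec (CommRingCat.of A)) y A = i from Scheme.Spec_stalkClosedPointTo_fromSpecStalk i,
      show Hens2.specOf (Spec (CommRingCat.of (Polynomial A))) x RX = r from
        Scheme.Spec_stalkClosedPointTo_fromSpecStalk r]
    exact (Category.comp_id _).trans hrf)
  haveI := hh Ω (Spec.map (CommRingCat.ofHom (algebraMap A Ω)))
  exact (isPullback_gFib A RX Ω).flip.isoPullback.hom.homeomorph.connectedSpace_iff.mpr inferInstance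

theorem exists_lift_sepClosed {A : Type u} [CommRing A] [IsLocalRing A] (A' : Type u) [CommRing A'] [IsLocalRing A']
    [Algebra A A'] [IsLocalHom (algebraMap A A')] [Hensel.IsStrictHenselization A A'] (Ω : Type u) [Field Ω]
    [IsSepClosed Ω] (φ : A →+* Ω) : ∃ φ' : A' →+* Ω, φ'.comp (algebraMap A A') = φ := by
  letI : Algebra A Ω := φ.toAlgebra
  haveI : Algebra.WeaklyEtale A A' := Groth.Agent.S0736.result _ _ (Groth.Agent.S12237.result A A')
  haveI : Module.FaithfullyFlat A A' := Groth.Agent.S0539.result A A'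
  haveI : Nontrivial (Ω ⊗[A] A') := inferInstance
  haveI : Algebra.WeaklyEtale Ω (Ω ⊗[A] A') := inferInstance
  obtain ⟨M, hM⟩ := Ideal.exists_maximal (Ω ⊗[A] A')
  let L := Localization.AtPrime M
  haveI : Algebra.WeaklyEtale Ω L := by
    haveI : Algebra.WeaklyEtale (Ω ⊗[A] A') L := EtAcycFibLib.weaklyEtale_ring (by
      haveI : WeaklyEtale (Spec.map (CommRingCat.ofHom (algebraMap (Ω ⊗[A] A') L))) := by
        haveI := EtRpushStalkLib.weaklyEtale_localization M.primeCompl L
        first | infer_instance | exact EtProperH0Lib.weaklyEtale_spec (Ω ⊗[A] A') L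
      infer_instance)
    exact Algebra.WeaklyEtale.trans Ω (Ω ⊗[A] A') L
  haveI : IsSepClosed (IsLocalRing.ResidueField Ω) := EtStrictAcycLib.isSepClosed_residue Ω
  haveI : IsLocalHom (algebraMap Ω L) := ⟨fun a ha => by
    rcases eq_or_ne a 0 with rfl | h
    · exact absurd ha (by simp)
    · exact h.isUnit⟩
  let e := RingEquiv.ofBijective (algebraMap Ω L) (Groth.Agent.WEtNormalLib.bijective_of_strictlyHenselian Ω L)
  refine ⟨(e.symm.toRingHom.comp (algebraMap (Ω ⊗[A] A') L)).comp
    (Algebra.TensorProduct.includeRight : A' →ₐ[A] Ω ⊗[A] A').toRingHom, RingHom.ext fun a => ?_⟩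
  show e.symm (algebraMap (Ω ⊗[A] A') L ((1 : Ω) ⊗ₜ algebraMap A A' a)) = φ a
  rw [RingEquiv.symm_apply_eq, ← Algebra.TensorProduct.tmul_one_eq_one_tmul]
  exact (IsScalarTower.algebraMap_apply Ω (Ω ⊗[A] A') L (φ a)).symm

theorem isSepClosed_of_equiv {k K : Type u} [Field k] [Field K] [IsSepClosed k] (e : k ≃+* K) : IsSepClosed K := by
  letI : Algebra k K := (e : k →+* K).toAlgebra
  haveI : Algebra.IsAlgebraic k K := ⟨fun x => by
    obtain ⟨a, rfl⟩ := e.surjective x
    exact isAlgebraic_algebraMap a⟩
  exact Algebra.IsAlgebraic.isSepClosed (F := k)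

/-- Base change of a henselian algebra with trivial residue extension to the strict henselisation. -/
theorem baseChange_strict (A : Type u) [CommRing A] [HenselianLocalRing A] (A' : Type u) [CommRing A'] [IsLocalRing A']
    [Algebra A A'] [IsLocalHom (algebraMap A A')] [hA' : Hensel.IsStrictHenselization A A']
    (B : Type u) [CommRing B] [HenselianLocalRing B] [Algebra A B] [IsLocalHom (algebraMap A B)]
    (hres : Function.Surjective (IsLocalRing.ResidueField.map (algebraMap A B))) :
    ∃ _ : IsLocalRing (B ⊗[A] A'),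
      letI : Algebra A' (B ⊗[A] A') := Algebra.TensorProduct.rightAlgebra
      HenselianLocalRing (B ⊗[A] A') ∧ IsSepClosed (IsLocalRing.ResidueField (B ⊗[A] A')) ∧
        IsLocalHom (algebraMap A' (B ⊗[A] A')) := by
  haveI := hA'.henselian
  haveI := hA'.isSepClosure.sep_closed
  haveI : Algebra.IsIntegral A A' := SHSubLib.isIntegral_strict
  haveI : Algebra.IsIntegral B (B ⊗[A] A') := inferInstance
  haveI : Module.FaithfullyFlat A A' := Groth.Agent.S0539.result A A'
  let mB := (IsLocalRing.maximalIdeal B).map (algebraMap B (B ⊗[A] A'))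
  haveI : Module.FaithfullyFlat B (B ⊗[A] A') := inferInstance
  have hne : mB ≠ ⊤ := fun h => (IsLocalRing.maximalIdeal.isMaximal B).ne_top (by
    rw [← Ideal.comap_map_eq_self_of_faithfullyFlat (B := B ⊗[A] A') (IsLocalRing.maximalIdeal B), show (IsLocalRing.maximalIdeal B).map (algebraMap B (B ⊗[A] A')) = ⊤ from h, Ideal.comap_top])
  let π : A' →+* (B ⊗[A] A') ⧸ mB := (Ideal.Quotient.mk mB).comp
    (Algebra.TensorProduct.includeRight : A' →ₐ[A] B ⊗[A] A').toRingHom
  have hπ : Function.Surjective π := fun z => by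
    obtain ⟨t, rfl⟩ := Ideal.Quotient.mk_surjective z
    induction t using TensorProduct.induction_on with
    | zero => exact ⟨0, map_zero π⟩
    | add x y hx hy =>
      obtain ⟨a, ha⟩ := hx
      obtain ⟨b, hb⟩ := hy
      exact ⟨a + b, by rw [map_add, ha, hb, map_add]⟩
    | tmul b a' =>
      obtain ⟨r, hr⟩ := hres (IsLocalRing.residue B b)
      obtain ⟨a, rfl⟩ := IsLocalRing.residue_surjective r
      rw [IsLocalRing.ResidueField.map_residue] at hr
      refine ⟨algebraMap A A' a * a', ?_⟩
      show Ideal.Quotient.mk mB ((1 : B) ⊗ₜ (algebraMap A A' a * a')) = _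
      rw [Ideal.Quotient.eq]
      have h1 : algebraMap A B a - b ∈ IsLocalRing.maximalIdeal B := by
        rw [← IsLocalRing.residue_eq_zero_iff, map_sub, hr, sub_self]
      have h2 : (1 : B) ⊗ₜ[A] (algebraMap A A' a * a') - b ⊗ₜ[A] a' =
          algebraMap B (B ⊗[A] A') (algebraMap A B a - b) * ((1 : B) ⊗ₜ[A] a') := by
        rw [Algebra.TensorProduct.algebraMap_apply, Algebra.TensorProduct.tmul_mul_tmul, mul_one, one_mul,
          Algebra.algebraMap_self_apply, TensorProduct.sub_tmul]
        congr 1
        rw [← Algebra.smul_def, ← TensorProduct.smul_tmul, Algebra.algebraMap_eq_smul_one]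
      rw [h2]
      exact Ideal.mul_mem_right _ _ (Ideal.mem_map_of_mem _ h1)
  have hker : IsLocalRing.maximalIdeal A' ≤ RingHom.ker π := by
    rw [← Groth.Agent.S0538.result A A', Ideal.map_le_iff_le_comap]
    intro a ha
    show π (algebraMap A A' a) = 0
    show Ideal.Quotient.mk mB ((1 : B) ⊗ₜ algebraMap A A' a) = 0
    rw [← Algebra.TensorProduct.tmul_one_eq_one_tmul, Ideal.Quotient.eq_zero_iff_mem]
    exact Ideal.mem_map_of_mem (algebraMap B (B ⊗[A] A')) (map_nonunit (algebraMap A B) a ha)
  haveI : Nontrivial ((B ⊗[A] A') ⧸ mB) := Ideal.Quotient.nontrivial_iff.2 hne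
  have hker' : RingHom.ker π = IsLocalRing.maximalIdeal A' :=
    ((IsLocalRing.maximalIdeal.isMaximal A').eq_of_le (RingHom.ker_ne_top π) hker).symm
  let e : IsLocalRing.ResidueField A' ≃+* (B ⊗[A] A') ⧸ mB :=
    (Ideal.quotEquivOfEq hker'.symm).trans (RingHom.quotientKerEquivOfSurjective hπ)
  haveI hmax : mB.IsMaximal := Ideal.Quotient.maximal_of_isField _ (e.symm.toMulEquiv.isField (Field.toIsField _))
  haveI : IsLocalRing (B ⊗[A] A') := IsLocalRing.of_unique_max_ideal ⟨mB, hmax, fun M hM => by
    haveI := hM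
    have hc := IsLocalRing.eq_maximalIdeal (Ideal.isMaximal_comap_of_isIntegral_of_isMaximal (R := B) M)
    exact (hmax.eq_of_le hM.ne_top (Ideal.map_le_iff_le_comap.2 hc.ge)).symm⟩
  refine ⟨inferInstance, (StrictHensBCLib.henselianLocalRing_of_integral (A := B) (B ⊗[A] A')).1, ?_, ⟨fun a ha => ?_⟩⟩
  · exact isSepClosed_of_equiv (e.trans (Ideal.quotEquivOfEq (IsLocalRing.eq_maximalIdeal hmax)))
  · by_contra h
    have h1 : π a = 0 := by
      show a ∈ RingHom.ker π
      rw [hker']
      exact h
    exact hmax.ne_top (Ideal.eq_top_of_isUnit_mem _ (Ideal.Quotient.eq_zero_iff_mem.1 h1) ha)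

end EtSmAcycLib
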