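import Groth.Agent.EtSmAcycLib.Line
import Groth.Agent.S0537

/-!
# The valuation ring case
-/

set_option autoImplicit false
set_option linter.all false
set_option backward.isDefEq.respectTransparency false
set_option backward.isDefEq.respectTransparency.types false
set_option synthInstance.maxHeartbeats 400000
set_option maxHeartbeats 2000000

universe u

open CategoryTheory CategoryTheory.Limits CategoryTheory.Abelian AlgebraicGeometry Opposite
open Groth.Agent Groth.Agent.EtShLib EtRpushStalkLib EtContLib
open scoped TensorProduct Polynomial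

attribute [local instance] EtSliceLib.pullExact

noncomputable section

namespace EtSmAcycLib

variable (V : Type u) [CommRing V] [IsDomain V] [ValuationRing V] (K : Type u) [Field K] [Algebra V K]
  [IsFractionRing V K] [IsAlgClosed K]

/-- A weakly étale local algebra over the affine line as a morphism to the projective line. -/
theorem weaklyEtale_toLine {A : Type u} [CommRing A] {W : Type u} [CommRing W] [Algebra A[X] W]
    [Algebra.WeaklyEtale A[X] W] (ι : Spec (CommRingCat.of A[X]) ⟶ CohB1.ProjSpace 1 A) [IsOpenImmersion ι] :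
    WeaklyEtale (Spec.map (CommRingCat.ofHom (algebraMap A[X] W)) ≫ ι) := by
  haveI := EtProperH0Lib.weaklyEtale_spec A[X] W
  haveI : AlgebraicGeometry.Etale ι := inferInstance
  haveI : WeaklyEtale ι := inferInstance
  infer_instance

variable (ℓ : ℕ) (hℓp : ℓ.Prime) (hℓ : IsUnit (ℓ : V))

include hℓp hℓ in
/-- The sheaf lives on closed points of the special fibre. -/
theorem suppClosed_QK : SkySumLib.SuppClosed ((EtCoh.pull (i₀ V)).obj (QK V K ℓ)) := by
  intro Ω _ _ ξ hnc
  refine IsZero.of_iso ?_ ((stalkPull (i₀ V) ξ AddCommGrpCat.{u + 1}).app (QK V K ℓ)).symm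
  haveI : IsProper (pr V) := StratLib.isProper_toSpec 1 V
  let k := V ⧸ IsLocalRing.maximalIdeal V
  letI : Field k := Ideal.Quotient.field _
  haveI : IsProper (pullback.snd (pr V) (EtPBCProperLib.cp V)) :=
    MorphismProperty.pullback_snd _ _ ‹IsProper (pr V)›
  let x' := ξ.base default
  obtain ⟨ι, hι, hιπ, z, hz⟩ := exists_chart_line V ((i₀ V).base x')
  have hover : ∀ v : V, ¬ IsUnit v → Polynomial.C v ∈ z.asIdeal := by
    intro v hv
    have h1 : (pr V).base ((i₀ V).base x') = (EtPBCProperLib.cp V).base ((pullback.snd (pr V) (EtPBCProperLib.cp V)).base x') :=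
      congrArg (fun t : _ ⟶ Spec (CommRingCat.of V) => t.base x') (pullback.condition (f := pr V) (g := EtPBCProperLib.cp V))
    rw [← hz] at h1
    have h2 : (Spec.map (CommRingCat.ofHom (algebraMap V V[X]))).base z =
        (EtPBCProperLib.cp V).base ((pullback.snd (pr V) (EtPBCProperLib.cp V)).base x') := by
      rw [← hιπ]
      exact h1
    have h3 : v ∈ ((EtPBCProperLib.cp V).base ((pullback.snd (pr V) (EtPBCProperLib.cp V)).base x')).asIdeal := by
      show Ideal.Quotient.mk (IsLocalRing.maximalIdeal V) v ∈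
        (show PrimeSpectrum (V ⧸ IsLocalRing.maximalIdeal V) from
          (pullback.snd (pr V) (EtPBCProperLib.cp V)).base x').asIdeal
      rw [Ideal.Quotient.eq_zero_iff_mem.2 ((IsLocalRing.mem_maximalIdeal _).2 hv)]
      exact zero_mem _
    rw [← h2] at h3
    exact h3
  haveI : z.asIdeal.IsPrime := z.isPrime
  rcases prime_cases V K z.asIdeal hover with hg | ⟨b, hb⟩
  · let L := Localization.AtPrime z.asIdeal
    obtain ⟨RX, _, _, _, _, hRX⟩ := Groth.Agent.S0537.result L
    haveI : HenselianLocalRing RX := hRX.henselian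
    haveI : IsSepClosed (IsLocalRing.ResidueField RX) := hRX.isSepClosure.sep_closed
    haveI : Algebra.WeaklyEtale V[X] L := EtRpushStalkLib.weaklyEtale_localization z.asIdeal.primeCompl _
    haveI : Algebra.WeaklyEtale L RX := Groth.Agent.S0736.result _ RX (Groth.Agent.S12237.result L RX)
    letI : Algebra V[X] RX := ((algebraMap L RX).comp (algebraMap V[X] L)).toAlgebra
    haveI : IsScalarTower V[X] L RX := IsScalarTower.of_algebraMap_eq' rfl
    haveI : Algebra.WeaklyEtale V[X] RX := Algebra.WeaklyEtale.trans V[X] L RX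
    letI : Algebra V RX := ((algebraMap V[X] RX).comp Polynomial.C).toAlgebra
    haveI : IsScalarTower V V[X] RX := IsScalarTower.of_algebraMap_eq' rfl
    have hu : ∀ g : V[X], IsUnit (algebraMap V[X] RX g) ↔ g ∉ z.asIdeal := fun g => by
      show IsUnit (algebraMap L RX (algebraMap V[X] L g)) ↔ _
      rw [isUnit_map_iff, IsLocalization.AtPrime.isUnit_to_map_iff L z.asIdeal g]
      rfl
    have hsub := subsingleton_H1_gauss V K ℓ hℓp hℓ RX (fun v hv h => (hu _).1 h (hover v hv))
      fun g hgu => (hu g).2 fun hgz => by obtain ⟨i, hi⟩ := hgu; exact hg g hgz i hi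
    let gS := Spec.map (CommRingCat.ofHom (algebraMap V[X] RX)) ≫ ι
    haveI : WeaklyEtale gS := weaklyEtale_toLine ι
    have hgS : gS ≫ pr V = Spec.map (CommRingCat.ofHom (algebraMap V RX)) := by
      rw [Category.assoc, hιπ, ← Spec.map_comp]
      rfl
    have hzero := (isZero_stk_QK_iff V K ℓ RX gS hgS).2 hsub
    have e : (closedPt RX ≫ gS).base default = (ξ ≫ i₀ V).base default := by
      show ι.base ((Spec.map (CommRingCat.ofHom (algebraMap V[X] RX))).base ((closedPt RX).base default)) = _
      rw [EtBcQLib.closedPt_base]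
      refine Eq.trans (congrArg ι.base (PrimeSpectrum.ext (Ideal.ext fun g => ?_))) hz
      show algebraMap V[X] RX g ∈ IsLocalRing.maximalIdeal RX ↔ _
      rw [IsLocalRing.mem_maximalIdeal, mem_nonunits_iff, hu, not_not]
    obtain ⟨φ⟩ := nonempty_stk_iso_of_eq (A := AddCommGrpCat.{u + 1}) (ξ := ξ ≫ i₀ V) (ξ' := closedPt RX ≫ gS) e
    exact hzero.of_iso (φ.app _)
  · exfalso
    apply hnc
    haveI : z.asIdeal.IsMaximal := by
      let ev : V[X] →+* IsLocalRing.ResidueField V := (IsLocalRing.residue V).comp (Polynomial.evalRingHom b)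
      haveI hM : (RingHom.ker ev).IsMaximal := RingHom.ker_isMaximal_of_surjective _ fun r => by
        obtain ⟨r, rfl⟩ := IsLocalRing.residue_surjective r
        exact ⟨Polynomial.C r, by simp [ev]⟩
      have hle : RingHom.ker ev ≤ z.asIdeal := fun g hg => by
        obtain ⟨q, hq⟩ := Polynomial.X_sub_C_dvd_sub_C_eval (a := b) (p := g)
        rw [show g = (Polynomial.X - Polynomial.C b) * q + Polynomial.C (g.eval b) by rw [← hq, sub_add_cancel]]
        refine add_mem (z.asIdeal.mul_mem_right _ hb) (hover _ ?_)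
        exact fun hu => (IsLocalRing.residue_ne_zero_iff_isUnit _).2 hu (RingHom.mem_ker.1 hg)
      rwa [← hM.eq_of_le z.isPrime.ne_top hle]
    haveI : LocallyOfFiniteType (pullback.snd (pr V) (EtPBCProperLib.cp V)) := inferInstance
    haveI : JacobsonSpace ↥(pullback (pr V) (EtPBCProperLib.cp V)) :=
      LocallyOfFiniteType.jacobsonSpace (pullback.snd (pr V) (EtPBCProperLib.cp V))
    refine isClosed_singleton_of_isLocallyClosed_singleton ?_
    haveI : IsClosedImmersion (EtPBCProperLib.cp V) :=
      IsClosedImmersion.spec_of_surjective _ Ideal.Quotient.mk_surjective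
    haveI : IsClosedImmersion (i₀ V) := MorphismProperty.pullback_fst _ _ inferInstance
    have e : ({x'} : Set _) = (i₀ V).base ⁻¹' (ι.base '' {z}) := by
      rw [Set.image_singleton, hz]
      ext y
      simp only [Set.mem_singleton_iff, Set.mem_preimage]
      exact ⟨fun h => by rw [h], fun h => (i₀ V).isEmbedding.injective h⟩
    show IsLocallyClosed ({x'} : Set _)
    rw [e]
    refine IsLocallyClosed.preimage ?_ (i₀ V).continuous
    refine IsLocallyClosed.image ?_ ι.isOpenEmbedding.isInducing ι.isOpenEmbedding.isOpen_range.isLocallyClosed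
    exact (PrimeSpectrum.isClosed_singleton_iff_isMaximal z).2 ‹_› |>.isLocallyClosed

variable (W : Type u) [CommRing W] [HenselianLocalRing W] [IsSepClosed (IsLocalRing.ResidueField W)]
  [Algebra V[X] W] [Algebra V W] [IsScalarTower V V[X] W] [Algebra.WeaklyEtale V[X] W]

include hℓp hℓ in
/-- The generic fibre of a strict localisation at a closed point has no first cohomology. -/
theorem subsingleton_H1_closed (hloc : ∀ v : V, ¬ IsUnit v → ¬ IsUnit (algebraMap V W v)) (b : V)
    (hb : ¬ IsUnit (algebraMap V[X] W (Polynomial.X - Polynomial.C b))) :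
    Subsingleton (EtCoh.H (Spec (CommRingCat.of (W ⊗[V] K)))
      (EtCoh.const (Spec (CommRingCat.of (W ⊗[V] K))) (ZMod ℓ)) 1) := by
  by_contra hns
  haveI := isAlgClosed_residueField V K
  haveI := henselianLocalRing_of_isAlgClosed V K
  haveI : IsProper (pr V) := StratLib.isProper_toSpec 1 V
  let k := V ⧸ IsLocalRing.maximalIdeal V
  letI : Field k := Ideal.Quotient.field _
  haveI : IsSepClosed k := inferInstanceAs (IsSepClosed (IsLocalRing.ResidueField V))
  haveI : IsProper (pullback.snd (pr V) (EtPBCProperLib.cp V)) :=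
    MorphismProperty.pullback_snd _ _ ‹IsProper (pr V)›
  let Pk := pullback (pr V) (EtPBCProperLib.cp V)
  haveI : IsNoetherian Pk := EtProperConsLib.isNoetherian_of_proper (pullback.snd (pr V) (EtPBCProperLib.cp V))
  haveI := finite_top_QK V K ℓ hℓp
  let G := (EtCoh.pull (i₀ V)).obj (QK V K ℓ)
  have hfin := finite_support (F := G) (suppClosed_QK V K ℓ hℓp hℓ)
    (fun x => SkySumLib.isSepClosed_residueField (pullback.snd (pr V) (EtPBCProperLib.cp V)) x.1 x.2) inferInstance
  obtain ⟨i, -⟩ : ∃ i : Fin 2, True := ⟨0, trivial⟩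
  obtain ⟨x₀⟩ : Nonempty (CohB1.ProjSpace 1 V) := by
    let e := (RingEquiv.ofBijective _ (GenusZeroLib.chartPoly_bijective 1 V i)).symm.trans
      (MvPolynomial.uniqueAlgEquiv V (Fin 1)).toRingEquiv
    exact ⟨(GradedCechLib.chartι 1 V i).base ((Spec.map e.toCommRingCatIso.hom).base (Classical.arbitrary (PrimeSpectrum V[X])))⟩
  obtain ⟨ι, hι, hιπ, -⟩ := exists_chart_line V x₀
  let φ := algebraMap V[X] W
  have key : ∀ c : V, ∃ (y : Pk) (z : PrimeSpectrum V[X]), (i₀ V).base y = ι.base z ∧
      Polynomial.X - Polynomial.C (b + c) ∈ z.asIdeal ∧ (∀ v, ¬ IsUnit v → Polynomial.C v ∈ z.asIdeal) ∧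
      y ∈ {x : Pk | ∃ (Ω : Type u) (_ : Field Ω) (_ : IsSepClosed Ω) (ξ : Spec (CommRingCat.of Ω) ⟶ Pk),
        ξ.base default = x ∧ ¬ IsZero ((stk (A := AddCommGrpCat.{u + 1}) ξ).obj G)} := by
    intro c
    let θ : V[X] →+* W := φ.comp (shift c)
    haveI : IsIso (Spec.map (CommRingCat.ofHom (shift c))) :=
      inferInstanceAs (IsIso (Spec.map (Polynomial.algEquivAevalXAddC c).toRingEquiv.toCommRingCatIso.hom))
    haveI := EtProperH0Lib.weaklyEtale_spec V[X] W
    let gS : Spec (CommRingCat.of W) ⟶ CohB1.ProjSpace 1 V :=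
      Spec.map (CommRingCat.ofHom φ) ≫ Spec.map (CommRingCat.ofHom (shift c)) ≫ ι
    haveI : AlgebraicGeometry.Etale (Spec.map (CommRingCat.ofHom (shift c)) ≫ ι) := inferInstance
    haveI : WeaklyEtale (Spec.map (CommRingCat.ofHom (shift c)) ≫ ι) := inferInstance
    haveI : WeaklyEtale gS := inferInstance
    have hgS : gS ≫ pr V = Spec.map (CommRingCat.ofHom (algebraMap V W)) := by
      rw [Category.assoc, Category.assoc, hιπ, ← Spec.map_comp, ← Spec.map_comp]
      refine congrArg Spec.map (CommRingCat.hom_ext (RingHom.ext fun v => ?_))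
      show φ (shift c (algebraMap V V[X] v)) = algebraMap V W v
      rw [IsScalarTower.algebraMap_apply V V[X] W v]
      exact congrArg φ ((Polynomial.algEquivAevalXAddC c).commutes v)
    have hne : ¬ IsZero ((stk (A := AddCommGrpCat.{u + 1}) (closedPt W ≫ gS)).obj (QK V K ℓ)) :=
      fun h => hns ((isZero_stk_QK_iff V K ℓ W gS hgS).1 h)
    let ρ : k →+* IsLocalRing.ResidueField W := Ideal.Quotient.lift _
      ((IsLocalRing.residue W).comp (algebraMap V W)) fun v hv =>
        (IsLocalRing.residue_eq_zero_iff _).2 ((IsLocalRing.mem_maximalIdeal _).2 (hloc v hv))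
    have hρ : (closedPt W ≫ gS) ≫ pr V = Spec.map (CommRingCat.ofHom ρ) ≫ EtPBCProperLib.cp V := by
      rw [Category.assoc, hgS, ← Spec.map_comp, ← Spec.map_comp]
      exact congrArg Spec.map (CommRingCat.hom_ext (RingHom.ext fun v => rfl))
    let ξ : Spec (CommRingCat.of (IsLocalRing.ResidueField W)) ⟶ Pk := pullback.lift _ _ hρ
    let z : PrimeSpectrum V[X] := PrimeSpectrum.comap θ (IsLocalRing.closedPoint W)
    refine ⟨ξ.base default, z, ?_, ?_, fun v hv => ?_, IsLocalRing.ResidueField W, inferInstance, inferInstance, ξ,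
      rfl, fun h => hne ?_⟩
    · show (ξ ≫ i₀ V).base default = _
      rw [pullback.lift_fst]
      show gS.base ((closedPt W).base default) = _
      rw [EtBcQLib.closedPt_base]
      rfl
    · show φ (shift c _) ∈ IsLocalRing.maximalIdeal W
      rw [shift_sub]
      exact hb
    · show φ (shift c (Polynomial.C v)) ∈ IsLocalRing.maximalIdeal W
      rw [show shift c (Polynomial.C v) = Polynomial.C v from (Polynomial.algEquivAevalXAddC c).commutes v]
      show ¬ IsUnit (φ (algebraMap V V[X] v))
      rw [← IsScalarTower.algebraMap_apply V V[X] W v]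
      exact hloc v hv
    · have h' := h.of_iso ((stalkPull (i₀ V) ξ AddCommGrpCat.{u + 1}).app (QK V K ℓ))
      obtain ⟨ψ⟩ := nonempty_stk_iso_of_eq (A := AddCommGrpCat.{u + 1}) (ξ := closedPt W ≫ gS) (ξ' := ξ ≫ i₀ V)
        (congrArg (fun t => t.base default) (pullback.lift_fst _ _ hρ))
      exact h'.of_iso (ψ.app _)
  choose y z hy hz hzm hmem using key
  let s := Function.surjInv (IsLocalRing.residue_surjective (R := V))
  haveI := hfin.to_subtype
  refine not_finite_iff_infinite.2 (IsAlgClosed.instInfinite (K := IsLocalRing.ResidueField V))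
    (Finite.of_injective (fun r => (⟨y (s r), hmem (s r)⟩ : {x : Pk | _})) fun r r' h => ?_)
  have hyy : ι.base (z (s r)) = ι.base (z (s r')) := by
    rw [← hy, ← hy]
    exact congrArg (i₀ V).base (congrArg Subtype.val h)
  have hzz : z (s r) = z (s r') := ι.isOpenEmbedding.injective hyy
  by_contra hne
  have hu : IsUnit (s r' - s r) := by
    by_contra hu
    refine hne ?_
    rw [← Function.surjInv_eq IsLocalRing.residue_surjective r, ← Function.surjInv_eq IsLocalRing.residue_surjective r']
    have h0 := (IsLocalRing.residue_eq_zero_iff _).2 ((IsLocalRing.mem_maximalIdeal _).2 hu)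
    rw [map_sub, sub_eq_zero] at h0
    exact h0.symm
  refine (z (s r')).isPrime.ne_top (Ideal.eq_top_of_isUnit_mem _ ?_ (hu.map Polynomial.C))
  have h1 := Ideal.sub_mem _ (hzz ▸ hz (s r)) (hz (s r'))
  rw [show (Polynomial.X - Polynomial.C (b + s r)) - (Polynomial.X - Polynomial.C (b + s r')) =
    Polynomial.C (s r' - s r) by rw [map_sub, map_add, map_add]; ring] at h1
  exact h1

include hℓp hℓ in
/-- Local acyclicity of the affine line over valuation rings in degree one. -/
theorem subsingleton_H1_valuation (hloc : ∀ v : V, ¬ IsUnit v → ¬ IsUnit (algebraMap V W v)) :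
    Subsingleton (EtCoh.H (Spec (CommRingCat.of (W ⊗[V] K)))
      (EtCoh.const (Spec (CommRingCat.of (W ⊗[V] K))) (ZMod ℓ)) 1) := by
  let p := (IsLocalRing.maximalIdeal W).comap (algebraMap V[X] W)
  have hp : ∀ v : V, ¬ IsUnit v → Polynomial.C v ∈ p := fun v hv => by
    show ¬ IsUnit (algebraMap V[X] W (algebraMap V V[X] v))
    rw [← IsScalarTower.algebraMap_apply V V[X] W v]
    exact hloc v hv
  rcases prime_cases V K p hp with hg | ⟨b, hb⟩
  · refine subsingleton_H1_gauss V K ℓ hℓp hℓ W hloc fun g ⟨i, hi⟩ => ?_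
    by_contra hn
    exact hg g hn i hi
  · exact subsingleton_H1_closed V K ℓ hℓp hℓ W hloc b hb

end EtSmAcycLib
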