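import Groth.Agent.EtSmAcycLib.GeomFibre
import Groth.Agent.S3471
import Groth.Agent.S0754
import Groth.Agent.S7127
import Groth.Agent.EtCurveConsLib.Acyc
import Groth.Agent.EtAcycFibLib.Trans
import Groth.Agent.EtAcycLib.Comp
import Groth.Agent.LocAcycBCLib.Comp
import Groth.Agent.LocAcycStalkLib.Main
import Groth.Agent.AlgSpLib.EtSmKey
import Groth.Agent.WEtNormalLib.Olivier

/-!
# Smooth morphisms are locally acyclic for the invertible primes
-/

set_option autoImplicit false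
set_option linter.all false
set_option backward.isDefEq.respectTransparency false
set_option backward.isDefEq.respectTransparency.types false
set_option synthInstance.maxHeartbeats 400000
set_option maxHeartbeats 4000000

universe u

open CategoryTheory CategoryTheory.Limits AlgebraicGeometry Opposite
open Groth.Agent Groth.Agent.EtShLib EtRpushStalkLib
open scoped TensorProduct

attribute [local instance] EtSliceLib.pullExact

noncomputable section

namespace EtSmAcycLib

/-- An isomorphism is acyclic. -/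
theorem isAcyclicN_of_isIso {X Y : Scheme.{u}} (g : X ⟶ Y) [IsIso g] (L : Set ℕ) (n : ℕ) :
    EtAcyc.IsAcyclicN g L n := fun V F _ _ =>
  ⟨fun q _ => EtPBCProperLib.bijective_of_iso (EtAcyc.prj g V) F q,
    (EtPBCProperLib.bijective_of_iso (EtAcyc.prj g V) F (n + 1)).1⟩

/-- Weakly étale morphisms are locally acyclic. -/
theorem isLocAcyclicN_of_weaklyEtale {X Y : Scheme.{u}} (g : X ⟶ Y) [WeaklyEtale g] (L : Set ℕ) (n : ℕ) :
    EtAcyc.IsLocAcyclicN g L n := by
  intro x RY RX _ _ _ _ aY _ hY aX _ hX _ _ hc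
  haveI := hY.henselian
  haveI := hY.isSepClosure.sep_closed
  letI : Algebra (Y.presheaf.stalk (g.base x)) (X.presheaf.stalk x) := (g.stalkMap x).hom.toAlgebra
  haveI : Algebra.WeaklyEtale (Y.presheaf.stalk (g.base x)) (X.presheaf.stalk x) :=
    LocAcycStalkLib.weaklyEtale_stalkMap g x
  haveI : Algebra.WeaklyEtale (X.presheaf.stalk x) RX :=
    Groth.Agent.S0736.result _ _ (Groth.Agent.S12237.result _ _)
  haveI : Algebra.WeaklyEtale (Y.presheaf.stalk (g.base x)) RY :=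
    Groth.Agent.S0736.result _ _ (Groth.Agent.S12237.result _ _)
  letI : Algebra (Y.presheaf.stalk (g.base x)) RX := ((algebraMap RY RX).comp (algebraMap _ RY)).toAlgebra
  haveI : IsScalarTower (Y.presheaf.stalk (g.base x)) RY RX := IsScalarTower.of_algebraMap_eq fun _ => rfl
  haveI : IsScalarTower (Y.presheaf.stalk (g.base x)) (X.presheaf.stalk x) RX := IsScalarTower.of_algebraMap_eq' hc
  haveI : Algebra.WeaklyEtale (Y.presheaf.stalk (g.base x)) RX :=
    Algebra.WeaklyEtale.trans _ (X.presheaf.stalk x) RX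
  haveI : Algebra.WeaklyEtale RY RX := Groth.Agent.S7127.result (Y.presheaf.stalk (g.base x)) RY RX
  have hb := Groth.Agent.WEtNormalLib.bijective_of_strictlyHenselian RY RX
  haveI : IsIso (CommRingCat.ofHom (algebraMap RY RX)) :=
    (ConcreteCategory.isIso_iff_bijective (CommRingCat.ofHom (algebraMap RY RX))).2 hb
  exact isAcyclicN_of_isIso _ L n

/-- Compositions. -/
theorem isLocAcyclicN_comp {X Y Z : Scheme.{u}} (g : X ⟶ Y) (h : Y ⟶ Z) (L : Set ℕ) (n : ℕ)
    (hg : EtAcyc.IsLocAcyclicN g L n) (hh : EtAcyc.IsLocAcyclicN h L n) : EtAcyc.IsLocAcyclicN (g ≫ h) L n := by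
  intro x RZ RX _ _ _ _ aZ lZ hZ aX _ hX algZX _ hc
  obtain ⟨RY, cY, lY, aY, hlY, hY⟩ := Groth.Agent.S0537.result (Y.presheaf.stalk (g.base x))
  haveI := hX.henselian
  haveI := hX.isSepClosure.sep_closed
  obtain ⟨ρ, hρl, hρ⟩ := LocAcycBCLib.exists_lift (O := Y.presheaf.stalk (g.base x)) (R := RY)
    ((algebraMap (X.presheaf.stalk x) RX).comp (g.stalkMap x).hom)
  obtain ⟨μ, hμl, hμ, hρμ⟩ := LocAcycBCLib.exists_factor (O := Z.presheaf.stalk ((g ≫ h).base x)) (R := RZ)
    (O1 := Y.presheaf.stalk (g.base x)) (h.stalkMap (g.base x)).hom (algebraMap RZ RX) ρ (by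
      rw [hρ, hc, Scheme.Hom.stalkMap_comp]
      rfl)
  letI : Algebra RY RX := ρ.toAlgebra
  letI : Algebra RZ RY := μ.toAlgebra
  haveI : IsLocalHom (algebraMap RY RX) := hρl
  haveI : IsLocalHom (algebraMap RZ RY) := hμl
  have h1 := hg x RY RX hρ
  have h2 := @hh (g.base x) RZ RY _ _ _ _ aZ lZ hZ aY hlY hY _ _ hμ
  have h3 := (EtAcycLib.isAcyclicN_comp_iff _ _ h1).1 h2
  rw [← Spec.map_comp, ← CommRingCat.ofHom_comp,
    show (algebraMap RY RX).comp (algebraMap RZ RY) = algebraMap RZ RX from hρμ] at h3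
  exact h3

/-- Monotony in the set of primes. -/
theorem isLocAcyclicN_mono {X Y : Scheme.{u}} (g : X ⟶ Y) {L L' : Set ℕ} (hL : L ⊆ L') (n : ℕ)
    (hg : EtAcyc.IsLocAcyclicN g L' n) : EtAcyc.IsLocAcyclicN g L n := by
  intro x RY RX _ _ _ _ _ _ _ _ _ _ _ _ hc V F hF
  refine hg x RY RX hc V F (fun U s p => ?_)
  obtain ⟨W, a, m, hv, hm, hs⟩ := hF U s p
  exact ⟨W, a, m, hv, ⟨hm.1, fun q hq hd => hL (hm.2 q hq hd)⟩, hs⟩

/-- Local acyclicity is local on the source. -/
theorem isLocAcyclicN_of_cover {X Y : Scheme.{u}} (f : X ⟶ Y) (L : Set ℕ) (n : ℕ)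
    (h : ∀ x : X, ∃ (T : Scheme.{u}) (η : T ⟶ X), IsOpenImmersion η ∧ x ∈ Set.range η.base ∧
      EtAcyc.IsLocAcyclicN (η ≫ f) L n) : EtAcyc.IsLocAcyclicN f L n := by
  intro x RY RX _ _ _ _ aY _ hY aX _ hX _ _ hc
  obtain ⟨T, η, hη, ⟨t, ht⟩, hT⟩ := h x
  haveI := hη
  subst ht
  let A := T.presheaf.stalk t
  let B := X.presheaf.stalk (η.base t)
  letI : Algebra A B := (inv (η.stalkMap t)).hom.toAlgebra
  haveI : Algebra.WeaklyEtale A B := by
    haveI : Algebra.Etale A B := RingHom.etale_algebraMap.1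
      (RingHom.Etale.of_bijective ((ConcreteCategory.isIso_iff_bijective (inv (η.stalkMap t))).1 inferInstance))
    infer_instance
  letI : Algebra A RX := ((algebraMap B RX).comp (inv (η.stalkMap t)).hom).toAlgebra
  haveI : IsScalarTower A B RX := IsScalarTower.of_algebraMap_eq fun _ => rfl
  haveI : IsLocalHom (algebraMap A RX) := by
    haveI : IsLocalHom (inv (η.stalkMap t)).hom := inferInstance
    exact RingHom.isLocalHom_comp (algebraMap B RX) (inv (η.stalkMap t)).hom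
  haveI : Hensel.IsStrictHenselization A RX := Groth.Agent.WEtSHLib.isStrictHenselization_of_weaklyEtale A B RX
  refine EtAcycFibLib.onStrictLocalizations_apply (η ≫ f) _ hT t (f.base (η.base t)) rfl RY RX ?_
  show Spec.map _ ≫ Spec.map (CommRingCat.ofHom (algebraMap _ RY)) ≫ _ =
    (Spec.map (CommRingCat.ofHom ((algebraMap B RX).comp (inv (η.stalkMap t)).hom)) ≫ T.fromSpecStalk t) ≫ η ≫ f
  rw [← Spec.map_comp_assoc, ← CommRingCat.ofHom_comp, hc, CommRingCat.ofHom_comp, CommRingCat.ofHom_comp,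
    Spec.map_comp, Spec.map_comp, CommRingCat.ofHom_hom, CommRingCat.ofHom_hom, Category.assoc, Category.assoc,
    Category.assoc, Scheme.SpecMap_stalkMap_fromSpecStalk, ← Scheme.SpecMap_stalkMap_fromSpecStalk_assoc (f := η),
    ← Spec.map_comp_assoc (η.stalkMap t) (inv (η.stalkMap t)), IsIso.hom_inv_id, Spec.map_id, Category.id_comp]

section Line

variable (R : Type u) [CommRing R]

/-- The line over an affine base. -/
abbrev lineMap : Spec (CommRingCat.of (Polynomial R)) ⟶ Spec (CommRingCat.of R) :=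
  Spec.map (CommRingCat.ofHom (Polynomial.C : R →+* Polynomial R))

theorem isLocAcyclicN_line (ℓ : ℕ) (hℓp : ℓ.Prime) (hℓ : IsUnit (ℓ : R)) (n : ℕ) :
    EtAcyc.IsLocAcyclicN (lineMap R) {ℓ} n := by
  have hL : ∃ p ∈ ({ℓ} : Set ℕ), p.Prime := ⟨ℓ, rfl, hℓp⟩
  haveI : Smooth (lineMap R) := by
    rw [HasRingHomProperty.Spec_iff (P := @Smooth)]
    show (algebraMap R (Polynomial R)).Smooth
    exact RingHom.smooth_algebraMap.2 ⟨inferInstance, inferInstance⟩
  refine (Groth.Agent.S3471.result (lineMap R) {ℓ} hL n).2 ?_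
  intro x RY RX _ _ _ _ aY _ hY aX _ hX _ _ hc y Ω _ _ _ _
  haveI := hY.henselian
  haveI := hY.isSepClosure.sep_closed
  haveI := hX.henselian
  haveI := hX.isSepClosure.sep_closed
  obtain ⟨hne, hconn, -⟩ := (Groth.Agent.S3471.result (lineMap R) {ℓ} hL 0).1
    (EtCurveConsLib.isLocAcyclicN_zero_of_smooth (lineMap R) {ℓ}) x RY RX hc y Ω
  refine ⟨hne, hconn, fun p hp hpL q hq _ => ?_⟩
  rw [Set.mem_singleton_iff] at hpL
  subst hpL
  obtain ⟨φY, hφY⟩ : ∃ φY : CommRingCat.of R ⟶ CommRingCat.of RY,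
      Spec.map φY = Hens2.specOf (Spec (CommRingCat.of R)) ((lineMap R).base x) RY :=
    ⟨Spec.preimage _, Spec.map_preimage _⟩
  obtain ⟨φX, hφX⟩ : ∃ φX : CommRingCat.of (Polynomial R) ⟶ CommRingCat.of RX,
      Spec.map φX = Hens2.specOf (Spec (CommRingCat.of (Polynomial R))) x RX :=
    ⟨Spec.preimage _, Spec.map_preimage _⟩
  have hh : Spec.map (CommRingCat.ofHom (algebraMap RY RX)) ≫ Spec.map φY = Spec.map φX ≫ lineMap R := by
    rw [hφY, hφX]
    show Spec.map _ ≫ Spec.map _ ≫ _ = (Spec.map _ ≫ _) ≫ lineMap R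
    rw [Category.assoc, ← Scheme.SpecMap_stalkMap_fromSpecStalk, ← Spec.map_comp_assoc, ← Spec.map_comp_assoc,
      ← CommRingCat.ofHom_comp, hc]
    rfl
  have hh' : φY ≫ CommRingCat.ofHom (algebraMap RY RX) = CommRingCat.ofHom Polynomial.C ≫ φX :=
    Spec.map_injective (by rw [Spec.map_comp, Spec.map_comp]; exact hh)
  let ψ : Polynomial RY →+* RX := Polynomial.eval₂RingHom (algebraMap RY RX) (φX.hom Polynomial.X)
  letI : Algebra (Polynomial RY) RX := ψ.toAlgebra
  haveI : IsScalarTower RY (Polynomial RY) RX :=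
    IsScalarTower.of_algebraMap_eq fun r => (Polynomial.eval₂_C _ _).symm
  have hψ : CommRingCat.ofHom (Polynomial.mapRingHom φY.hom) ≫ CommRingCat.ofHom ψ = φX := by
    ext1
    refine Polynomial.ringHom_ext (fun r => ?_) ?_
    · show ψ ((Polynomial.C r).map φY.hom) = _
      rw [Polynomial.map_C]
      exact (Polynomial.eval₂_C _ _).trans (RingHom.congr_fun (congrArg CommRingCat.Hom.hom hh') r)
    · show ψ ((Polynomial.X : Polynomial R).map φY.hom) = _
      rw [Polynomial.map_X]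
      exact Polynomial.eval₂_X _ _
  haveI : Algebra.WeaklyEtale (Polynomial RY) RX := by
    refine EtAcycFibLib.weaklyEtale_ring ?_
    haveI : WeaklyEtale (Spec.map φY) := hφY ▸ Groth.Agent.S0754.result _ _ RY
    haveI : WeaklyEtale (Spec.map φX) := hφX ▸ Groth.Agent.S0754.result _ _ RX
    haveI : WeaklyEtale (Spec.map (CommRingCat.ofHom (Polynomial.mapRingHom φY.hom))) :=
      MorphismProperty.of_isPullback
        (isPullback_SpecMap_of_isPushout _ _ _ _ (isPushout_mapPoly φY.hom)).flip (by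
          rw [CommRingCat.ofHom_hom]; infer_instance)
    haveI : WeaklyEtale (Spec.map (CommRingCat.ofHom ψ) ≫
        Spec.map (CommRingCat.ofHom (Polynomial.mapRingHom φY.hom))) := by
      rw [← Spec.map_comp, hψ]; infer_instance
    exact WeaklyEtale.of_comp (Spec.map (CommRingCat.ofHom ψ)) (Spec.map (CommRingCat.ofHom (Polynomial.mapRingHom φY.hom)))
  letI : Algebra RY Ω := (Spec.preimage (EtAcyc.geomPt (Spec (CommRingCat.of RY)) y Ω)).hom.toAlgebra
  have hg : Spec.map (CommRingCat.ofHom (algebraMap RY Ω)) = EtAcyc.geomPt (Spec (CommRingCat.of RY)) y Ω :=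
    Spec.map_preimage _
  have hu : IsUnit ((p : ℕ) : RY) := by simpa using hℓ.map φY.hom
  haveI := subsingleton_gFib RY Ω RX p hp hu q hq
  have sq := (isPullback_gFib RY RX Ω).flip
  rw [hg] at sq
  let e := sq.isoPullback
  haveI : Subsingleton (EtCoh.H (pullback (Spec.map (CommRingCat.ofHom (algebraMap RY RX)))
      (EtAcyc.geomPt (Spec (CommRingCat.of RY)) y Ω)) ((EtCoh.pull e.inv).obj (EtCoh.const (gFib RY RX Ω) (ZMod p))) q) :=
    (EtPBCProperLib.bijective_of_iso e.inv (EtCoh.const (gFib RY RX Ω) (ZMod p)) q).2.subsingleton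
  exact (EtAcycLib.bijective_mk₀_iso_postcomp (EtCore.pullConst e.inv (ZMod p)) q).2.subsingleton

/-- Affine space over an affine base. -/
theorem isLocAcyclicN_affineSpace (ℓ : ℕ) (hℓp : ℓ.Prime) (hℓ : IsUnit (ℓ : R)) (m n : ℕ) :
    EtAcyc.IsLocAcyclicN (Spec.map (CommRingCat.ofHom (MvPolynomial.C : R →+* MvPolynomial (Fin m) R))) {ℓ} n := by
  induction m with
  | zero =>
    haveI : IsIso (CommRingCat.ofHom (MvPolynomial.C : R →+* MvPolynomial (Fin 0) R)) :=
      (ConcreteCategory.isIso_iff_bijective _).2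
        ⟨MvPolynomial.C_injective _ _, MvPolynomial.C_surjective _⟩
    exact isLocAcyclicN_of_weaklyEtale _ _ _
  | succ m ih =>
    let e := (MvPolynomial.finSuccEquiv R m).toRingEquiv.symm.toCommRingCatIso
    have he : Spec.map (CommRingCat.ofHom (MvPolynomial.C : R →+* MvPolynomial (Fin (m + 1)) R)) =
        Spec.map e.hom ≫ lineMap (MvPolynomial (Fin m) R) ≫
          Spec.map (CommRingCat.ofHom (MvPolynomial.C : R →+* MvPolynomial (Fin m) R)) := by
      rw [← Spec.map_comp, ← Spec.map_comp]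
      congr 1
      ext r : 2
      show MvPolynomial.C r = (MvPolynomial.finSuccEquiv R m).symm (Polynomial.C (MvPolynomial.C r))
      rw [eq_comm, AlgEquiv.symm_apply_eq]
      exact ((MvPolynomial.finSuccEquiv R m).commutes r).symm
    rw [he]
    have hu : IsUnit (ℓ : MvPolynomial (Fin m) R) := by
      simpa using hℓ.map (MvPolynomial.C : R →+* MvPolynomial (Fin m) R)
    exact isLocAcyclicN_comp _ _ _ _ (isLocAcyclicN_of_weaklyEtale _ _ _)
      (isLocAcyclicN_comp _ _ _ _ (isLocAcyclicN_line _ ℓ hℓp hu n) ih)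

end Line

theorem isUnit_natCast_stalk {X : Scheme.{u}} (x : X) (ℓ : ℕ) (h : (ℓ : X.residueField x) ≠ 0) :
    IsUnit (ℓ : X.presheaf.stalk x) := by
  by_contra hu
  refine h ?_
  have := (IsLocalRing.residue_eq_zero_iff (ℓ : X.presheaf.stalk x)).2 hu
  rw [map_natCast] at this
  exact this

theorem mem_basicOpen_natCast {X : Scheme.{u}} (x : X) (ℓ : ℕ) :
    x ∈ X.basicOpen (ℓ : Γ(X, ⊤)) ↔ IsUnit (ℓ : X.presheaf.stalk x) := by
  rw [Scheme.mem_basicOpen_top, map_natCast]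

/-- A smooth morphism is locally acyclic for a prime invertible near the points of the source. -/
theorem isLocAcyclicN_of_smooth {X Y : Scheme.{u}} (g : X ⟶ Y) [Smooth g] (ℓ : ℕ) (hℓp : ℓ.Prime)
    (hℓ : ∀ x : X, (ℓ : X.residueField x) ≠ 0) (n : ℕ) : EtAcyc.IsLocAcyclicN g {ℓ} n := by
  refine isLocAcyclicN_of_cover g _ n fun x => ?_
  let U : Y.Opens := Y.basicOpen (ℓ : Γ(Y, ⊤))
  have hx : g.base x ∈ U := by
    rw [mem_basicOpen_natCast]
    refine (isUnit_map_iff (g.stalkMap x).hom _).1 ?_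
    rw [map_natCast]
    exact isUnit_natCast_stalk x ℓ (hℓ x)
  obtain ⟨R, T, m, jY, η, θ, hjY, hη, ⟨t, ht⟩, heq, P, e, he⟩ :=
    AlgSpLib.exists_etale_polynomial_chart (g ∣_ U) ⟨x, hx⟩
  haveI := hjY
  haveI := hη
  refine ⟨Spec T, η ≫ (g ⁻¹ᵁ U).ι, inferInstance, ⟨t, ?_⟩, ?_⟩
  · show (g ⁻¹ᵁ U).ι.base (η.base t) = x
    rw [ht]
    rfl
  have hcomp : (η ≫ (g ⁻¹ᵁ U).ι) ≫ g = Spec.map θ ≫ Spec.map (AlgSpLib.polyC m R) ≫ (jY ≫ U.ι) := by
    rw [Category.assoc, ← morphismRestrict_ι, ← Category.assoc, heq]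
    simp only [Category.assoc]
  rw [hcomp]
  have hR : IsUnit (ℓ : R) := by
    by_contra hu
    obtain ⟨M, hM, hℓM⟩ := exists_max_ideal_of_mem_nonunits (mem_nonunits_iff.2 hu)
    let p : Spec R := (⟨M, hM.isPrime⟩ : PrimeSpectrum R)
    have h1 : (jY ≫ U.ι).base p ∈ U := by
      show U.ι.base (jY.base p) ∈ U
      exact (jY.base p).2
    rw [mem_basicOpen_natCast] at h1
    have h2 := h1.map ((jY ≫ U.ι).stalkMap p).hom
    letI : Algebra R ((Spec R).presheaf.stalk p) := StructureSheaf.stalkAlgebra R p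
    haveI : IsLocalization.AtPrime ((Spec R).presheaf.stalk p) M := StructureSheaf.IsLocalization.to_stalk R p
    rw [map_natCast, ← map_natCast (algebraMap R ((Spec R).presheaf.stalk p))] at h2
    exact (IsLocalization.AtPrime.isUnit_to_map_iff ((Spec R).presheaf.stalk p) M (ℓ : R)).1 h2 hℓM
  haveI : AlgebraicGeometry.Etale (Spec.map θ) := AlgSpLib.etale_standardEtale θ P e he
  exact isLocAcyclicN_comp _ _ _ _ (isLocAcyclicN_of_weaklyEtale _ _ _)
    (isLocAcyclicN_comp _ _ _ _ (isLocAcyclicN_affineSpace R ℓ hℓp hR m n) (isLocAcyclicN_of_weaklyEtale _ _ _))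

theorem exists_prime_ne_zero (k : Type u) [Field k] : ∃ ℓ : ℕ, ℓ.Prime ∧ (ℓ : k) ≠ 0 := by
  by_cases h : (2 : k) = 0
  · refine ⟨3, Nat.prime_three, fun h3 => one_ne_zero (α := k) ?_⟩
    have e3 : (3 : k) = 0 := by simpa using h3
    linear_combination e3 - h
  · exact ⟨2, Nat.prime_two, by simpa using h⟩

/-- Smooth morphisms are locally acyclic for the set of primes invertible on the source. -/
theorem isLocAcyclic_of_smooth {X Y : Scheme.{u}} (g : X ⟶ Y) [Smooth g] :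
    EtAcyc.IsLocAcyclic g (EtAcyc.primesInvertibleOn X) := by
  intro n
  by_cases hne : (EtAcyc.primesInvertibleOn X).Nonempty
  · obtain ⟨ℓ₀, hℓ₀⟩ := hne
    refine (Groth.Agent.S3471.result g _ ⟨ℓ₀, hℓ₀, hℓ₀.1⟩ n).2 ?_
    intro x RY RX _ _ _ _ _ _ _ _ _ _ _ _ hc y Ω _ _ _ _
    obtain ⟨h1, h2, -⟩ := (Groth.Agent.S3471.result g {ℓ₀} ⟨ℓ₀, rfl, hℓ₀.1⟩ n).1
      (isLocAcyclicN_of_smooth g ℓ₀ hℓ₀.1 hℓ₀.2 n) x RY RX hc y Ω
    refine ⟨h1, h2, fun p hp hpL q hq hqn => ?_⟩
    obtain ⟨-, -, h3⟩ := (Groth.Agent.S3471.result g {p} ⟨p, rfl, hp⟩ n).1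
      (isLocAcyclicN_of_smooth g p hp hpL.2 n) x RY RX hc y Ω
    exact h3 p hp rfl q hq hqn
  · rw [Set.not_nonempty_iff_eq_empty.1 hne]
    refine isLocAcyclicN_of_cover g _ n fun x => ?_
    obtain ⟨ℓ, hℓp, hℓ⟩ := exists_prime_ne_zero (X.residueField x)
    let W : X.Opens := X.basicOpen (ℓ : Γ(X, ⊤))
    refine ⟨W, W.ι, inferInstance, ⟨⟨x, (mem_basicOpen_natCast x ℓ).2 (isUnit_natCast_stalk x ℓ hℓ)⟩, rfl⟩, ?_⟩
    refine isLocAcyclicN_mono _ (Set.empty_subset {ℓ}) n (isLocAcyclicN_of_smooth (W.ι ≫ g) ℓ hℓp (fun w => ?_) n)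
    have h1 := (mem_basicOpen_natCast w.1 ℓ).1 w.2
    have h2 : IsUnit (ℓ : (W : Scheme).presheaf.stalk w) := by
      have h3 := h1.map (W.ι.stalkMap w).hom
      rwa [map_natCast] at h3
    have h4 := h2.map (IsLocalRing.residue ((W : Scheme).presheaf.stalk w))
    rw [map_natCast] at h4
    exact h4.ne_zero

end EtSmAcycLib
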