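import Groth.Agent.EtSmAcycLib.ProjLine
import Groth.Agent.StratLib.Light
import Mathlib.RingTheory.Valuation.LocalSubring

/-!
# Models: products of projective lines with a marked point
-/

set_option autoImplicit false
set_option linter.all false
set_option backward.isDefEq.respectTransparency false
set_option backward.isDefEq.respectTransparency.types false
set_option synthInstance.maxHeartbeats 400000
set_option maxHeartbeats 1000000

universe u

open CategoryTheory CategoryTheory.Limits AlgebraicGeometry Opposite
open Groth.Agent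
open scoped TensorProduct

noncomputable section

namespace EtSmAcycLib

/-- A finite wide fibre product of proper morphisms is proper. -/
theorem isProper_wide {S : Scheme.{u}} :
    ∀ {m : ℕ} (X : Fin m → Scheme.{u}) (g : ∀ i, X i ⟶ S) [∀ i, IsProper (g i)],
      IsProper (WidePullback.base g) := by
  intro m
  induction m with
  | zero =>
    intro X g _
    haveI : IsIso (WidePullback.base g) := by
      refine ⟨WidePullback.lift (𝟙 S) (fun i => i.elim0) (fun i => i.elim0), ?_, WidePullback.lift_base ..⟩
      exact WidePullback.hom_ext _ _ _ (fun i => i.elim0)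
        (by rw [Category.assoc, WidePullback.lift_base, Category.comp_id, Category.id_comp])
    infer_instance
  | succ m ih =>
    intro X g _
    haveI := ih (fun i => X i.castSucc) (fun i => g i.castSucc)
    let r : widePullback S X g ⟶ widePullback S (fun i : Fin m => X i.castSucc) (fun i => g i.castSucc) :=
      WidePullback.lift (WidePullback.base g) (fun i => WidePullback.π g i.castSucc) (fun i => WidePullback.π_arrow g _)
    let e : widePullback S X g ⟶ pullback (WidePullback.base (fun i : Fin m => g i.castSucc)) (g (Fin.last m)) :=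
      pullback.lift r (WidePullback.π g (Fin.last m))
        (by simp only [r, WidePullback.lift_base, WidePullback.π_arrow])
    let e' : pullback (WidePullback.base (fun i : Fin m => g i.castSucc)) (g (Fin.last m)) ⟶ widePullback S X g :=
      WidePullback.lift (pullback.fst _ _ ≫ WidePullback.base _)
        (fun i => Fin.lastCases (pullback.snd _ _) (fun j => pullback.fst _ _ ≫ WidePullback.π _ j) i)
        (fun i => by
          refine Fin.lastCases ?_ (fun j => ?_) i
          · rw [Fin.lastCases_last, ← pullback.condition]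
          · rw [Fin.lastCases_castSucc, Category.assoc, WidePullback.π_arrow])
    haveI : IsIso e := by
      refine ⟨e', WidePullback.hom_ext _ _ _ (fun i => ?_) ?_, pullback.hom_ext ?_ ?_⟩
      · refine Fin.lastCases ?_ (fun j => ?_) i
        · rw [Category.assoc, WidePullback.lift_π, Fin.lastCases_last, pullback.lift_snd, Category.id_comp]
        · rw [Category.assoc, WidePullback.lift_π, Fin.lastCases_castSucc, pullback.lift_fst_assoc,
            WidePullback.lift_π, Category.id_comp]
      · rw [Category.assoc, WidePullback.lift_base, pullback.lift_fst_assoc, WidePullback.lift_base, Category.id_comp]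
      · rw [Category.assoc, pullback.lift_fst, Category.id_comp]
        refine WidePullback.hom_ext _ _ _ (fun i => ?_) ?_
        · rw [Category.assoc, WidePullback.lift_π, WidePullback.lift_π, Fin.lastCases_castSucc]
        · rw [Category.assoc, WidePullback.lift_base, WidePullback.lift_base]
      · rw [Category.assoc, pullback.lift_snd, WidePullback.lift_π, Fin.lastCases_last, Category.id_comp]
    rw [show WidePullback.base g = e ≫ pullback.fst _ _ ≫ WidePullback.base (fun i : Fin m => g i.castSucc) by
      rw [pullback.lift_fst_assoc, WidePullback.lift_base]]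
    infer_instance

variable (A : Type u) [CommRing A] [Nontrivial A] (Ω : Type u) [Field Ω] [Algebra A Ω]

/-- The projective line over the base. -/
abbrev pA : CohB1.ProjSpace 1 A ⟶ Spec (CommRingCat.of A) := CohB1.ProjSpace.toSpec 1 A

theorem nonempty_line : Nonempty (CohB1.ProjSpace 1 A) := by
  let e := (RingEquiv.ofBijective _ (GenusZeroLib.chartPoly_bijective 1 A 0)).symm.trans
    (MvPolynomial.uniqueAlgEquiv A (Fin 1)).toRingEquiv
  exact ⟨(GradedCechLib.chartι 1 A 0).base ((Spec.map e.toCommRingCatIso.hom).base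
    (Classical.arbitrary (PrimeSpectrum (Polynomial A))))⟩

/-- A chosen affine line. -/
def ι0 : Spec (CommRingCat.of (Polynomial A)) ⟶ CohB1.ProjSpace 1 A :=
  (exists_chart_line A (nonempty_line A).some).choose

theorem isOpenImmersion_ι0 : IsOpenImmersion (ι0 A) := (exists_chart_line A (nonempty_line A).some).choose_spec.1

theorem ι0_pA : ι0 A ≫ pA A = Spec.map (CommRingCat.ofHom (algebraMap A (Polynomial A))) :=
  (exists_chart_line A (nonempty_line A).some).choose_spec.2.1

variable {A}

/-- An element as a point of the line. -/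
def ptOf {B : Type u} [CommRing B] [Algebra A B] (g : B) : Spec (CommRingCat.of B) ⟶ CohB1.ProjSpace 1 A :=
  Spec.map (CommRingCat.ofHom (Polynomial.aeval g).toRingHom) ≫ ι0 A

theorem ptOf_pA {B : Type u} [CommRing B] [Algebra A B] (g : B) :
    ptOf (A := A) g ≫ pA A = Spec.map (CommRingCat.ofHom (algebraMap A B)) := by
  rw [ptOf, Category.assoc, ι0_pA, ← Spec.map_comp, ← CommRingCat.ofHom_comp]
  exact congrArg (fun t => Spec.map (CommRingCat.ofHom t)) (Polynomial.aeval g).comp_algebraMap

variable (A) {Ω}

/-- The model of a finite set. -/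
abbrev mdl (F : Finset Ω) : Scheme.{u} :=
  widePullback (Spec (CommRingCat.of A)) (fun _ : Fin F.card => CohB1.ProjSpace 1 A) (fun _ => pA A)

/-- Its structure map. -/
abbrev mbase (F : Finset Ω) : mdl A F ⟶ Spec (CommRingCat.of A) := WidePullback.base fun _ : Fin F.card => pA A

theorem isProper_mbase (F : Finset Ω) : IsProper (mbase A F) := by
  haveI : IsProper (pA A) := StratLib.isProper_toSpec 1 A
  exact isProper_wide _ _

/-- A projection. -/
abbrev mproj (F : Finset Ω) {g : Ω} (hg : g ∈ F) : mdl A F ⟶ CohB1.ProjSpace 1 A :=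
  WidePullback.π (fun _ : Fin F.card => pA A) (F.equivFin ⟨g, hg⟩)

/-- The marked point. -/
def msec (F : Finset Ω) : Spec (CommRingCat.of Ω) ⟶ mdl A F :=
  WidePullback.lift (Spec.map (CommRingCat.ofHom (algebraMap A Ω))) (fun i => ptOf ((F.equivFin.symm i).1))
    (fun i => ptOf_pA _)

theorem msec_mbase (F : Finset Ω) : msec A F ≫ mbase A F = Spec.map (CommRingCat.ofHom (algebraMap A Ω)) :=
  WidePullback.lift_base _ _ _ _

theorem msec_mproj (F : Finset Ω) {g : Ω} (hg : g ∈ F) : msec A F ≫ mproj A F hg = ptOf g := by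
  rw [msec, mproj, WidePullback.lift_π, Equiv.symm_apply_apply]

/-- Projection between models. -/
def mtr {F G : Finset Ω} (h : F ⊆ G) : mdl A G ⟶ mdl A F :=
  WidePullback.lift (mbase A G) (fun i => mproj A G (h (F.equivFin.symm i).2)) (fun i => WidePullback.π_arrow _ _)

theorem mtr_mbase {F G : Finset Ω} (h : F ⊆ G) : mtr A h ≫ mbase A F = mbase A G :=
  WidePullback.lift_base _ _ _ _

theorem mtr_mproj {F G : Finset Ω} (h : F ⊆ G) {g : Ω} (hg : g ∈ F) :
    mtr A h ≫ mproj A F hg = mproj A G (h hg) := by
  have : ∀ x : {x // x ∈ F}, x = ⟨g, hg⟩ → mproj A G (h x.2) = mproj A G (h hg) := by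
    rintro x rfl
    rfl
  rw [mtr, mproj, WidePullback.lift_π]
  exact this _ (Equiv.symm_apply_apply _ _)

theorem mdl_ext {F : Finset Ω} {T : Scheme.{u}} {a b : T ⟶ mdl A F}
    (hπ : ∀ (g : Ω) (hg : g ∈ F), a ≫ mproj A F hg = b ≫ mproj A F hg) (hb : a ≫ mbase A F = b ≫ mbase A F) :
    a = b := by
  refine WidePullback.hom_ext _ _ _ (fun i => ?_) hb
  have := hπ (F.equivFin.symm i).1 (F.equivFin.symm i).2
  simpa [mproj] using this

theorem mtr_mtr {F G H : Finset Ω} (h : F ⊆ G) (h' : G ⊆ H) : mtr A h' ≫ mtr A h = mtr A (h.trans h') :=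
  mdl_ext A (fun g hg => by rw [Category.assoc, mtr_mproj, mtr_mproj, mtr_mproj])
    (by rw [Category.assoc, mtr_mbase, mtr_mbase, mtr_mbase])

theorem msec_mtr {F G : Finset Ω} (h : F ⊆ G) : msec A G ≫ mtr A h = msec A F :=
  mdl_ext A (fun g hg => by rw [Category.assoc, mtr_mproj, msec_mproj, msec_mproj])
    (by rw [Category.assoc, mtr_mbase, msec_mbase, msec_mbase])

variable (RX : Type u) [CommRing RX] [Algebra A RX]

/-- The structure map of the strict localisation. -/
abbrev rBase : Spec (CommRingCat.of RX) ⟶ Spec (CommRingCat.of A) := Spec.map (CommRingCat.ofHom (algebraMap A RX))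

/-- The model over the strict localisation. -/
abbrev lmdl (F : Finset Ω) : Scheme.{u} := pullback (mbase A F) (rBase A RX)

/-- The geometric fibre. -/
abbrev gFib (Ω : Type u) [Field Ω] [Algebra A Ω] : Scheme.{u} := Spec (CommRingCat.of (RX ⊗[A] Ω))

/-- Its projection to the point. -/
abbrev qΩ (Ω : Type u) [Field Ω] [Algebra A Ω] : gFib A RX Ω ⟶ Spec (CommRingCat.of Ω) :=
  Spec.map (CommRingCat.ofHom Algebra.TensorProduct.includeRight.toRingHom)

/-- Its projection to the strict localisation. -/
abbrev qR (Ω : Type u) [Field Ω] [Algebra A Ω] : gFib A RX Ω ⟶ Spec (CommRingCat.of RX) :=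
  Spec.map (CommRingCat.ofHom Algebra.TensorProduct.includeLeftRingHom)

theorem isPullback_gFib (Ω : Type u) [Field Ω] [Algebra A Ω] :
    IsPullback (qΩ A RX Ω) (qR A RX Ω) (Spec.map (CommRingCat.ofHom (algebraMap A Ω))) (rBase A RX) :=
  (isPullback_SpecMap_of_isPushout _ _ _ _ (CommRingCat.isPushout_tensorProduct A RX Ω)).flip

/-- The marked fibre. -/
def lsec (F : Finset Ω) : gFib A RX Ω ⟶ lmdl A RX F :=
  pullback.lift (qΩ A RX Ω ≫ msec A F) (qR A RX Ω) (by rw [Category.assoc, msec_mbase]; exact (isPullback_gFib A RX Ω).w)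

theorem isPullback_lsec (F : Finset Ω) :
    IsPullback (qΩ A RX Ω) (lsec A RX F) (msec A F) (pullback.fst (mbase A F) (rBase A RX)) := by
  refine (IsPullback.of_right ?_ (pullback.lift_fst _ _ _) (IsPullback.of_hasPullback (mbase A F) (rBase A RX)).flip).flip
  rw [msec_mbase]
  show IsPullback (lsec A RX F ≫ pullback.snd _ _) _ _ _
  rw [lsec, pullback.lift_snd]
  exact (isPullback_gFib A RX Ω).flip

/-- Projection between the models. -/
def ltr {F G : Finset Ω} (h : F ⊆ G) : lmdl A RX G ⟶ lmdl A RX F :=
  pullback.lift (pullback.fst _ _ ≫ mtr A h) (pullback.snd _ _)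
    (by rw [Category.assoc, mtr_mbase, pullback.condition])

theorem ltr_fst {F G : Finset Ω} (h : F ⊆ G) :
    ltr A RX h ≫ pullback.fst _ _ = pullback.fst _ _ ≫ mtr A h := pullback.lift_fst _ _ _

theorem ltr_snd {F G : Finset Ω} (h : F ⊆ G) : ltr A RX h ≫ pullback.snd _ _ = pullback.snd _ _ :=
  pullback.lift_snd _ _ _

theorem ltr_ltr {F G H : Finset Ω} (h : F ⊆ G) (h' : G ⊆ H) : ltr A RX h' ≫ ltr A RX h = ltr A RX (h.trans h') :=
  pullback.hom_ext (by rw [Category.assoc, ltr_fst, ← Category.assoc, ltr_fst, Category.assoc, mtr_mtr, ltr_fst])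
    (by rw [Category.assoc, ltr_snd, ltr_snd, ltr_snd])

theorem lsec_ltr {F G : Finset Ω} (h : F ⊆ G) : lsec A RX G ≫ ltr A RX h = lsec A RX F :=
  pullback.hom_ext
    (by rw [Category.assoc, ltr_fst, ← Category.assoc, lsec, pullback.lift_fst, Category.assoc, msec_mtr, lsec,
      pullback.lift_fst])
    (by rw [Category.assoc, ltr_snd, lsec, pullback.lift_snd, lsec, pullback.lift_snd])

theorem isClosedMap_ltr {F G : Finset Ω} (h : F ⊆ G) : IsClosedMap (ltr A RX h).base := by
  haveI := isProper_mbase A F
  haveI := isProper_mbase A G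
  haveI : IsProper (pullback.snd (mbase A F) (rBase A RX)) := MorphismProperty.pullback_snd _ _ inferInstance
  haveI : IsProper (pullback.snd (mbase A G) (rBase A RX)) := MorphismProperty.pullback_snd _ _ inferInstance
  haveI : IsProper (ltr A RX h ≫ pullback.snd (mbase A F) (rBase A RX)) := by rw [ltr_snd]; infer_instance
  haveI : IsProper (ltr A RX h) := IsProper.of_comp _ (pullback.snd (mbase A F) (rBase A RX))
  exact (ltr A RX h).isClosedMap

end EtSmAcycLib
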