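import Groth.Agent.EtSmAcycLib.Models
import Groth.Agent.EtSmAcycLib.Limit
import Groth.Agent.EtSmAcycLib.Dominate
import Groth.Agent.EtSmAcycLib.BaseRing
import Groth.Agent.EtSmAcycLib.Lift
import Groth.Agent.EtSmAcycLib.LineMain

/-!
# Some model carries no obstruction
-/

set_option autoImplicit false
set_option linter.all false
set_option backward.isDefEq.respectTransparency false
set_option backward.isDefEq.respectTransparency.types false
set_option synthInstance.maxHeartbeats 400000
set_option maxHeartbeats 4000000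

universe u

open CategoryTheory CategoryTheory.Limits CategoryTheory.Abelian AlgebraicGeometry Opposite
open Groth.Agent Groth.Agent.EtShLib EtRpushStalkLib EtContLib
open scoped TensorProduct Polynomial

attribute [local instance] EtSliceLib.pullExact

noncomputable section

namespace EtSmAcycLib

theorem specOf_closedPoint {X : Scheme.{u}} (x : X) (R : Type u) [CommRing R] [IsLocalRing R]
    [Algebra (X.presheaf.stalk x) R] [IsLocalHom (algebraMap (X.presheaf.stalk x) R)] :
    (Hens2.specOf X x R).base (IsLocalRing.closedPoint R) = x := by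
  show (X.fromSpecStalk x).base (PrimeSpectrum.comap (algebraMap (X.presheaf.stalk x) R) (IsLocalRing.closedPoint R)) = x
  rw [IsLocalRing.comap_closedPoint]
  exact Scheme.fromSpecStalk_closedPoint

theorem toSpecΓ_specMap {L : Scheme.{u}} {R : CommRingCat.{u}} (f : L ⟶ Spec R) :
    L.toSpecΓ ≫ Spec.map ((Scheme.ΓSpecIso R).inv ≫ f.appTop) = f := by
  rw [Spec.map_comp, ← Scheme.toSpecΓ_naturality_assoc]
  simp

/-- Lifts pull back along morphisms of models. -/
theorem lifts_of_comp {Z X X' : Scheme.{u}} {F : EtCoh.Ab Z}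
    {t : ToType ((cokernel (Injective.ι F)).obj.obj (op (EtCoh.top Z)))} (j : Z ⟶ X) (j' : Z ⟶ X') (k : X ⟶ X')
    (w : j ≫ k = j') (U' : X'.Etale) (h : Lifts F t ((EtCoh.bc j').obj U')) :
    Lifts F t ((EtCoh.bc j).obj ((EtCoh.bc k).obj U')) :=
  h.mono F (MorphismProperty.Over.homMk
    (pullback.lift (pullback.fst ((EtCoh.bc k).obj U').hom j ≫ pullback.fst U'.hom k)
      (pullback.snd ((EtCoh.bc k).obj U').hom j) (by
        rw [Category.assoc, pullback.condition, ← w]
        exact (Category.assoc _ _ _).symm.trans ((congrArg (· ≫ k) pullback.condition).trans (Category.assoc _ _ _))))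
    (pullback.lift_snd _ _ _))

/-- Over the empty scheme everything lifts. -/
theorem lifts_of_isEmpty {Z : Scheme.{u}} {F : EtCoh.Ab Z}
    (t : ToType ((cokernel (Injective.ι F)).obj.obj (op (EtCoh.top Z)))) (W : Z.Etale) [IsEmpty ↥W.left] :
    Lifts F t W :=
  ⟨0, eq_of_germ _ _ _ fun Ω _ _ ξ v => isEmptyElim v.pt⟩

theorem exists_finset {A : Type u} [CommRing A] {V RX : Type u} [CommRing V] [Algebra A V] [CommRing RX] [Algebra A RX]
    (c : V ⊗[A] RX) : ∃ G : Finset V, ∀ S : Subring (V ⊗[A] RX), (∀ r : RX, (1 : V) ⊗ₜ r ∈ S) →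
      (∀ g ∈ G, g ⊗ₜ (1 : RX) ∈ S) → c ∈ S := by
  classical
  induction c using TensorProduct.induction_on with
  | zero => exact ⟨∅, fun S _ _ => S.zero_mem⟩
  | tmul v r =>
    refine ⟨{v}, fun S h1 h2 => ?_⟩
    have := S.mul_mem (h2 v (Finset.mem_singleton_self v)) (h1 r)
    rwa [Algebra.TensorProduct.tmul_mul_tmul, mul_one, one_mul] at this
  | add a b ha hb =>
    obtain ⟨G, hG⟩ := ha
    obtain ⟨G', hG'⟩ := hb
    exact ⟨G ∪ G', fun S h1 h2 => S.add_mem (hG S h1 fun g hg => h2 g (Finset.mem_union_left _ hg))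
      (hG' S h1 fun g hg => h2 g (Finset.mem_union_right _ hg))⟩

variable (A : Type u) [CommRing A] [Nontrivial A] {Ω : Type u} [Field Ω] [Algebra A Ω]

theorem mtr_refl (F : Finset Ω) : mtr A (subset_refl F) = 𝟙 _ :=
  mdl_ext A (fun g hg => by rw [mtr_mproj, Category.id_comp]) (by rw [mtr_mbase, Category.id_comp])

variable (RX : Type u) [CommRing RX] [Algebra A RX]

theorem ltr_refl (F : Finset Ω) : ltr A RX (subset_refl F) = 𝟙 _ :=
  pullback.hom_ext (by rw [ltr_fst, mtr_refl, Category.comp_id, Category.id_comp]) (by rw [ltr_snd, Category.id_comp])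

variable (ℓ : ℕ)

/-- The constant sheaf on the geometric fibre. -/
abbrev Fz (Ω : Type u) [Field Ω] [Algebra A Ω] : EtCoh.Ab (gFib A RX Ω) := EtCoh.const (gFib A RX Ω) (ZMod ℓ)

variable {A RX ℓ} (t : ToType ((cokernel (Injective.ι (Fz A RX ℓ Ω))).obj.obj (op (EtCoh.top (gFib A RX Ω)))))

/-- Points with a neighbourhood on which the section lifts. -/
def GoodPts (F : Finset Ω) : Set (lmdl A RX F) :=
  {x | ∃ U : (lmdl A RX F).Etale, x ∈ Set.range U.hom.base ∧
    Lifts (Fz A RX ℓ Ω) t ((EtCoh.bc (lsec A RX F)).obj U)}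

theorem isOpen_goodPts (F : Finset Ω) : IsOpen (GoodPts t F) := by
  refine isOpen_iff_forall_mem_open.2 fun x hx => ?_
  obtain ⟨U, hU, hL⟩ := hx
  haveI : AlgebraicGeometry.Etale U.hom := U.prop
  exact ⟨Set.range U.hom.base, fun y hy => ⟨U, hy, hL⟩, U.hom.isOpenMap.isOpen_range, hU⟩

theorem goodPts_ltr {F G : Finset Ω} (h : F ⊆ G) (x : lmdl A RX G) (hx : (ltr A RX h).base x ∈ GoodPts t F) :
    x ∈ GoodPts t G := by
  obtain ⟨U, hU, hL⟩ := hx
  refine ⟨(EtCoh.bc (ltr A RX h)).obj U, ?_, lifts_of_comp _ _ _ (lsec_ltr A RX h) U hL⟩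
  show x ∈ Set.range (pullback.snd U.hom (ltr A RX h)).base
  rw [Scheme.Pullback.range_snd]
  exact hU

theorem goodPts_of_not_specializes (F : Finset Ω) (x : lmdl A RX F)
    (hx : ¬ (msec A F).base default ⤳ (pullback.fst (mbase A F) (rBase A RX)).base x) : x ∈ GoodPts t F := by
  let p := pullback.fst (mbase A F) (rBase A RX)
  let O : (lmdl A RX F).Opens :=
    ⟨p.base ⁻¹' (closure {(msec A F).base default})ᶜ, isClosed_closure.isOpen_compl.preimage p.continuous⟩
  let U : (lmdl A RX F).Etale := MorphismProperty.Over.mk ⊤ O.ι (inferInstanceAs (AlgebraicGeometry.Etale O.ι))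
  have hxO : x ∈ O := fun h => hx (specializes_iff_mem_closure.2 h)
  haveI : IsEmpty ↥((EtCoh.bc (lsec A RX F)).obj U).left := ⟨fun w => by
    have h1 : U.hom.base ((pullback.fst U.hom (lsec A RX F)).base w) =
        (lsec A RX F).base ((pullback.snd U.hom (lsec A RX F)).base w) :=
      congrArg (fun f : _ ⟶ lmdl A RX F => f.base w) (pullback.condition (f := U.hom) (g := lsec A RX F))
    have h2 : p.base ((lsec A RX F).base ((pullback.snd U.hom (lsec A RX F)).base w)) =
        (msec A F).base default := by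
      show ((lsec A RX F ≫ p).base _) = _
      rw [(isPullback_lsec A RX F).w.symm]
      exact congrArg (msec A F).base (Subsingleton.elim (α := PrimeSpectrum Ω) _ _)
    have h3 : p.base (U.hom.base ((pullback.fst U.hom (lsec A RX F)).base w)) ∈
        (closure {(msec A F).base default})ᶜ := ((pullback.fst U.hom (lsec A RX F)).base w).2
    rw [h1, h2] at h3
    exact h3 (subset_closure rfl)⟩
  refine ⟨U, ?_, lifts_of_isEmpty t _⟩
  show x ∈ Set.range O.ι.base
  rw [Scheme.Opens.range_ι]
  exact hxO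

variable [IsAlgClosed Ω] [HenselianLocalRing A] [IsSepClosed (IsLocalRing.ResidueField A)] [HenselianLocalRing RX]
  [Algebra A[X] RX] [IsScalarTower A A[X] RX] [Algebra.WeaklyEtale A[X] RX] [IsLocalHom (algebraMap A RX)]

set_option maxHeartbeats 8000000 in
/-- Some model has no bad points. -/
theorem exists_goodPts (hℓp : ℓ.Prime) (hℓ : IsUnit (ℓ : A)) : ∃ F : Finset Ω, GoodPts t F = Set.univ := by
  classical
  by_contra hcon
  push Not at hcon
  haveI : ∀ F : Finset Ω, IsProper (mbase A F) := isProper_mbase A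
  haveI : ∀ F : Finset Ω, CompactSpace ↥(lmdl A RX F) := fun F =>
    haveI : IsProper (pullback.snd (mbase A F) (rBase A RX)) := MorphismProperty.pullback_snd _ _ inferInstance
    QuasiCompact.compactSpace_of_compactSpace (pullback.snd (mbase A F) (rBase A RX))
  obtain ⟨z, hz⟩ := exists_compatible_closed_points (fun F : Finset Ω => ↥(lmdl A RX F))
    (fun {F G} h => (ltr A RX h).base) (fun h => (ltr A RX h).continuous) (fun h => isClosedMap_ltr A RX h)
    (fun h h' x => by
      show (ltr A RX h' ≫ ltr A RX h).base x = _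
      rw [ltr_ltr])
    (fun F x => by rw [ltr_refl]; rfl) (fun F => (GoodPts t F)ᶜ) (fun F => (isOpen_goodPts t F).isClosed_compl)
    (fun F => Set.nonempty_compl.2 (hcon F)) (fun h x hx hx' => hx (goodPts_ltr t h x hx'))
  let p := fun F : Finset Ω => pullback.fst (mbase A F) (rBase A RX)
  let y : ∀ F : Finset Ω, mdl A F := fun F => (p F).base (z F)
  have hy : ∀ F, (msec A F).base default ⤳ y F := fun F =>
    by_contra fun hn => (hz F).1 (goodPts_of_not_specializes t F (z F) hn)
  have hty : ∀ {F G : Finset Ω} (h : F ≤ G), (mtr A h).base (y G) = y F := fun {F G} h => by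
    show (p G ≫ mtr A h).base (z G) = _
    rw [← ltr_fst A RX h]
    exact congrArg (p F).base ((hz F).2.2 G h)
  obtain ⟨V, v, hv⟩ := exists_valuationSubring_system (fun F : Finset Ω => mdl A F) (fun {F G} h => mtr A h)
    (msec A) (fun h => msec_mtr A h) y hy hty
  let gen : Spec (CommRingCat.of Ω) ⟶ Spec (CommRingCat.of V) := Spec.map (CommRingCat.ofHom V.subtype)
  haveI : IsDominant gen := ⟨by
    refine (PrimeSpectrum.denseRange_comap_iff_ker_le_nilRadical _).2 ?_
    rw [(RingHom.injective_iff_ker_eq_bot _).1 Subtype.val_injective]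
    exact bot_le⟩
  let a : A →+* V := (Spec.preimage (v ∅ ≫ mbase A ∅)).hom
  have hgenσ : ∀ F, gen ≫ v F ≫ mbase A F = Spec.map (CommRingCat.ofHom (algebraMap A Ω)) := fun F => by
    rw [← Category.assoc, (hv F).1, msec_mbase]
  have hsub : ∀ x, (a x : Ω) = algebraMap A Ω x := fun x => by
    have h : CommRingCat.ofHom a ≫ CommRingCat.ofHom V.subtype = CommRingCat.ofHom (algebraMap A Ω) :=
      Spec.map_injective (by
        rw [Spec.map_comp, ← hgenσ ∅]
        exact congrArg (gen ≫ ·) (Spec.map_preimage _))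
    exact RingHom.congr_fun (congrArg CommRingCat.Hom.hom h) x
  letI : Algebra A V := a.toAlgebra
  haveI : IsScalarTower A V Ω := IsScalarTower.of_algebraMap_eq fun x => (hsub x).symm
  have hvb : ∀ F, v F ≫ mbase A F = Spec.map (CommRingCat.ofHom a) := fun F => by
    refine ext_of_isDominant gen ((hgenσ F).trans ?_)
    rw [← hgenσ ∅]
    exact congrArg (gen ≫ ·) (Spec.map_preimage _).symm
  have hvt : ∀ {F G : Finset Ω} (h : F ⊆ G), v G ≫ mtr A h = v F := fun {F G} h => by
    refine ext_of_isDominant_of_isSeparated (mbase A F) (by rw [Category.assoc, mtr_mbase, hvb, hvb]) gen ?_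
    rw [← Category.assoc, (hv G).1, msec_mtr, (hv F).1]
  -- the model over the valuation ring
  let C := V ⊗[A] RX
  let XV := Spec (CommRingCat.of C)
  let inL : XV ⟶ Spec (CommRingCat.of V) := Spec.map (CommRingCat.ofHom Algebra.TensorProduct.includeLeftRingHom)
  let inR : XV ⟶ Spec (CommRingCat.of RX) :=
    Spec.map (CommRingCat.ofHom (Algebra.TensorProduct.includeRight : RX →ₐ[A] C).toRingHom)
  have right : IsPullback inR inL (rBase A RX) (Spec.map (CommRingCat.ofHom a)) :=
    (isPullback_SpecMap_of_isPushout _ _ _ _ (CommRingCat.isPushout_tensorProduct A V RX)).flip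
  let w : ∀ F, XV ⟶ lmdl A RX F := fun F => pullback.lift (inL ≫ v F) inR (by
    rw [Category.assoc, hvb]
    exact right.w.symm)
  have sqw : ∀ F, IsPullback (w F) inL (p F) (v F) := fun F => by
    refine IsPullback.of_right ?_ (pullback.lift_fst _ _ _) (IsPullback.of_hasPullback (mbase A F) (rBase A RX)).flip
    rw [pullback.lift_snd, hvb]
    exact right
  have hwt : ∀ {F G : Finset Ω} (h : F ⊆ G), w G ≫ ltr A RX h = w F := fun {F G} h =>
    pullback.hom_ext (by rw [Category.assoc, ltr_fst, pullback.lift_fst_assoc, Category.assoc, hvt, pullback.lift_fst])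
      (by rw [Category.assoc, ltr_snd, pullback.lift_snd, pullback.lift_snd])
  let m : Spec (CommRingCat.of V) := IsLocalRing.closedPoint V
  obtain ⟨zV, hzV⟩ : (⋂ F, (w F).base ⁻¹' {z F} ∩ inL.base ⁻¹' {m}).Nonempty := by
    have hc : ∀ F, IsClosed ((w F).base ⁻¹' {z F} ∩ inL.base ⁻¹' {m}) := fun F =>
      ((hz F).2.1.preimage (w F).continuous).inter
        ((IsLocalRing.isClosed_singleton_closedPoint (R := V)).preimage inL.continuous)
    refine IsCompact.nonempty_iInter_of_directed_nonempty_isCompact_isClosed _ (fun F G => ?_) (fun F => ?_)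
      (fun F => (hc F).isCompact) hc
    · refine ⟨F ∪ G, fun x hx => ⟨?_, hx.2⟩, fun x hx => ⟨?_, hx.2⟩⟩
      · show (w F).base x = z F
        rw [← hwt Finset.subset_union_left]
        show (ltr A RX _).base ((w (F ∪ G)).base x) = _
        rw [show (w (F ∪ G)).base x = z (F ∪ G) from hx.1]
        exact (hz F).2.2 (F ∪ G) Finset.subset_union_left
      · show (w G).base x = z G
        rw [← hwt Finset.subset_union_right]
        show (ltr A RX _).base ((w (F ∪ G)).base x) = _
        rw [show (w (F ∪ G)).base x = z (F ∪ G) from hx.1]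
        exact (hz G).2.2 (F ∪ G) Finset.subset_union_right
    · obtain ⟨x, hx1, hx2⟩ := Scheme.Pullback.exists_preimage_pullback (f := p F) (g := v F) (z F) m ((hv F).2).symm
      refine ⟨(sqw F).isoPullback.inv.base x, ?_, ?_⟩
      · show ((sqw F).isoPullback.inv ≫ w F).base x = z F
        rw [IsPullback.isoPullback_inv_fst]
        exact hx1
      · show ((sqw F).isoPullback.inv ≫ inL).base x = m
        rw [IsPullback.isoPullback_inv_snd]
        exact hx2
  have hzV1 : ∀ F, (w F).base zV = z F := fun F => (Set.mem_iInter.1 hzV F).1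
  have hzV2 : inL.base zV = m := (Set.mem_iInter.1 hzV ∅).2
  -- the strict localisation at the limit point
  obtain ⟨W, _, _, _, _, hW⟩ := Groth.Agent.S0537.result (XV.presheaf.stalk zV)
  haveI : HenselianLocalRing W := hW.henselian
  haveI : IsSepClosed (IsLocalRing.ResidueField W) := hW.isSepClosure.sep_closed
  let gW := Hens2.specOf XV zV W
  haveI : WeaklyEtale gW := Groth.Agent.S0754.result XV zV W
  haveI := weaklyEtale_κline A V RX
  let aVW : V →+* W := (Spec.preimage (gW ≫ inL)).hom
  let aXW : V[X] →+* W := (Spec.preimage (gW ≫ Spec.map (CommRingCat.ofHom (κline A V RX)))).hom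
  letI : Algebra V W := aVW.toAlgebra
  letI : Algebra V[X] W := aXW.toAlgebra
  have eVW : Spec.map (CommRingCat.ofHom (algebraMap V W)) = gW ≫ inL := Spec.map_preimage _
  haveI : Algebra.WeaklyEtale V[X] W := EtAcycFibLib.weaklyEtale_ring (by
    show WeaklyEtale (Spec.map (Spec.preimage (gW ≫ Spec.map (CommRingCat.ofHom (κline A V RX)))))
    rw [Spec.map_preimage]
    infer_instance)
  haveI : IsScalarTower V V[X] W := IsScalarTower.of_algebraMap_eq' (congrArg CommRingCat.Hom.hom
    (Spec.map_injective (show Spec.map (CommRingCat.ofHom aVW) =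
        Spec.map (CommRingCat.ofHom (Polynomial.C : V →+* V[X]) ≫ CommRingCat.ofHom aXW) by
      rw [Spec.map_comp]
      show Spec.map (Spec.preimage (gW ≫ inL)) =
        Spec.map (Spec.preimage (gW ≫ Spec.map (CommRingCat.ofHom (κline A V RX)))) ≫ _
      rw [Spec.map_preimage, Spec.map_preimage]
      refine (congrArg (fun f => gW ≫ f) ?_).trans (Category.assoc _ _ _).symm
      rw [← Spec.map_comp]
      exact congrArg Spec.map (CommRingCat.hom_ext (RingHom.ext fun x => (κline_C A V RX x).symm)))))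
  have hloc : ∀ x : V, ¬ IsUnit x → ¬ IsUnit (algebraMap V W x) := by
    intro x hx
    have h : (Spec.map (CommRingCat.ofHom (algebraMap V W))).base (IsLocalRing.closedPoint W) = m := by
      rw [eVW]
      show inL.base (gW.base (IsLocalRing.closedPoint W)) = m
      rw [specOf_closedPoint]
      exact hzV2
    have : x ∈ ((Spec.map (CommRingCat.ofHom (algebraMap V W))).base (IsLocalRing.closedPoint W)).asIdeal := by
      rw [h]
      exact (IsLocalRing.mem_maximalIdeal _).2 hx
    exact this
  have hℓV : IsUnit (ℓ : V) := map_natCast a ℓ ▸ hℓ.map a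
  have hval := subsingleton_H1_valuation V Ω ℓ hℓp hℓV W hloc
  -- the geometric fibre over the valuation ring
  have big : IsPullback (qR A RX Ω) (qΩ A RX Ω) (rBase A RX) (gen ≫ Spec.map (CommRingCat.ofHom a)) := by
    have : gen ≫ Spec.map (CommRingCat.ofHom a) = Spec.map (CommRingCat.ofHom (algebraMap A Ω)) := by
      rw [← hvb ∅]
      exact hgenσ ∅
    rw [this]
    exact (isPullback_gFib A RX Ω).flip
  let jV : gFib A RX Ω ⟶ XV := right.lift (qR A RX Ω) (qΩ A RX Ω ≫ gen) (by rw [Category.assoc]; exact big.w)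
  have sqj : IsPullback (qΩ A RX Ω) jV gen inL := by
    refine (IsPullback.of_right ?_ (right.lift_snd _ _ _) right).flip
    rw [right.lift_fst]
    exact big
  have hjw : ∀ F, jV ≫ w F = lsec A RX F := fun F => by
    refine pullback.hom_ext ?_ ?_
    · rw [Category.assoc, pullback.lift_fst, ← Category.assoc, right.lift_snd, Category.assoc, (hv F).1, lsec,
        pullback.lift_fst]
    · rw [Category.assoc, pullback.lift_snd, right.lift_fst, lsec, pullback.lift_snd]
  haveI : QuasiCompact gen := inferInstance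
  haveI : QuasiCompact jV := MorphismProperty.of_isPullback sqj (inferInstanceAs (QuasiCompact gen))
  haveI : QuasiSeparated jV := MorphismProperty.of_isPullback sqj (inferInstanceAs (QuasiSeparated gen))
  let Zb := Spec (CommRingCat.of (W ⊗[V] Ω))
  let iR : Zb ⟶ Spec (CommRingCat.of Ω) :=
    Spec.map (CommRingCat.ofHom Algebra.TensorProduct.includeRight.toRingHom)
  let iL : Zb ⟶ Spec (CommRingCat.of W) := Spec.map (CommRingCat.ofHom Algebra.TensorProduct.includeLeftRingHom)
  have bigW : IsPullback iR iL gen (gW ≫ inL) := by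
    rw [← eVW]
    exact (isPullback_SpecMap_of_isPushout _ _ _ _ (CommRingCat.isPushout_tensorProduct V W Ω)).flip
  let g' : Zb ⟶ gFib A RX Ω := sqj.lift iR (iL ≫ gW) (by rw [Category.assoc]; exact bigW.w)
  have sqW : IsPullback g' iL jV gW := by
    refine IsPullback.of_right ?_ (sqj.lift_snd _ _ _) sqj
    rw [sqj.lift_fst]
    exact bigW
  obtain ⟨Ch⟩ := EtRpushStalkLib.exists_chart zV W
  have hzero : IsZero ((stk (A := AddCommGrpCat.{u + 1}) (closedPt W ≫ gW)).obj (Qs jV (Fz A RX ℓ Ω))) := by
    rw [isZero_stalk_Qs_iff jV _ sqW Ch]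
    exact @Function.Injective.subsingleton _ _ _ (EtAcycLib.bijective_mk₀_iso_postcomp
      (Z := EtCoh.const Zb ℤ) (EtCore.pullConst g' (ZMod ℓ)) 1).1 hval
  obtain ⟨U, u₀, hlift⟩ := exists_lift_of_isZero jV (Fz A RX ℓ Ω) t hzero
  haveI : AlgebraicGeometry.Etale U.hom := U.prop
  have hu : U.hom.base u₀.pt = zV := by
    have h1 : U.hom.base u₀.pt = (closedPt W ≫ gW).base default := congrArg (fun f => f.base default) u₀.w
    rw [h1]
    show gW.base ((closedPt W).base default) = zV
    rw [EtBcQLib.closedPt_base]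
    exact specOf_closedPoint zV W
  obtain ⟨P, q, α, hα, hαq⟩ := exists_standard U.hom u₀.pt
  -- descend to a model
  choose Gc hGc using fun c : C => exists_finset c
  let G : Finset V := (P.f.support.biUnion fun i => Gc (P.f.coeff i)) ∪ (P.g.support.biUnion fun i => Gc (P.g.coeff i))
  let G' : Finset Ω := G.image Subtype.val
  have hproj : ∀ (g : V) (hg : (g : Ω) ∈ G'), v G' ≫ mproj A G' hg = ptOf (A := A) g := fun g hg => by
    haveI : IsProper (pA A) := StratLib.isProper_toSpec 1 A
    refine ext_of_isDominant_of_isSeparated (pA A) ?_ gen ?_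
    · rw [Category.assoc, WidePullback.π_arrow, hvb, ptOf_pA]
      rfl
    · rw [← Category.assoc, (hv G').1, msec_mproj, ptOf, ptOf, ← Category.assoc, ← Spec.map_comp]
      refine congrArg (fun f => Spec.map f ≫ ι0 A) (CommRingCat.hom_ext ?_)
      exact congrArg AlgHom.toRingHom (Polynomial.algHom_ext
        (f := Polynomial.aeval (g : Ω)) (g := (IsScalarTower.toAlgHom A V Ω).comp (Polynomial.aeval g))
        (by simp))
  haveI := isOpenImmersion_ι0 A
  let O : (mdl A G').Opens := ⟨⋂ g : {g : V // (g : Ω) ∈ G'}, (mproj A G' g.2).base ⁻¹' Set.range (ι0 A).base, by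
    haveI : Finite {g : V // (g : Ω) ∈ G'} := Finite.of_injective (fun g => (⟨g.1.1, g.2⟩ : {x // x ∈ G'}))
      fun g g' h => Subtype.ext (Subtype.ext (Subtype.mk.inj h))
    exact isOpen_iInter_of_finite fun g => (ι0 A).isOpenEmbedding.isOpen_range.preimage (mproj A G' g.2).continuous⟩
  have hyO : y G' ∈ O := Set.mem_iInter.2 fun g => by
    refine ⟨(Spec.map (CommRingCat.ofHom (Polynomial.aeval (R := A) g.1).toRingHom)).base m, ?_⟩
    show (ptOf (A := A) g.1).base m = (mproj A G' g.2).base (y G')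
    rw [← hproj g.1 g.2, ← (hv G').2]
    rfl
  obtain ⟨_, ⟨Wo, hWo, rfl⟩, hyW, hWO⟩ :=
    (mdl A G').isBasis_affineOpens.exists_subset_of_mem_open hyO O.2
  let O' : (lmdl A RX G').Opens := (p G') ⁻¹ᵁ Wo
  haveI : IsAffineHom (p G') := MorphismProperty.pullback_fst _ _ inferInstance
  have hO' : IsAffineOpen O' := hWo.preimage (p G')
  let B := Γ(lmdl A RX G', O')
  let ω := hO'.fromSpec
  have hwO : Set.range (w G').base ⊆ Set.range ω.base := by
    rintro _ ⟨x, rfl⟩
    rw [hO'.range_fromSpec]
    show (w G' ≫ p G').base x ∈ (Wo : Set _)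
    rw [(sqw G').w]
    exact ((IsLocalRing.specializes_closedPoint (R := V) (inL.base x)).map (v G').continuous).mem_open Wo.2
      (by rw [(hv G').2]; exact hyW)
  let wB : XV ⟶ Spec B := IsOpenImmersion.lift ω (w G') hwO
  have hwB : wB ≫ ω = w G' := IsOpenImmersion.lift_fac _ _ _
  let π : B →+* C := (Spec.preimage wB).hom
  have eπ : Spec.map (CommRingCat.ofHom π) = wB := Spec.map_preimage _
  have hR : ∀ r : RX, (1 : V) ⊗ₜ[A] r ∈ π.range := by
    intro r
    let e := Spec.preimage (ω ≫ pullback.snd (mbase A G') (rBase A RX))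
    have h : e ≫ CommRingCat.ofHom π = CommRingCat.ofHom (Algebra.TensorProduct.includeRight : RX →ₐ[A] C).toRingHom :=
      Spec.map_injective (by
        rw [Spec.map_comp, Spec.map_preimage, eπ, ← Category.assoc, hwB, pullback.lift_snd])
    exact ⟨e.hom r, RingHom.congr_fun (congrArg CommRingCat.Hom.hom h) r⟩
  have hG : ∀ g ∈ G, g ⊗ₜ[A] (1 : RX) ∈ π.range := by
    intro g hg
    have hg' : (g : Ω) ∈ G' := Finset.mem_image_of_mem _ hg
    let ηg : Spec B ⟶ Spec (CommRingCat.of A[X]) :=
      IsOpenImmersion.lift (ι0 A) (ω ≫ p G' ≫ mproj A G' hg') (by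
        rintro _ ⟨x, rfl⟩
        have hx : (p G').base (ω.base x) ∈ (Wo : Set _) := by
          have hx' : ω.base x ∈ Set.range ω.base := ⟨x, rfl⟩
          rw [hO'.range_fromSpec] at hx'
          exact hx'
        exact Set.mem_iInter.1 (hWO hx) ⟨g, hg'⟩)
    have h : Spec.preimage ηg ≫ CommRingCat.ofHom π =
        CommRingCat.ofHom ((Algebra.TensorProduct.includeLeftRingHom : V →+* C).comp
          (Polynomial.aeval (R := A) g).toRingHom) :=
      Spec.map_injective (by
        rw [Spec.map_comp, Spec.map_preimage, eπ, CommRingCat.ofHom_comp, Spec.map_comp, ← cancel_mono (ι0 A),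
          Category.assoc, IsOpenImmersion.lift_fac, ← Category.assoc, hwB, pullback.lift_fst_assoc, Category.assoc,
          hproj g hg', ptOf, Category.assoc])
    refine ⟨(Spec.preimage ηg).hom Polynomial.X, (RingHom.congr_fun (congrArg CommRingCat.Hom.hom h) _).trans ?_⟩
    show Algebra.TensorProduct.includeLeftRingHom (Polynomial.aeval (R := A) g Polynomial.X) = _
    rw [Polynomial.aeval_X]
    rfl
  have hcoef : ∀ (h : C[X]) (i : ℕ), (∀ j ∈ h.support, Gc (h.coeff j) ⊆ G) → h.coeff i ∈ π.range := by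
    intro h i hsub'
    by_cases hi : i ∈ h.support
    · exact hGc _ π.range hR fun g hg => hG g (hsub' i hi hg)
    · rw [Polynomial.notMem_support_iff.1 hi]
      exact π.range.zero_mem
  obtain ⟨P', aR, haR, hP'⟩ := exists_pair_lift π P
    (fun i => hcoef P.f i fun j hj => (Finset.subset_biUnion_of_mem (fun i => Gc (P.f.coeff i)) hj).trans
      Finset.subset_union_left)
    (fun i => hcoef P.g i fun j hj => (Finset.subset_biUnion_of_mem (fun i => Gc (P.g.coeff i)) hj).trans
      Finset.subset_union_right)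
  let f' := Spec.map (CommRingCat.ofHom (algebraMap B P'.Ring))
  haveI : AlgebraicGeometry.Etale f' := (HasRingHomProperty.Spec_iff (P := @AlgebraicGeometry.Etale)).2 (by
    show (algebraMap B P'.Ring).Etale
    exact RingHom.etale_algebraMap.2 inferInstance)
  let U' : (lmdl A RX G').Etale := MorphismProperty.Over.mk ⊤ (f' ≫ ω)
    (inferInstanceAs (AlgebraicGeometry.Etale (f' ≫ ω)))
  refine (hz G').1 ⟨U', ⟨(Spec.map (CommRingCat.ofHom aR)).base q, ?_⟩, ?_⟩
  · show ((Spec.map (CommRingCat.ofHom aR)) ≫ f' ≫ ω).base q = z G'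
    rw [← Category.assoc, ← Spec.map_comp, ← CommRingCat.ofHom_comp, haR, CommRingCat.ofHom_comp, Spec.map_comp,
      eπ, Category.assoc, hwB, ← hα]
    show (w G').base (U.hom.base (α.base q)) = z G'
    rw [hαq, hu]
    exact hzV1 G'
  · refine hlift.mono _ (W' := (EtCoh.bc (lsec A RX G')).obj U') ?_
    let L := ((EtCoh.bc (lsec A RX G')).obj U').left
    let b : L ⟶ Spec (CommRingCat.of P'.Ring) := pullback.fst (f' ≫ ω) (lsec A RX G')
    let c : L ⟶ XV := pullback.snd (f' ≫ ω) (lsec A RX G') ≫ jV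
    have hbc : b ≫ f' = c ≫ Spec.map (CommRingCat.ofHom π) := by
      rw [eπ, ← cancel_mono ω, Category.assoc, Category.assoc, hwB]
      exact pullback.condition.trans
        ((congrArg (fun k => pullback.snd (f' ≫ ω) (lsec A RX G') ≫ k) (hjw G').symm).trans
          (Category.assoc _ _ _).symm)
    let φb := (Scheme.ΓSpecIso _).inv ≫ b.appTop
    let φc := (Scheme.ΓSpecIso (CommRingCat.of C)).inv ≫ c.appTop
    have hφ : CommRingCat.ofHom π ≫ φc = CommRingCat.ofHom (algebraMap B P'.Ring) ≫ φb := by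
      have h1 := congrArg Scheme.Hom.appTop hbc
      rw [Scheme.Hom.comp_appTop, Scheme.Hom.comp_appTop] at h1
      show CommRingCat.ofHom π ≫ (Scheme.ΓSpecIso _).inv ≫ c.appTop = _
      rw [Scheme.ΓSpecIso_inv_naturality_assoc, Scheme.ΓSpecIso_inv_naturality_assoc]
      exact congrArg ((Scheme.ΓSpecIso B).inv ≫ ·) h1.symm
    let hex := hP' Γ(L, ⊤) φc.hom φb.hom (congrArg CommRingCat.Hom.hom hφ)
    let r := hex.choose
    have hr := hex.choose_spec
    let γ : L ⟶ U.left := L.toSpecΓ ≫ Spec.map (CommRingCat.ofHom r) ≫ α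
    have hγ : γ ≫ U.hom = pullback.snd (f' ≫ ω) (lsec A RX G') ≫ jV := by
      show (L.toSpecΓ ≫ Spec.map (CommRingCat.ofHom r) ≫ α) ≫ U.hom = c
      rw [Category.assoc, Category.assoc, hα, ← Spec.map_comp]
      refine Eq.trans ?_ (toSpecΓ_specMap c)
      exact congrArg (fun f => L.toSpecΓ ≫ Spec.map f) (CommRingCat.hom_ext hr)
    exact MorphismProperty.Over.homMk (pullback.lift γ (pullback.snd (f' ≫ ω) (lsec A RX G')) hγ)
      (pullback.lift_snd _ _ _)

end EtSmAcycLib
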