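import Groth.Agent.WEtNormalLib.Local
import Groth.Agent.WEtNormalLib.Valuation

/-!
# Elements of strict localisations at the Gauss point
-/

set_option autoImplicit false
set_option linter.all false
set_option backward.isDefEq.respectTransparency false
set_option maxHeartbeats 1000000

universe u

open Polynomial TensorProduct
open Groth.Agent

noncomputable section

namespace EtSmAcycLib

/-- A root of a polynomial with a unit coefficient over a normal local domain lies in it or its inverse does. -/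
theorem mem_or_inv_mem {W : Type u} [CommRing W] [IsDomain W] [IsLocalRing W] [IsIntegrallyClosed W] {L : Type u}
    [Field L] [Algebra W L] [IsFractionRing W L] (x : L) : ∀ (d : ℕ) (a : ℕ → W),
    (∑ i ∈ Finset.range (d + 1), algebraMap W L (a i) * x ^ i = 0) → (∃ i, i ≤ d ∧ IsUnit (a i)) →
    (∃ w, algebraMap W L w = x) ∨ ∃ w, algebraMap W L w = x⁻¹ := by
  intro d
  induction d with
  | zero =>
    rintro a h ⟨i, hi, hu⟩
    obtain rfl : i = 0 := by omega
    simp at h
    exact absurd (h ▸ hu) not_isUnit_zero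
  | succ d ih =>
    rintro a h ⟨i, hi, hu⟩
    have hy : IsIntegral W (algebraMap W L (a (d + 1)) * x) := by
      let c : W := a (d + 1)
      refine ⟨X ^ (d + 1) + ∑ i ∈ Finset.range (d + 1), C (a i * c ^ (d - i)) * X ^ i, ?_, ?_⟩
      · refine monic_X_pow_add ((degree_sum_le _ _).trans_lt ((Finset.sup_lt_iff (WithBot.bot_lt_coe _)).2 fun k hk =>
          (degree_C_mul_X_pow_le k _).trans_lt (by exact_mod_cast Finset.mem_range.1 hk)))
      · rw [eval₂_add, eval₂_X_pow, eval₂_finsetSum]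
        have h' : algebraMap W L c ^ d * ∑ i ∈ Finset.range (d + 1 + 1), algebraMap W L (a i) * x ^ i = 0 := by
          rw [h, mul_zero]
        rw [Finset.sum_range_succ, mul_add, Finset.mul_sum] at h'
        refine Eq.trans ?_ h'
        rw [add_comm]
        congr 1
        · refine Finset.sum_congr rfl fun k hk => ?_
          have hk' : k ≤ d := Nat.lt_succ_iff.1 (Finset.mem_range.1 hk)
          rw [eval₂_mul, eval₂_C, eval₂_X_pow, map_mul, map_pow, mul_pow]
          conv_rhs => rw [show d = (d - k) + k from (Nat.sub_add_cancel hk').symm, pow_add]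
          ring
        · simp only [c, mul_pow, pow_succ]
          ring
    obtain ⟨y, hy'⟩ := (isIntegrallyClosed_iff L).1 ‹IsIntegrallyClosed W› hy
    by_cases hu1 : IsUnit (a (d + 1))
    · refine Or.inl ⟨y * ↑hu1.unit⁻¹, ?_⟩
      rw [map_mul, hy', mul_comm, ← mul_assoc, ← map_mul, IsUnit.val_inv_mul, map_one, one_mul]
    have hi' : i ≤ d := by
      rcases Nat.lt_or_eq_of_le hi with h' | rfl
      · omega
      · exact absurd hu hu1
    by_cases hid : i = d ∧ IsUnit y
    · refine Or.inr ⟨a (d + 1) * ↑hid.2.unit⁻¹, ?_⟩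
      have hy0 : algebraMap W L y ≠ 0 := (hid.2.map (algebraMap W L)).ne_zero
      have e1 : algebraMap W L ↑hid.2.unit⁻¹ * algebraMap W L y = 1 := by
        rw [← map_mul, IsUnit.val_inv_mul, map_one]
      have hx0 : x ≠ 0 := by
        rintro rfl
        exact hy0 (hy'.trans (mul_zero _))
      apply mul_right_cancel₀ hx0
      rw [inv_mul_cancel₀ hx0, map_mul, mul_right_comm, ← hy', mul_comm, e1]
    refine ih (fun k => if k = d then y + a d else a k) ?_ ⟨i, hi', ?_⟩
    · refine Eq.trans ?_ h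
      rw [Finset.sum_range_succ _ d, Finset.sum_range_succ _ (d + 1), Finset.sum_range_succ _ d, add_assoc]
      congr 1
      · exact Finset.sum_congr rfl fun k hk => by rw [if_neg (Finset.mem_range.1 hk).ne]
      · rw [if_pos rfl, map_add, hy', pow_succ]
        ring
    · show IsUnit (if i = d then y + a d else a i)
      split_ifs with hd'
      · subst hd'
        have hy1 : ¬ IsUnit y := fun h' => hid ⟨rfl, h'⟩
        by_contra h'
        have h0 := IsLocalRing.nonunits_add (show y + a i ∈ nonunits W from h')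
          (show -y ∈ nonunits W from fun h'' => hy1 (neg_neg y ▸ h''.neg))
        exact h0 (by rwa [add_comm y, add_neg_cancel_right])
      · exact hu

variable {V : Type u} [CommRing V] [IsDomain V] [ValuationRing V]

/-- Greatest content element. -/
theorem exists_dvd_all {ι : Type*} (s : Finset ι) (hs : s.Nonempty) (v : ι → V) : ∃ i ∈ s, ∀ k ∈ s, v i ∣ v k := by
  classical
  induction hs using Finset.Nonempty.cons_induction with
  | singleton a => exact ⟨a, Finset.mem_singleton_self _, fun k hk => by rw [Finset.mem_singleton.1 hk]⟩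
  | cons a s ha hs ih =>
    obtain ⟨i, hi, h⟩ := ih
    rcases ValuationRing.dvd_total (v a) (v i) with h' | h'
    · exact ⟨a, Finset.mem_cons_self a s, fun k hk => (Finset.mem_cons.1 hk).elim (fun e => by rw [e]) fun hk' =>
        h'.trans (h k hk')⟩
    · exact ⟨i, Finset.mem_cons_of_mem hi, fun k hk => (Finset.mem_cons.1 hk).elim (fun e => by rw [e]; exact h') (h k)⟩

/-- A nonzero polynomial is a scalar times a primitive one. -/
theorem exists_content (r : V[X]) (hr : r ≠ 0) : ∃ (v : V) (g : V[X]), v ≠ 0 ∧ r = C v * g ∧ ∃ i, IsUnit (g.coeff i) := by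
  obtain ⟨i, hi, h⟩ := exists_dvd_all r.support (support_nonempty.2 hr) r.coeff
  have hv : r.coeff i ≠ 0 := mem_support_iff.1 hi
  obtain ⟨g, hg⟩ := (C_dvd_iff_dvd_coeff (r.coeff i) r).2 fun k => by
    by_cases hk : k ∈ r.support
    · exact h k hk
    · rw [notMem_support_iff.1 hk]
      exact dvd_zero _
  refine ⟨_, g, hv, hg, i, ?_⟩
  have h1 : r.coeff i = r.coeff i * g.coeff i := by rw [← coeff_C_mul, ← hg]
  rw [show g.coeff i = 1 from mul_left_cancel₀ hv (h1.symm.trans (mul_one _).symm)]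
  exact isUnit_one

variable (V) in
/-- Strict localisations at the Gauss point: elements are scalars times units. -/
theorem exists_assoc (K : Type u) [Field K] [IsAlgClosed K] [Algebra V K] [IsFractionRing V K] (W : Type u)
    [CommRing W] [IsLocalRing W] [Algebra V[X] W] [Algebra.WeaklyEtale V[X] W]
    (hloc : ∀ v : V, ¬ IsUnit v → ¬ IsUnit (algebraMap V[X] W (C v)))
    (hprim : ∀ g : V[X], (∃ i, IsUnit (g.coeff i)) → IsUnit (algebraMap V[X] W g)) :
    IsDomain W ∧ Function.Injective (algebraMap V[X] W) ∧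
      ∀ w : W, w ≠ 0 → ∃ (v : V) (u : Wˣ), v ≠ 0 ∧ w = algebraMap V[X] W (C v) * u := by
  classical
  obtain ⟨hdom, hnorm⟩ := Groth.Agent.WEtNormalLib.normalDomain_of_weaklyEtale V[X] W
  haveI := hdom
  haveI := hnorm
  let φ := algebraMap V[X] W
  have hinj : Function.Injective φ := by
    refine (injective_iff_map_eq_zero _).2 fun r hr => ?_
    by_contra h0
    have h1 := (IsSMulRegular.of_flat (S := W) (IsRegular.of_ne_zero h0).left.isSMulRegular)
    have : (1 : W) = 0 := h1 (show φ r * 1 = φ r * 0 by rw [mul_zero, mul_one]; exact hr)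
    exact one_ne_zero this
  have hC : ∀ v : V, v ≠ 0 → φ (C v) ≠ 0 := fun v hv h => hv (C_eq_zero.1 (hinj (h.trans (map_zero φ).symm)))
  have halg : ∀ w : W, IsAlgebraic V[X] w := fun w => by
    let K' := FractionRing V[X]
    have hK : Function.Injective (algebraMap V[X] K') := IsFractionRing.injective _ K'
    haveI := WEtFieldLib.isIntegral (K := K') (B := K' ⊗[V[X]] W)
    have h1 : IsAlgebraic K' ((1 : K') ⊗ₜ[V[X]] w) := (Algebra.IsIntegral.isIntegral _).isAlgebraic
    exact (isAlgebraic_algHom_iff (Algebra.TensorProduct.includeRight : W →ₐ[V[X]] K' ⊗[V[X]] W)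
      (Algebra.TensorProduct.includeRight_injective hK)).1 ((IsFractionRing.isAlgebraic_iff V[X] K' (K' ⊗[V[X]] W)).2 h1)
  let L := FractionRing W
  let j := algebraMap W L
  have hj : Function.Injective j := IsFractionRing.injective W L
  -- a polynomial relation with a unit coefficient
  have hrel : ∀ (w : W) (s : V), s ≠ 0 → ∃ (d : ℕ) (q : ℕ → V) (e : ℕ → W),
      (∀ i, q i = 0 ∨ IsUnit (e i)) ∧ (∃ i, i ≤ d ∧ q i = 1 ∧ IsUnit (e i)) ∧
      ∑ i ∈ Finset.range (d + 1), j (φ (C (q i)) * e i) * (j w / j (φ (C s))) ^ i = 0 := by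
    intro w s hs
    obtain ⟨f, hf, hfw⟩ := halg w
    let d := f.natDegree
    have hct : ∀ i, ∃ (v : V) (g : V[X]), f.coeff i * C s ^ i = C v * g ∧ (v = 0 ∨ ∃ k, IsUnit (g.coeff k)) ∧
        (f.coeff i = 0 → v = 0) ∧ (f.coeff i ≠ 0 → v ≠ 0) := fun i => by
      by_cases h : f.coeff i = 0
      · exact ⟨0, 0, by simp [h], Or.inl rfl, fun _ => rfl, fun h' => absurd h h'⟩
      · obtain ⟨v, g, h1, h2, h3⟩ := exists_content (f.coeff i * C s ^ i) (mul_ne_zero h (pow_ne_zero _ (C_ne_zero.2 hs)))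
        exact ⟨v, g, h2, Or.inr h3, fun h' => absurd h' h, fun _ => h1⟩
    choose v g hvg hg hv0 hv1 using hct
    obtain ⟨i₀, hi₀, hmin⟩ := exists_dvd_all f.support (support_nonempty.2 hf) v
    have hv₀ : v i₀ ≠ 0 := hv1 _ (mem_support_iff.1 hi₀)
    have hdiv : ∀ k, ∃ q, v k = v i₀ * q := fun k => by
      by_cases hk : k ∈ f.support
      · exact hmin k hk
      · exact ⟨0, by rw [mul_zero, hv0 _ (notMem_support_iff.1 hk)]⟩
    choose q hq using hdiv
    refine ⟨d, q, fun i => φ (g i), fun i => ?_, ⟨i₀, le_natDegree_of_mem_supp _ hi₀,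
      mul_left_cancel₀ hv₀ ((hq i₀).symm.trans (mul_one _).symm), hprim _ ((hg i₀).resolve_left hv₀)⟩, ?_⟩
    · rcases hg i with h | h
      · exact Or.inl ((mul_eq_zero.1 ((hq i).symm.trans h)).resolve_left hv₀)
      · exact Or.inr (hprim _ h)
    · have hs' : j (φ (C s)) ≠ 0 := (map_ne_zero_iff _ hj).2 (hC s hs)
      refine (mul_eq_zero.1 (show j (φ (C (v i₀))) * _ = 0 from ?_)).resolve_left
        ((map_ne_zero_iff _ hj).2 (hC _ hv₀))
      rw [Finset.mul_sum]
      have e : ∀ i, j (φ (C (v i₀))) * (j (φ (C (q i)) * φ (g i)) * (j w / j (φ (C s))) ^ i) =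
          j (φ (f.coeff i)) * j w ^ i := fun i => by
        rw [← mul_assoc, ← map_mul, ← mul_assoc, ← map_mul φ, ← C_mul, ← hq i, ← map_mul φ, ← hvg i, map_mul,
          map_mul, map_pow, map_pow, div_pow, mul_assoc, mul_div_cancel₀ _ (pow_ne_zero _ hs')]
      rw [Finset.sum_congr rfl fun i _ => e i]
      have h0 := congrArg j hfw
      rw [aeval_eq_sum_range, map_sum, map_zero] at h0
      refine Eq.trans (Finset.sum_congr rfl fun i _ => ?_) h0
      rw [Algebra.smul_def, map_mul, map_pow]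
  -- nonzero elements divide scalars
  have hdvd : ∀ b : W, b ≠ 0 → ∃ v : V, v ≠ 0 ∧ b ∣ φ (C v) := fun b hb => by
    obtain ⟨r, hr, hbr⟩ := (halg b).exists_nonzero_dvd (mem_nonZeroDivisors_of_ne_zero hb)
    obtain ⟨v, g, hv, hvg, hg⟩ := exists_content r hr
    refine ⟨v, hv, ?_⟩
    rw [hvg] at hbr
    change b ∣ φ (C v * g) at hbr
    rw [map_mul] at hbr
    exact ((hprim _ hg).dvd_mul_right).1 hbr
  haveI hval : ValuationRing W := ValuationRing.iff_dvd_total.2 ⟨fun a b => by
    rcases eq_or_ne b 0 with rfl | hb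
    · exact Or.inl (dvd_zero a)
    obtain ⟨v, hv, b', hb'⟩ := hdvd b hb
    obtain ⟨d, q, e, hqe, ⟨i, hi, hq1, he1⟩, hsum⟩ := hrel (a * b') v hv
    have hx : j (a * b') / j (φ (C v)) = j a / j b := by
      have hb0 : j b' ≠ 0 := (map_ne_zero_iff _ hj).2 fun h => hC v hv (by rw [hb', h, mul_zero])
      rw [hb', map_mul, map_mul, mul_div_mul_right _ _ hb0]
    rw [hx] at hsum
    rcases mem_or_inv_mem (W := W) (L := L) (j a / j b) d (fun i => φ (C (q i)) * e i) hsum
        ⟨i, hi, by simp only [hq1, C_1, map_one, one_mul]; exact he1⟩ with ⟨w, hw⟩ | ⟨w, hw⟩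
    · refine Or.inr ⟨w, hj ?_⟩
      rw [map_mul, show j w = j a / j b from hw, mul_div_cancel₀ _ ((map_ne_zero_iff _ hj).2 hb)]
    · rcases eq_or_ne a 0 with rfl | ha
      · exact Or.inr (dvd_zero b)
      · refine Or.inl ⟨w, hj ?_⟩
        rw [map_mul, show j w = (j a / j b)⁻¹ from hw, inv_div, mul_div_cancel₀ _ ((map_ne_zero_iff _ hj).2 ha)]⟩
  refine ⟨inferInstance, hinj, fun w hw => ?_⟩
  obtain ⟨d, q, e, hqe, ⟨i₁, hi₁, hq1, he1⟩, hsum⟩ := hrel w 1 one_ne_zero
  rw [C_1, map_one, map_one, div_one] at hsum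
  let t : ℕ → W := fun i => φ (C (q i)) * e i * w ^ i
  have hsum' : ∑ i ∈ Finset.range (d + 1), t i = 0 := hj (by
    rw [map_sum, map_zero]
    refine Eq.trans (Finset.sum_congr rfl fun i _ => ?_) hsum
    rw [map_mul, map_pow])
  let S := (Finset.range (d + 1)).filter fun i => t i ≠ 0
  have ht1 : t i₁ ≠ 0 := by
    simp only [t, hq1, C_1, map_one, one_mul]
    exact mul_ne_zero he1.ne_zero (pow_ne_zero _ hw)
  have hS : S.Nonempty := ⟨i₁, Finset.mem_filter.2 ⟨Finset.mem_range.2 (Nat.lt_succ_of_le hi₁), ht1⟩⟩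
  obtain ⟨m₀, hm₀, hmd⟩ : ∃ i ∈ S, ∀ k ∈ S, t i ∣ t k := by
    haveI := hval
    exact exists_dvd_all S hS t
  obtain ⟨k, hk, hkm, hkd⟩ : ∃ k ∈ S, k ≠ m₀ ∧ t k ∣ t m₀ := by
    by_contra hcon
    push Not at hcon
    have hq' : ∀ k, ∃ r, k ∈ S.erase m₀ → t k = t m₀ * r ∧ r ∈ nonunits W := fun k => by
      by_cases hk : k ∈ S.erase m₀
      · obtain ⟨hne, hkS⟩ := Finset.mem_erase.1 hk
        obtain ⟨r, hr⟩ := hmd k hkS
        exact ⟨r, fun _ => ⟨hr, fun hu => hcon k hkS hne ⟨↑hu.unit⁻¹, by rw [hr, mul_assoc, IsUnit.mul_val_inv, mul_one]⟩⟩⟩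
      · exact ⟨0, fun h => absurd h hk⟩
    choose r hr using hq'
    have hms : ∑ k ∈ S.erase m₀, r k ∈ IsLocalRing.maximalIdeal W :=
      Ideal.sum_mem _ fun k hk => (IsLocalRing.mem_maximalIdeal _).2 (hr k hk).2
    have hu : IsUnit (1 + ∑ k ∈ S.erase m₀, r k) := by
      by_contra hn
      have := Ideal.sub_mem _ ((IsLocalRing.mem_maximalIdeal _).2 hn) hms
      rw [add_sub_cancel_right] at this
      exact (IsLocalRing.mem_maximalIdeal _).1 this isUnit_one
    have h0 : t m₀ * (1 + ∑ k ∈ S.erase m₀, r k) = 0 := by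
      rw [mul_add, mul_one, Finset.mul_sum, Finset.sum_congr rfl fun k hk => (hr k hk).1.symm,
        Finset.add_sum_erase S t hm₀]
      exact (Finset.sum_filter_ne_zero _).trans hsum'
    exact (Finset.mem_filter.1 hm₀).2 (hu.mul_left_eq_zero.1 h0)
  have hass : Associated (t k) (t m₀) := associated_of_dvd_dvd hkd (hmd k hk)
  have key : ∀ i k : ℕ, i < k → t i ≠ 0 → t k ≠ 0 → Associated (t i) (t k) →
      ∃ (c : V) (m : ℕ), 0 < m ∧ c ≠ 0 ∧ Associated (w ^ m) (φ (C c)) := by
    intro i k hik hi0 hk0 h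
    have hei : IsUnit (e i) := (hqe i).resolve_left fun h' => hi0 (by simp [t, h'])
    have hek : IsUnit (e k) := (hqe k).resolve_left fun h' => hk0 (by simp [t, h'])
    have h' : Associated (φ (C (q i)) * w ^ i) (φ (C (q k)) * w ^ (k - i) * w ^ i) := by
      rw [mul_assoc, ← pow_add, Nat.sub_add_cancel hik.le]
      refine ((?_ : Associated _ (t i)).trans h).trans (?_ : Associated (t k) _)
      · exact ⟨hei.unit, by rw [IsUnit.unit_spec]; simp only [t]; ring⟩
      · exact Associated.symm ⟨hek.unit, by rw [IsUnit.unit_spec]; simp only [t]; ring⟩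
    have h'' := h'.of_mul_right (Associated.refl _) (pow_ne_zero _ hw)
    have hqi : q i ≠ 0 := fun h0 => hi0 (by simp [t, h0])
    have hqk : q k ≠ 0 := fun h0 => hk0 (by simp [t, h0])
    by_cases hd : q k ∣ q i
    · obtain ⟨c, hc⟩ := hd
      refine ⟨c, k - i, by omega, fun h0 => hqi (by rw [hc, h0, mul_zero]), ?_⟩
      rw [hc, C_mul, map_mul] at h''
      exact (h''.of_mul_left (Associated.refl _) (hC _ hqk)).symm
    · obtain ⟨c, hc⟩ := (ValuationRing.dvd_total (q k) (q i)).resolve_left hd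
      rw [hc, C_mul, map_mul, mul_assoc] at h''
      have h1 := (Associated.of_mul_left (a := φ (C (q i))) (b := 1) (c := φ (C (q i))) (d := φ (C c) * w ^ (k - i))
        (by rw [mul_one]; exact h'') (Associated.refl _) (hC _ hqi)).symm
      have h2 : IsUnit (φ (C c)) := isUnit_of_mul_isUnit_left (associated_one_iff_isUnit.1 h1)
      refine absurd h2 (hloc c fun hc' => hd ⟨↑hc'.unit⁻¹, ?_⟩)
      rw [hc, mul_assoc, IsUnit.mul_val_inv, mul_one]
  obtain ⟨c, m, hm, hc, hcw⟩ : ∃ (c : V) (m : ℕ), 0 < m ∧ c ≠ 0 ∧ Associated (w ^ m) (φ (C c)) := by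
    rcases lt_or_gt_of_ne hkm with h | h
    · exact key k m₀ h (Finset.mem_filter.1 hk).2 (Finset.mem_filter.1 hm₀).2 hass
    · exact key m₀ k h (Finset.mem_filter.1 hm₀).2 (Finset.mem_filter.1 hk).2 hass.symm
  obtain ⟨c₀, hc₀⟩ := IsAlgClosed.exists_pow_nat_eq (algebraMap V K c) hm
  obtain ⟨c₁, hc₁⟩ := IsIntegrallyClosed.isIntegral_iff.1 (show IsIntegral V c₀ from
    IsIntegral.of_pow hm (by rw [hc₀]; exact isIntegral_algebraMap))
  have hc₁' : c₁ ^ m = c := IsFractionRing.injective V K (by rw [map_pow, hc₁, hc₀])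
  have hc₁0 : c₁ ≠ 0 := fun h => hc (by rw [← hc₁', h, zero_pow hm.ne'])
  obtain ⟨u, hu⟩ := hcw.symm
  have hy : (j w / j (φ (C c₁))) ^ m = j u := by
    rw [div_pow, div_eq_iff (pow_ne_zero _ ((map_ne_zero_iff _ hj).2 (hC _ hc₁0))), ← map_pow, ← map_pow,
      ← map_pow φ, ← C_pow, hc₁', ← map_mul, ← hu, mul_comm]
  obtain ⟨y, hy'⟩ := IsIntegrallyClosed.isIntegral_iff.1 (show IsIntegral W (j w / j (φ (C c₁))) from
    IsIntegral.of_pow hm (by rw [hy]; exact isIntegral_algebraMap))
  have hyu : IsUnit y := (isUnit_pow_iff hm.ne').1 (by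
    rw [show y ^ m = (u : W) from hj (by rw [map_pow, show j y = _ from hy', hy])]
    exact u.isUnit)
  refine ⟨c₁, hyu.unit, hc₁0, hj ?_⟩
  rw [IsUnit.unit_spec, map_mul, show j y = _ from hy', mul_div_cancel₀ _ ((map_ne_zero_iff _ hj).2 (hC _ hc₁0))]

end EtSmAcycLib
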